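import Cfsg.Agent.Lib.C5.UnitaryBase
import Cfsg.Agent.Lib.SL3Max.Flags
import Cfsg.Agent.Lib.Unitary.DecompMax

/-!
# The unitary plane

Frames of the hermitian plane and the one-centre criterion for overgroups in `SU₃(q)`.
Main results:
* `Frame`, `Frame.expand`, `Frame.gext`, `exists_frame`, `exists_frame_point`, `herm_ne_zero`
* `line_full`, `le_of_centre` : a subgroup without fixed points and with a centre is everything
* `Frame.eq_tu` : what fixes an isotropic vector and an anisotropic one orthogonal to it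
-/

set_option autoImplicit false
set_option linter.unusedSectionVars false

namespace Cfsg.Agent.SU3Max

open Matrix Cfsg.Agent.Transvect Cfsg.Agent.Unitary Cfsg.Agent.C5.Uni
open scoped MatrixGroups

variable {F : Type*} [Field F] [Fintype F] {q : ℕ}

local notation "V" => (Fin 3 → F)
local notation "hh" => Cfsg.hermForm 3 F q

/-- A hyperbolic pair and an anisotropic vector orthogonal to it. -/
structure Frame (q : ℕ) (e f z : Fin 3 → F) : Prop where
  ee : Cfsg.hermForm 3 F q e e = 0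
  ff : Cfsg.hermForm 3 F q f f = 0
  ef : Cfsg.hermForm 3 F q e f = 1
  ez : Cfsg.hermForm 3 F q e z = 0
  fz : Cfsg.hermForm 3 F q f z = 0
  zz : Cfsg.hermForm 3 F q z z ≠ 0

/-- No point is fixed. -/
def NoFix (M : Subgroup (GL (Fin 3) F)) : Prop :=
  ∀ x : Fin 3 → F, x ≠ 0 → ∃ g ∈ M, app g x ∉ F ∙ x

section

variable (hF : Fintype.card F = q ^ 2)
include hF

lemma herm_app {g : GL (Fin 3) F} (hg : g ∈ Cfsg.GU 3 F q) (x y : V) :
    hh (app g x) (app g y) = hh x y := (mem_GU_iff g).1 hg x y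

lemma iso_smul {u : V} (hu : hh u u = 0) (c : F) : hh (c • u) (c • u) = 0 := by
  have H := hermForm_isHerm hF 3
  rw [H.smul_left, H.smul_right, hu, mul_zero, mul_zero]

lemma mem_centres_iff {M : Subgroup (GL (Fin 3) F)} {v : V} :
    v ∈ centres q M ↔ hh v v = 0 ∧ ∀ c : F, c + c ^ q = 0 → tu q v c ∈ M := by
  refine ⟨fun h => ⟨h.1, fun c hc => h.2 _ c hc ?_⟩, fun h => ⟨h.1, fun g c hc hg => ?_⟩⟩
  · refine Matrix.ext_of_mulVec_single fun i => ?_
    rw [← app_apply, tu_apply h.1, transvection_mulVec]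
  · have : g = tu q v c := gl_ext fun x => by
      rw [tu_apply h.1, app_apply, hg, transvection_mulVec]
    exact this ▸ h.2 c hc

lemma centres_step' {M : Subgroup (GL (Fin 3) F)} {u x : V} (hu : u ∈ centres q M)
    (hx : x ∈ centres q M) {c : F} (hc : c + c ^ q = 0) :
    x + (c * hh x u) • u ∈ centres q M := centres_step hF hu hx hc

lemma mul_skew {c s : F} (hc : c + c ^ q = 0) (hs : s ^ q = s) : c * s + (c * s) ^ q = 0 := by
  rw [mul_pow, hs]; linear_combination s * hc

lemma Frame.fe {e f z : V} (h : Frame q e f z) : hh f e = 1 := by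
  rw [(hermForm_isHerm hF 3).conj_symm e f, h.ef, one_pow]

lemma Frame.ze {e f z : V} (h : Frame q e f z) : hh z e = 0 :=
  ((hermForm_isHerm hF 3).eq_zero_symm hF).1 h.ez

lemma Frame.zf {e f z : V} (h : Frame q e f z) : hh z f = 0 :=
  ((hermForm_isHerm hF 3).eq_zero_symm hF).1 h.fz

lemma Frame.e_ne {e f z : V} (h : Frame q e f z) : e ≠ 0 := fun he => by
  have := h.ef
  rw [he, (hermForm_isHerm hF 3).zero_left] at this
  exact zero_ne_one this

lemma Frame.f_ne {e f z : V} (h : Frame q e f z) : f ≠ 0 := fun he => by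
  have := h.ef
  rw [he, (hermForm_isHerm hF 3).zero_right hF] at this
  exact zero_ne_one this

lemma Frame.z_ne {e f z : V} (h : Frame q e f z) : z ≠ 0 := fun he =>
  h.zz (by rw [he, (hermForm_isHerm hF 3).zero_left])

lemma Frame.symm {e f z : V} (h : Frame q e f z) : Frame q f e z :=
  ⟨h.ff, h.ee, h.fe hF, h.fz, h.ez, h.zz⟩

/-- Only zero is orthogonal to a frame. -/
lemma Frame.eq_zero {e f z : V} (h : Frame q e f z) {x : V} (h1 : hh x e = 0) (h2 : hh x f = 0)
    (h3 : hh x z = 0) : x = 0 := by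
  have H := hermForm_isHerm hF 3
  have hli : LinearIndependent F ![e, f, z] := by
    rw [Fintype.linearIndependent_iff]
    intro g hg
    simp only [Fin.sum_univ_three, Matrix.cons_val_zero, Matrix.cons_val_one, Matrix.cons_val_two,
      Matrix.tail_cons, Matrix.head_cons] at hg
    have e1 := congrArg (fun y => hh y e) hg
    have e2 := congrArg (fun y => hh y f) hg
    have e3 := congrArg (fun y => hh y z) hg
    simp only [H.add_left, H.smul_left, H.zero_left, h.ee, h.fe hF, h.ze hF] at e1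
    simp only [H.add_left, H.smul_left, H.zero_left, h.ef, h.ff, h.zf hF] at e2
    simp only [H.add_left, H.smul_left, H.zero_left, h.ez, h.fz] at e3
    simp only [mul_zero, mul_one, zero_add, add_zero] at e1 e2 e3
    intro i
    fin_cases i
    · exact e2
    · exact e1
    · exact (mul_eq_zero.1 e3).resolve_right h.zz
  have hspan := hli.span_eq_top_of_card_eq_finrank' (by simp)
  refine hermForm_nondeg hF 3 x fun y => ?_
  have hy : y ∈ Submodule.span F (Set.range ![e, f, z]) := by rw [hspan]; trivial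
  obtain ⟨c, rfl⟩ := (Submodule.mem_span_range_iff_exists_fun F).1 hy
  simp [Fin.sum_univ_three, H.add_right hF, H.smul_right, h1, h2, h3]

/-- Coordinates in a frame. -/
lemma Frame.expand {e f z : V} (h : Frame q e f z) (x : V) :
    x = hh x f • e + hh x e • f + (hh x z / hh z z) • z := by
  have H := hermForm_isHerm hF 3
  refine sub_eq_zero.1 (h.eq_zero hF ?_ ?_ ?_) <;>
    simp [H.add_left, H.sub_left, H.smul_left, h.ee, h.fe hF, h.ze hF, h.ef, h.ff, h.zf hF, h.ez,
      h.fz, h.zz]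

/-- A frame determines an element. -/
lemma Frame.gext {e f z : V} (h : Frame q e f z) {g g' : GL (Fin 3) F} (he : app g e = app g' e)
    (hf : app g f = app g' f) (hz : app g z = app g' z) : g = g' := gl_ext fun x => by
  rw [h.expand hF x]; simp only [map_add, map_smul, he, hf, hz]

/-- A vector orthogonal to a hyperbolic pair is on its pole. -/
lemma Frame.mem_pole {e f z : V} (h : Frame q e f z) {x : V} (h1 : hh x e = 0) (h2 : hh x f = 0) :
    x ∈ F ∙ z := by
  refine Submodule.mem_span_singleton.2 ⟨hh x z / hh z z, ?_⟩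
  conv_rhs => rw [h.expand hF x, h1, h2]
  simp

lemma Frame.map {e f z : V} (h : Frame q e f z) {g : GL (Fin 3) F} (hg : g ∈ Cfsg.GU 3 F q) :
    Frame q (app g e) (app g f) (app g z) := by
  constructor
  all_goals rw [herm_app hF hg]
  exacts [h.ee, h.ff, h.ef, h.ez, h.fz, h.zz]

/-- Different isotropic points are not orthogonal. -/
theorem herm_ne_zero {u v : V} (hu0 : u ≠ 0) (hu : hh u u = 0) (hv : hh v v = 0)
    (hvu : v ∉ F ∙ u) : hh u v ≠ 0 := by
  intro h
  have H := hermForm_isHerm hF 3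
  have hne : ∀ {w : V}, w ≠ 0 → hlin q w ≠ 0 := fun {w} hw e =>
    hw (hermForm_nondeg hF 3 w fun y =>
      (H.eq_zero_symm hF).1 (by rw [← hlin_apply, e, LinearMap.zero_apply]))
  have hv0 : v ≠ 0 := fun e => hvu (e ▸ zero_mem _)
  obtain ⟨c, hc⟩ := SL3Max.line_unique (hne hu0) hu0 hvu
    (by simpa using hu) (by simpa using (H.eq_zero_symm hF).1 h) (ψ := hlin q v)
    (by simpa using h) (by simpa using hv)
  obtain ⟨x, hx⟩ : ∃ x, hh x u ≠ 0 := by
    by_contra! hall
    exact hu0 (hermForm_nondeg hF 3 u fun y => (H.eq_zero_symm hF).1 (hall y))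
  refine hvu (Submodule.mem_span_singleton.2 ⟨c ^ q, (sub_eq_zero.1 ?_).symm⟩)
  refine hermForm_nondeg hF 3 _ fun y => (H.eq_zero_symm hF).1 ?_
  have hcy := LinearMap.congr_fun hc y
  rw [LinearMap.smul_apply, hlin_apply, hlin_apply, smul_eq_mul] at hcy
  rw [H.sub_right hF, H.smul_right, pow_q_pow_q hF, hcy, sub_self]

/-- Two isotropic points and their pole. -/
theorem exists_frame {u v : V} (hu0 : u ≠ 0) (hu : hh u u = 0) (hv : hh v v = 0)
    (hvu : v ∉ F ∙ u) : ∃ (c : F) (z : V), c ≠ 0 ∧ Frame q u (c • v) z := by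
  have H := hermForm_isHerm hF 3
  have huv := herm_ne_zero hF hu0 hu hv hvu
  obtain ⟨c, hc⟩ : ∃ c : F, c ^ q = (hh u v)⁻¹ :=
    ⟨(hh u v)⁻¹ ^ q, pow_q_pow_q hF _⟩
  have hc0 : c ≠ 0 := fun e => inv_ne_zero huv (by rw [← hc, e, zero_pow_q hF])
  let φ : V →ₗ[F] (Fin 2 → F) := LinearMap.pi ![hlin q u, hlin q v]
  obtain ⟨z, hz, hz0⟩ := Submodule.exists_mem_ne_zero_of_ne_bot
    (LinearMap.ker_ne_bot_of_finrank_lt (f := φ) (by simp))
  have hzu : hh z u = 0 := by simpa [φ] using congrFun hz 0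
  have hzv : hh z v = 0 := by simpa [φ] using congrFun hz 1
  refine ⟨c, z, hc0, hu, iso_smul hF hv c, by rw [H.smul_right, hc, inv_mul_cancel₀ huv],
    (H.eq_zero_symm hF).1 hzu, by rw [H.smul_left, (H.eq_zero_symm hF).1 hzv, mul_zero],
    fun hzz => ?_⟩
  have h1 : u ∈ F ∙ z := by
    by_contra h1
    exact herm_ne_zero hF hz0 hzz hu h1 hzu
  have h2 : v ∈ F ∙ z := by
    by_contra h2
    exact herm_ne_zero hF hz0 hzz hv h2 hzv
  obtain ⟨a, ha⟩ := Submodule.mem_span_singleton.1 h1
  obtain ⟨b, hb⟩ := Submodule.mem_span_singleton.1 h2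
  have ha0 : a ≠ 0 := fun e => hu0 (by rw [← ha, e, zero_smul])
  refine hvu (Submodule.mem_span_singleton.2 ⟨b / a, ?_⟩)
  rw [← ha, smul_smul, div_mul_cancel₀ _ ha0, hb]

/-- An isotropic and an anisotropic point, orthogonal. -/
theorem exists_frame_point {e z : V} (he0 : e ≠ 0) (he : hh e e = 0) (hz : hh z z ≠ 0)
    (hez : hh e z = 0) : ∃ f, Frame q e f z := by
  have H := hermForm_isHerm hF 3
  obtain ⟨w, hw, hew⟩ := exists_iso_partner hF he0 he
  have hwe : hh w e = 1 := by rw [H.conj_symm e w, hew, one_pow]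
  have hze := (H.eq_zero_symm hF).1 hez
  set y := w - (hh w z / hh z z) • z with hy
  have hyz : hh y z = 0 := by
    rw [hy, H.sub_left, H.smul_left, div_mul_cancel₀ _ hz, sub_self]
  have hey : hh e y = 1 := by rw [hy, H.sub_right hF, H.smul_right, hez, hew]; ring
  have hye : hh y e = 1 := by rw [H.conj_symm e y, hey, one_pow]
  obtain ⟨l, hl⟩ := exists_trace_eq hF (c := -hh y y) (by rw [neg_pow_q hF, H.self_fixed])
  refine ⟨y + l • e, he, ?_, ?_, hez, ?_, hz⟩
  · simp only [H.add_left, H.add_right hF, H.smul_left, H.smul_right, he, hye, hey]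
    linear_combination hl
  · rw [H.add_right hF, H.smul_right, he, hey]; ring
  · rw [H.add_left, H.smul_left, hez, hyz]; ring

/-- Isotropic points of the line of two centres are centres. -/
theorem line_full {M : Subgroup (GL (Fin 3) F)} {e f z : V} (h : Frame q e f z)
    (hec : e ∈ centres q M) (hfc : f ∈ centres q M) {x : V} (hx : hh x x = 0) (hxz : hh x z = 0) :
    x ∈ centres q M := by
  have H := hermForm_isHerm hF 3
  obtain ⟨a, b, rfl⟩ : ∃ a b : F, x = a • e + b • f :=
    ⟨hh x f, hh x e, by conv_lhs => rw [h.expand hF x, hxz, zero_div, zero_smul, add_zero]⟩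
  rcases eq_or_ne b 0 with rfl | hb
  · rw [zero_smul, add_zero]; exact centres_smul hF hec a
  simp only [H.add_left, H.add_right hF, H.smul_left, H.smul_right, h.ee, h.ef, h.fe hF, h.ff]
    at hx
  have hs : a / b + (a / b) ^ q = 0 := by
    rw [div_pow, div_add_div _ _ hb (by rwa [Ne, pow_q_eq_zero hF]), div_eq_zero_iff]
    left
    linear_combination hx
  have := centres_smul hF (centres_step' hF hec hfc hs) b
  rw [h.fe hF, mul_one, smul_add, smul_smul, mul_div_cancel₀ _ hb, add_comm] at this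
  exact this

/-- Off the line of two centres one orbit. -/
theorem off_line {M : Subgroup (GL (Fin 3) F)} {e f z : V} (h : Frame q e f z)
    (hec : e ∈ centres q M) (hfc : f ∈ centres q M) {p : V} (hp : p ∈ centres q M)
    (hpz : hh p z ≠ 0) {x : V} (hx : hh x x = 0) (hxz : hh x z ≠ 0) : x ∈ centres q M := by
  have H := hermForm_isHerm hF 3
  set κ := -hh z z with hκ
  have hκ0 : κ ≠ 0 := neg_ne_zero.2 h.zz
  have hiso : ∀ a b : F, hh (a • e + b • f + z) (a • e + b • f + z) = 0 ↔
      a * b ^ q + a ^ q * b = κ := fun a b => by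
    simp only [H.add_left, H.add_right hF, H.smul_left, H.smul_right, h.ee, h.ef, h.fe hF, h.ff,
      h.ez, h.fz, h.ze hF, h.zf hF, hκ]
    constructor <;> intro e' <;> linear_combination e'
  have hnorm : ∀ y : V, hh y y = 0 → hh y z ≠ 0 → ∃ t a b : F, t ≠ 0 ∧
      y = t • (a • e + b • f + z) ∧ a * b ^ q + a ^ q * b = κ := by
    intro y hy hyz
    set t := hh y z / hh z z
    have ht : t ≠ 0 := div_ne_zero hyz h.zz
    refine ⟨t, hh y f / t, hh y e / t, ht, ?_, (hiso _ _).1 ?_⟩
    · conv_lhs => rw [h.expand hF y]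
      rw [smul_add, smul_add, smul_smul, smul_smul, mul_div_cancel₀ _ ht, mul_div_cancel₀ _ ht]
    · have e1 : (hh y f / t) • e + (hh y e / t) • f + z = t⁻¹ • y := by
        conv_rhs => rw [h.expand hF y]
        rw [smul_add, smul_add, smul_smul, smul_smul, smul_smul, inv_mul_cancel₀ ht, one_smul,
          inv_mul_eq_div, inv_mul_eq_div]
      rw [e1]; exact iso_smul hF hy _
  obtain ⟨t, a, b, ht, rfl, -⟩ := hnorm x hx hxz
  obtain ⟨s, a0, b0, hs, rfl, hab0⟩ := hnorm p hp.1 hpz
  have hp' : a0 • e + b0 • f + z ∈ centres q M := by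
    have := centres_smul hF hp s⁻¹
    rwa [smul_smul, inv_mul_cancel₀ hs, one_smul] at this
  refine centres_smul hF ?_ t
  have hab : a * b ^ q + a ^ q * b = κ := (hiso a b).1 (by
    have := iso_smul hF hx t⁻¹
    rwa [smul_smul, inv_mul_cancel₀ ht, one_smul] at this)
  -- translating a
  have stepA : ∀ {a1 a2 b : F}, b ≠ 0 → a1 * b ^ q + a1 ^ q * b = κ →
      a2 * b ^ q + a2 ^ q * b = κ → a1 • e + b • f + z ∈ centres q M →
      a2 • e + b • f + z ∈ centres q M := by
    intro a1 a2 b hb h1 h2 hc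
    have hskew : (a2 - a1) / b + ((a2 - a1) / b) ^ q = 0 := by
      rw [div_pow, sub_pow_q hF, div_add_div _ _ hb (by rwa [Ne, pow_q_eq_zero hF]),
        div_eq_zero_iff]
      left
      linear_combination h2 - h1
    have := centres_step' hF hec hc hskew
    rw [show hh (a1 • e + b • f + z) e = b by
      simp [H.add_left, H.smul_left, h.ee, h.fe hF, h.ze hF], div_mul_cancel₀ _ hb] at this
    convert this using 1
    rw [sub_smul]; abel
  -- moving b across a non-real ratio
  have stepB : ∀ {a1 b1 b2 : F}, a1 * b1 ^ q + a1 ^ q * b1 = κ → b2 * b1 ^ q ≠ b2 ^ q * b1 →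
      a1 • e + b1 • f + z ∈ centres q M →
      ∀ a2, a2 * b2 ^ q + a2 ^ q * b2 = κ → a2 • e + b2 • f + z ∈ centres q M := by
    intro a1 b1 b2 h1 hne hc a2 h2
    set d := b2 - b1 with hd
    set D := d * b1 ^ q - d ^ q * b1 with hD
    have hD0 : D ≠ 0 := by
      rw [hD, hd, sub_pow_q hF]
      intro e'
      exact hne (by linear_combination e')
    have hd0 : d ≠ 0 := fun e' => hD0 (by rw [hD, e', zero_pow_q hF]; ring)
    have hb1 : b1 ≠ 0 := fun e' => hne (by rw [e', zero_pow_q hF]; ring)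
    have hb2 : b2 ≠ 0 := fun e' => hne (by rw [e', zero_pow_q hF]; ring)
    set c := D / κ with hc'
    have hκq : κ ^ q = κ := by rw [hκ, neg_pow_q hF, H.self_fixed]
    have hDq : D ^ q = -D := by
      rw [hD, sub_pow_q hF, mul_pow, mul_pow, pow_q_pow_q hF, pow_q_pow_q hF]; ring
    have hcs : c + c ^ q = 0 := by rw [hc', div_pow, hDq, hκq]; ring
    have hc0 : c ≠ 0 := div_ne_zero hD0 hκ0
    have hcq : c ^ q = -c := eq_neg_of_add_eq_zero_right hcs
    set a3 := d / c with ha3
    have h3 : a3 * b1 ^ q + a3 ^ q * b1 = κ := by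
      rw [ha3, div_pow, hcq]
      field_simp
      rw [hc', hD]
      field_simp
      ring
    have h4 := stepA (a2 := a3) hb1 h1 h3 hc
    have h5 := centres_step' hF hfc h4 hcs
    rw [show hh (a3 • e + b1 • f + z) f = a3 by
      simp [H.add_left, H.smul_left, h.ef, h.ff, h.zf hF], ha3, mul_div_cancel₀ _ hc0] at h5
    have h6 : a3 * b2 ^ q + a3 ^ q * b2 = κ := by
      refine (hiso a3 b2).1 ?_
      convert h5.1 using 2 <;> (rw [ha3, hd, sub_smul]; abel)
    exact stepA hb2 h6 h2 (by convert h5 using 1; rw [ha3, hd, sub_smul]; abel)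
  have hb0 : b0 ≠ 0 := fun e' => hκ0 (by rw [← hab0, e', zero_pow_q hF]; ring)
  have hb : b ≠ 0 := fun e' => hκ0 (by rw [← hab, e', zero_pow_q hF]; ring)
  by_cases hre : b * b0 ^ q = b ^ q * b0
  swap
  · exact stepB hab0 hre hp' a hab
  obtain ⟨δ, hδ0, hδ⟩ := exists_skew hF
  obtain ⟨ω, hω⟩ : ∃ ω : F, ω ^ q ≠ ω := by
    by_contra! hall
    have h' := hall δ
    rw [hδ] at h'
    obtain ⟨l, hl⟩ := exists_trace_eq hF (one_pow q : (1 : F) ^ q = 1)
    have h2 : (2 : F) = 0 := by
      have := mul_eq_zero.1 (show (2 : F) * δ = 0 by linear_combination -h')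
      exact this.resolve_right hδ0
    rw [hall l] at hl
    exact one_ne_zero (by rw [← hl]; linear_combination l * h2)
  set b' := ω * b0 with hb'
  have hω0 : ω ≠ 0 := fun e' => hω (by rw [e', zero_pow_q hF])
  have hb'0 : b' ≠ 0 := mul_ne_zero hω0 hb0
  have hNb : b0 ^ (q + 1) ≠ 0 := pow_ne_zero _ hb0
  have hne1 : b' * b0 ^ q ≠ b' ^ q * b0 := by
    intro e'
    apply hω
    rw [hb', mul_pow] at e'
    refine mul_right_cancel₀ hNb ?_
    rw [pow_succ]
    linear_combination -e'
  have hne2 : b * b' ^ q ≠ b ^ q * b' := by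
    intro e'
    apply hω
    have hB : b * b0 ^ q ≠ 0 := mul_ne_zero hb (pow_ne_zero _ hb0)
    rw [hb', mul_pow] at e'
    refine mul_right_cancel₀ hB ?_
    linear_combination e' - ω * hre
  obtain ⟨a', ha'⟩ : ∃ a' : F, a' * b' ^ q + a' ^ q * b' = κ := by
    obtain ⟨l, hl⟩ := exists_trace_eq hF (c := κ) (by rw [hκ, neg_pow_q hF, H.self_fixed])
    refine ⟨l / b' ^ q, ?_⟩
    rw [div_mul_cancel₀ _ (pow_ne_zero _ hb'0), div_pow, pow_q_pow_q hF,
      div_mul_cancel₀ _ hb'0, hl]
  exact stepB ha' hne2 (stepB hab0 hne1 hp' a' ha') a hab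

/-- A subgroup without fixed points and with a centre contains everything. -/
theorem le_of_centre (hq : 3 ≤ q) {M : Subgroup (GL (Fin 3) F)} (hMK : M ≤ suGL 3 F q)
    (hnf : NoFix M) {v : V} (hv0 : v ≠ 0) (hv : v ∈ centres q M) : suGL 3 F q ≤ M := by
  have H := hermForm_isHerm hF 3
  obtain ⟨g, hg, hgv⟩ := hnf v hv0
  have hgvc : app g v ∈ centres q M := centres_conj hg (hMK hg) hv
  obtain ⟨c, z, hc, hfr⟩ := exists_frame hF hv0 hv.1 hgvc.1 hgv
  set f := c • app g v
  have hfc : f ∈ centres q M := centres_smul hF hgvc c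
  obtain ⟨g', hg', hg'z⟩ := hnf z (hfr.z_ne hF)
  obtain ⟨p, hp, hpz⟩ : ∃ p ∈ centres q M, hh p z ≠ 0 := by
    by_contra! hall
    have h1 := hall _ (centres_conj hg' (hMK hg') hv)
    have h2 := hall _ (centres_conj hg' (hMK hg') hfc)
    obtain ⟨a, ha⟩ := Submodule.mem_span_singleton.1 ((hfr.map hF (hMK hg').1).mem_pole hF
      ((H.eq_zero_symm hF).1 h1) ((H.eq_zero_symm hF).1 h2))
    have ha0 : a ≠ 0 := fun e => hfr.z_ne hF (by rw [← ha, e, zero_smul])
    exact hg'z (Submodule.mem_span_singleton.2 ⟨a⁻¹, (eq_inv_smul_iff₀ ha0).2 ha |>.symm⟩)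
  refine le_of_centres hF (Or.inr (Or.inl ⟨rfl, hq⟩)) fun x hx => ?_
  by_cases hxz : hh x z = 0
  · exact line_full hF hfr hv hfc hx hxz
  · exact off_line hF hfr hv hfc hp hpz hx hxz

/-- An element fixing an isotropic vector and an anisotropic one orthogonal to it. -/
theorem Frame.eq_tu {e f z : V} (h : Frame q e f z) {g : GL (Fin 3) F}
    (hg : g ∈ Cfsg.GU 3 F q) (he : app g e = e) (hz : app g z = z) :
    g = tu q e (hh (app g f) f) ∧ hh (app g f) f + hh (app g f) f ^ q = 0 := by
  have H := hermForm_isHerm hF 3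
  have h1 : hh (app g f) e = 1 := by rw [← h.fe hF]; conv_rhs => rw [← herm_app hF hg, he]
  have h2 : hh (app g f) z = 0 := by rw [← h.fz]; conv_rhs => rw [← herm_app hF hg, hz]
  set c := hh (app g f) f
  have hgf : app g f = f + c • e := by
    conv_lhs => rw [h.expand hF (app g f), h1, h2]
    rw [one_smul, zero_div, zero_smul, add_zero, add_comm]
  refine ⟨h.gext hF ?_ ?_ ?_, ?_⟩
  · rw [he, tu_apply h.ee, h.ee]; simp
  · rw [hgf, tu_apply h.ee, h.fe hF, mul_one]
  · rw [hz, tu_apply h.ee, h.ze hF]; simp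
  · have h3 := herm_app hF hg f f
    rw [hgf] at h3
    simpa [H.add_left, H.add_right hF, H.smul_left, H.smul_right, h.ee, h.fe hF, h.ef, h.ff,
      add_comm] using h3

end

end Cfsg.Agent.SU3Max
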