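import Cfsg.Agent.Lib.SU3Max.Tangent

/-!
# Norm one elements and the arithmetic of the monomial case

Main results:
* `exists_order_norm`, `exists_cube_root`, `card_root`, `cube_gen`
* `mono_numbers` : the possible sizes of an orbit of frame points
-/

set_option autoImplicit false
set_option linter.unusedSectionVars false
set_option maxRecDepth 4000

namespace Cfsg.Agent.SU3Max

open Cfsg.Agent.Unitary

variable {F : Type*} [Field F] [Fintype F] {q : ℕ}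

/-- The order of the homologies of a point, modulo scalars. -/
def mOrd (q : ℕ) : ℕ := (q + 1) / Nat.gcd 3 (q + 1)

lemma mOrd_cases (q : ℕ) :
    (¬ 3 ∣ q + 1 ∧ mOrd q = q + 1) ∨ (3 ∣ q + 1 ∧ 3 * mOrd q = q + 1) := by
  by_cases h : 3 ∣ q + 1
  · right
    refine ⟨h, ?_⟩
    rw [mOrd, Nat.gcd_eq_left h, Nat.mul_div_cancel' h]
  · left
    refine ⟨h, ?_⟩
    have : Nat.gcd 3 (q + 1) = 1 := (Nat.Prime.coprime_iff_not_dvd Nat.prime_three).2 h
    rw [mOrd, this, Nat.div_one]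

lemma mOrd_dvd (q : ℕ) : mOrd q ∣ q + 1 :=
  Nat.div_dvd_of_dvd (Nat.gcd_dvd_right 3 (q + 1))

lemma mOrd_pos (q : ℕ) : 0 < mOrd q := by
  rcases mOrd_cases q with ⟨-, h⟩ | ⟨-, h⟩ <;> omega

section

variable (hF : Fintype.card F = q ^ 2)
include hF

theorem exists_order_norm : ∃ a : F, a ≠ 0 ∧ orderOf a = q + 1 := by
  classical
  obtain ⟨g, hg⟩ := IsCyclic.exists_ofOrder_eq_natCard (α := Fˣ)
  rw [card_units hF] at hg
  obtain ⟨k, hk⟩ := q_succ_dvd q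
  have hq := two_le_q hF
  have hk0 : k ≠ 0 := by
    rintro rfl
    have : 4 ≤ q ^ 2 := Nat.pow_le_pow_left hq 2
    omega
  refine ⟨((g ^ k : Fˣ) : F), (g ^ k).ne_zero, ?_⟩
  rw [orderOf_units, orderOf_pow_of_dvd hk0 (hg ▸ Dvd.intro_left _ hk.symm), hg, hk,
    Nat.mul_div_cancel _ (Nat.pos_of_ne_zero hk0)]

/-- The roots of unity of order dividing `d` among norm one elements. -/
theorem card_root {d : ℕ} (hd0 : d ≠ 0) (hd : d ∣ q + 1) :
    Nat.card {x : F // x ^ d = 1} = d :=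
  card_pow_eq_one hF hd0 (hd.trans (q_succ_dvd q))

/-- A norm one element killed by `mOrd` is a cube. -/
theorem exists_cube_root {c : F} (hc : c ^ mOrd q = 1) :
    ∃ r : F, r ^ (q + 1) = 1 ∧ r ^ 3 = c := by
  obtain ⟨a, ha0, ha⟩ := exists_order_norm hF
  have hcq : c ^ (q + 1) = 1 := by
    obtain ⟨k, hk⟩ := mOrd_dvd q
    rw [hk, pow_mul, hc, one_pow]
  haveI : NeZero (orderOf a) := ⟨by rw [ha]; omega⟩
  obtain ⟨i, -, hi⟩ := (IsPrimitiveRoot.orderOf a).eq_pow_of_pow_eq_one (ξ := c) (by rwa [ha])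
  subst hi
  have ha1 : a ^ (q + 1) = 1 := ha ▸ pow_orderOf_eq_one a
  rcases mOrd_cases q with ⟨h3, hm⟩ | ⟨h3, hm⟩
  · have hco : Nat.Coprime 3 (orderOf a) := ha ▸ (Nat.Prime.coprime_iff_not_dvd Nat.prime_three).2 h3
    obtain ⟨j, hj⟩ := exists_pow_eq_self_of_coprime (x := a) hco
    refine ⟨a ^ (j * i), by rw [← pow_mul, mul_comm, pow_mul, ha1, one_pow], ?_⟩
    rw [← pow_mul, show j * i * 3 = 3 * j * i by ring, pow_mul, pow_mul, hj]
  · rw [← pow_mul, ← orderOf_dvd_iff_pow_eq_one, ha, ← hm] at hc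
    obtain ⟨j, rfl⟩ : 3 ∣ i := Nat.dvd_of_mul_dvd_mul_right (mOrd_pos q) hc
    exact ⟨a ^ j, by rw [← pow_mul, mul_comm, pow_mul, ha1, one_pow],
      by rw [← pow_mul, mul_comm]⟩

/-- The homology of a point spans the field. -/
theorem cube_gen (hq : 3 ≤ q) (h5 : q ≠ 5) (h8 : q ≠ 8) {a : F} (ha : orderOf a = q + 1)
    (E : Subfield F) (hE : a ^ 3 ∈ E) : E = ⊤ := by
  have ha0 : a ≠ 0 := fun h => by
    have h1 := pow_orderOf_eq_one a
    rw [ha, h, zero_pow (Nat.succ_ne_zero q)] at h1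
    exact zero_ne_one h1
  obtain ⟨r, k, hr, hcard, hdvd, htop⟩ := exists_card_of_mem hE (pow_ne_zero 3 ha0)
  rw [orderOf_pow' a three_ne_zero, ha, Nat.gcd_comm] at hdvd
  change mOrd q ∣ r - 1 at hdvd
  rw [hF] at hcard
  refine htop ?_
  by_contra hk
  push Not at hk
  have hrq : r ≤ q := by
    have : r ^ 2 ≤ q ^ 2 := hcard ▸ Nat.pow_le_pow_right (by omega) hk
    exact (Nat.pow_le_pow_iff_left (by norm_num)).1 this
  have hle := Nat.le_of_dvd (by omega) hdvd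
  rcases mOrd_cases q with ⟨-, hm⟩ | ⟨h3, hm⟩
  · omega
  by_cases hk2 : k = 2
  · have hrq' : r = q := (Nat.pow_left_injective (by norm_num : (2 : ℕ) ≠ 0) (hk2 ▸ hcard.symm))
    have h2 : mOrd q ∣ 2 := by
      have h1 := mOrd_dvd q
      have h4 : q + 1 = (q - 1) + 2 := by omega
      rw [h4] at h1
      exact (Nat.dvd_add_right (hrq' ▸ hdvd)).1 h1
    have := Nat.le_of_dvd (by norm_num) h2
    omega
  have hk3 : 3 ≤ k := by omega
  have hr3 : r ^ 3 ≤ q ^ 2 := hcard ▸ Nat.pow_le_pow_right (by omega) hk3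
  have h27 : q < 27 := by
    by_contra hq27
    push Not at hq27
    have h1 : (q + 4) ^ 3 ≤ 27 * q ^ 2 :=
      calc (q + 4) ^ 3 ≤ (3 * r) ^ 3 := Nat.pow_le_pow_left (by omega) 3
        _ = 27 * r ^ 3 := by ring
        _ ≤ 27 * q ^ 2 := by omega
    nlinarith [h1, Nat.mul_le_mul_right (q * q) hq27]
  have hr9 : r ≤ 8 := by
    by_contra hr9
    push Not at hr9
    have h1 : q ^ 2 < 729 := by nlinarith
    have : 729 ≤ r ^ 3 := Nat.pow_le_pow_left hr9 3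
    omega
  have hk9 : k < 10 := by
    by_contra hk9
    push Not at hk9
    have h1 : 2 ^ 10 ≤ r ^ k :=
      (Nat.pow_le_pow_left hr 10).trans (Nat.pow_le_pow_right (by omega) hk9)
    have : q ^ 2 < 729 := by nlinarith
    omega
  have key : ∀ q : Fin 27, ∀ r : Fin 9, ∀ k : Fin 10, (q : ℕ) ^ 2 = (r : ℕ) ^ (k : ℕ) →
      3 ≤ (k : ℕ) → 3 ∣ (q : ℕ) + 1 → (q : ℕ) = 2 ∨ (q : ℕ) = 5 ∨ (q : ℕ) = 8 ∨ (r : ℕ) ≤ 1 := by
    decide +kernel
  rcases key ⟨q, h27⟩ ⟨r, by omega⟩ ⟨k, hk9⟩ hcard hk3 h3 with h | h | h | h <;> simp only at h <;>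
    omega

end

/-- Orbit sizes of frame points compatible with the order of `SU₃(q)` and the tangent bound. -/
theorem mono_numbers {q N k : ℕ} (hq : 3 ≤ q) (hpp : IsPrimePow q) (h5 : q ≠ 5)
    (hN : N = 3 + k * ((q + 1) * mOrd q)) (hk : k ≠ 0) (hle : N ≤ q ^ 2 - q + 1)
    (hdvd : 2 * N ∣ q ^ 3 * (q - 1) * (q ^ 2 - q + 1)) : q = 8 := by
  rcases mOrd_cases q with ⟨-, hm⟩ | ⟨-, hm⟩
  · exfalso
    rw [hm] at hN
    have h1 : 1 * ((q + 1) * (q + 1)) ≤ k * ((q + 1) * (q + 1)) :=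
      Nat.mul_le_mul_right _ (Nat.pos_of_ne_zero hk)
    have h2 : q ≤ q ^ 2 := Nat.le_self_pow (by norm_num) q
    rw [pow_two] at hle h2
    have h3 : (q + 1) * (q + 1) = q * q + 2 * q + 1 := by ring
    omega
  generalize mOrd q = y at hm hN
  obtain ⟨A, hA⟩ : ∃ A, A = 1 + k * y ^ 2 := ⟨_, rfl⟩
  have hNA : N = 3 * A := by rw [hN, hA, ← hm]; ring
  have hy2 : 2 ≤ y := by omega
  have hk3 : k < 3 := by
    by_contra hk3
    push Not at hk3
    have h1 : 3 * (3 * y ^ 2) ≤ k * (3 * y ^ 2) := Nat.mul_le_mul_right _ hk3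
    have h2 : 3 * y ≤ 3 * y ^ 2 := Nat.mul_le_mul_left 3 (Nat.le_self_pow (by norm_num) y)
    have h3 : (q : ℤ) = 3 * y - 1 := by omega
    have h4 : q ≤ q ^ 2 := Nat.le_self_pow (by norm_num) q
    have h5 : N = 3 + k * (3 * y ^ 2) := by rw [hN, ← hm]; ring
    have h6 : ((q ^ 2 - q + 1 : ℕ) : ℤ) = (3 * y - 1) ^ 2 - (3 * y - 1) + 1 := by
      push_cast [Nat.cast_sub h4]; rw [h3]
    zify at hle h1 h5
    push_cast [Nat.cast_sub h4] at hle
    rw [h3] at hle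
    nlinarith
  -- the divisor is bounded by a constant
  set B := q ^ 2 - q + 1 with hB
  have hq2 : q ≤ q ^ 2 := Nat.le_self_pow (by norm_num) q
  have hBz : (B : ℤ) = 9 * y ^ 2 - 9 * y + 3 := by
    have h3 : (q : ℤ) = 3 * y - 1 := by omega
    rw [hB]; push_cast [Nat.cast_sub hq2]; rw [h3]; ring
  have hAdvd : A ∣ q ^ 3 * (q - 1) * B := by
    refine (dvd_trans ?_ hdvd)
    rw [hNA]; exact Dvd.intro_left (2 * 3) (by ring)
  have g1 : Nat.gcd A q ∣ 9 + k := by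
    have h : ((Nat.gcd A q : ℕ) : ℤ) ∣ 9 + k := by
      have ha : ((Nat.gcd A q : ℕ) : ℤ) ∣ A := Int.natCast_dvd_natCast.2 (Nat.gcd_dvd_left _ _)
      have hb : ((Nat.gcd A q : ℕ) : ℤ) ∣ q := Int.natCast_dvd_natCast.2 (Nat.gcd_dvd_right _ _)
      have h3 : (q : ℤ) = 3 * y - 1 := by omega
      have e : (9 : ℤ) + k = 9 * (A : ℤ) - (k * (q + 2) : ℤ) * q := by
        rw [h3, hA]; push_cast; ring
      rw [e]
      exact dvd_sub (ha.mul_left 9) (hb.mul_left _)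
    exact_mod_cast h
  have g2 : Nat.gcd A (q - 1) ∣ 9 + 4 * k := by
    have h : ((Nat.gcd A (q - 1) : ℕ) : ℤ) ∣ 9 + 4 * k := by
      have ha : ((Nat.gcd A (q - 1) : ℕ) : ℤ) ∣ A := Int.natCast_dvd_natCast.2 (Nat.gcd_dvd_left _ _)
      have hb : ((Nat.gcd A (q - 1) : ℕ) : ℤ) ∣ (3 * y - 2 : ℤ) := by
        rw [show (3 * y - 2 : ℤ) = ((q - 1 : ℕ) : ℤ) by omega]
        exact Int.natCast_dvd_natCast.2 (Nat.gcd_dvd_right _ _)
      have e : (9 : ℤ) + 4 * k = 9 * (A : ℤ) - (k * (3 * y + 2) : ℤ) * (3 * y - 2) := by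
        rw [hA]; push_cast; ring
      rw [e]
      exact dvd_sub (ha.mul_left 9) (hb.mul_left _)
    exact_mod_cast h
  have g3 : Nat.gcd A B ∣ 9 * (k ^ 2 + 3 * k + 9) := by
    have h : ((Nat.gcd A B : ℕ) : ℤ) ∣ 9 * (k ^ 2 + 3 * k + 9) := by
      have ha : ((Nat.gcd A B : ℕ) : ℤ) ∣ A := Int.natCast_dvd_natCast.2 (Nat.gcd_dvd_left _ _)
      have hb : ((Nat.gcd A B : ℕ) : ℤ) ∣ B := Int.natCast_dvd_natCast.2 (Nat.gcd_dvd_right _ _)
      rw [hBz] at hb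
      have hA' : (A : ℤ) = 1 + k * y ^ 2 := by exact_mod_cast hA
      rw [hA'] at ha
      -- `k B - 9 A` is linear in `y`
      have hl : ((Nat.gcd A B : ℕ) : ℤ) ∣ 3 * k - 9 - 9 * k * y := by
        rw [show (3 : ℤ) * k - 9 - 9 * k * y =
          k * (9 * y ^ 2 - 9 * y + 3) - 9 * (1 + k * y ^ 2) by ring]
        exact dvd_sub (hb.mul_left _) (ha.mul_left _)
      rw [show (9 : ℤ) * (k ^ 2 + 3 * k + 9) = (3 * k - 9 + 9 * k * y) * (3 * k - 9 - 9 * k * y) +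
        81 * k * (1 + k * y ^ 2) by ring]
      exact dvd_add (hl.mul_left _) (ha.mul_left _)
    exact_mod_cast h
  have hM : A ∣ (9 + k) ^ 3 * (9 + 4 * k) * (9 * (k ^ 2 + 3 * k + 9)) := by
    have h1 : A ∣ Nat.gcd A (q ^ 3) * Nat.gcd A (q - 1) * Nat.gcd A B :=
      ((Nat.dvd_gcd (dvd_refl A) hAdvd).trans (Nat.gcd_mul_right_dvd_mul_gcd A _ B)).trans
        (Nat.mul_dvd_mul_right (Nat.gcd_mul_right_dvd_mul_gcd A _ _) _)
    refine h1.trans (Nat.mul_dvd_mul (Nat.mul_dvd_mul ?_ g2) g3)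
    refine dvd_trans ?_ (pow_dvd_pow_of_dvd g1 3)
    rw [show q ^ 3 = q * q * q by ring, show Nat.gcd A q ^ 3 = Nat.gcd A q * Nat.gcd A q * Nat.gcd A q by ring]
    exact (Nat.gcd_mul_right_dvd_mul_gcd A _ q).trans
      (Nat.mul_dvd_mul_right (Nat.gcd_mul_right_dvd_mul_gcd A q q) _)
  have hA2 : 2 * (3 * A) ∣ q ^ 3 * (q - 1) * B := hNA ▸ hdvd
  have hbound : y < 2070 := by
    have hM' : A ≤ (9 + k) ^ 3 * (9 + 4 * k) * (9 * (k ^ 2 + 3 * k + 9)) :=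
      Nat.le_of_dvd (by positivity) hM
    have h1 : (9 + k) ^ 3 * (9 + 4 * k) * (9 * (k ^ 2 + 3 * k + 9)) ≤
        (9 + 2) ^ 3 * (9 + 4 * 2) * (9 * (2 ^ 2 + 3 * 2 + 9)) := by
      have hk' : k ≤ 2 := by omega
      gcongr
    by_contra hy
    push Not at hy
    have h2 : 1 * 2070 ^ 2 ≤ k * y ^ 2 :=
      Nat.mul_le_mul (Nat.pos_of_ne_zero hk) (Nat.pow_le_pow_left hy 2)
    have h3 : (9 + 2) ^ 3 * (9 + 4 * 2) * (9 * (2 ^ 2 + 3 * 2 + 9)) < 1 * 2070 ^ 2 := by norm_num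
    omega
  have key : ∀ y < 2070, ∀ k < 3, k ≠ 0 → 2 ≤ y →
      (1 + k * y ^ 2) ∣ (9 + k) ^ 3 * (9 + 4 * k) * (9 * (k ^ 2 + 3 * k + 9)) →
      2 * (3 * (1 + k * y ^ 2)) ∣ (3 * y - 1) ^ 3 * (3 * y - 1 - 1) * ((3 * y - 1) ^ 2 - (3 * y - 1) + 1) →
      3 * y - 1 = 5 ∨ 3 * y - 1 = 8 ∨ 3 * y - 1 = 14 ∨ 3 * y - 1 = 20 ∨ 3 * y - 1 = 170 := by
    set_option synthInstance.maxSize 4000 in decide +kernel
  have hq' : q = 3 * y - 1 := by omega
  rw [hA] at hM hA2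
  rw [hq'] at hA2 hB
  rw [hB] at hA2
  have hnot : ∀ a b : ℕ, a.Prime → b.Prime → a ≠ b → a ∣ q → b ∣ q → False := by
    intro a b ha hb hab hda hdb
    obtain ⟨p, n, hp, hn, hpn⟩ := hpp
    rw [← hpn] at hda hdb
    have h1 := (Nat.prime_dvd_prime_iff_eq ha hp.nat_prime).1 (ha.dvd_of_dvd_pow hda)
    have h2 := (Nat.prime_dvd_prime_iff_eq hb hp.nat_prime).1 (hb.dvd_of_dvd_pow hdb)
    exact hab (h1.trans h2.symm)
  rcases key y hbound k hk3 hk hy2 hM hA2 with h | h | h | h | h <;> rw [← hq'] at h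
  · exact absurd h h5
  · exact h
  all_goals exfalso
  · exact hnot 2 7 Nat.prime_two (by norm_num) (by norm_num) (by omega) (by omega)
  · exact hnot 2 5 Nat.prime_two (by norm_num) (by norm_num) (by omega) (by omega)
  · exact hnot 2 5 Nat.prime_two (by norm_num) (by norm_num) (by omega) (by omega)

end Cfsg.Agent.SU3Max
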