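import Cfsg.Agent.Lib.SU3Max.Points

/-!
# Elements given on a frame

Main results:
* `exists_elt` : an element with prescribed images of a frame
* `exists_diag`, `exists_sh3`, `exists_flip` : torus, unipotent and reversing elements
-/

set_option autoImplicit false
set_option linter.unusedSectionVars false

namespace Cfsg.Agent.SU3Max

open Matrix Cfsg.Agent.Transvect Cfsg.Agent.Unitary Cfsg.Agent.C5.Uni
open scoped MatrixGroups

variable {F : Type*} [Field F] [Fintype F] {q : ℕ}

local notation "V" => (Fin 3 → F)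
local notation "hh" => Cfsg.hermForm 3 F q

variable (hF : Fintype.card F = q ^ 2)
include hF

/-- The frame as a change of basis. -/
lemma Frame.exists_basis {e f z : V} (h : Frame q e f z) :
    ∃ B : GL (Fin 3) F, ∀ x : V, app B x = x 0 • e + x 1 • f + x 2 • z := by
  have H := hermForm_isHerm hF 3
  have hu : IsUnit (Matrix.of ![e, f, z])ᵀ := by
    rw [← Matrix.mulVec_injective_iff_isUnit]
    intro x y hxy
    have key : ∀ x : V, (Matrix.of ![e, f, z])ᵀ *ᵥ x = x 0 • e + x 1 • f + x 2 • z := fun x => by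
      ext i; simp [Matrix.mulVec, dotProduct, Fin.sum_univ_three, mul_comm]
    simp only [key] at hxy
    have e1 := congrArg (fun v => hh v f) hxy
    have e2 := congrArg (fun v => hh v e) hxy
    have e3 := congrArg (fun v => hh v z) hxy
    simp [H.add_left, H.smul_left, h.ee, h.ef, h.ff, h.fe hF, h.ze hF, h.zf hF, h.ez, h.fz, h.zz]
      at e1 e2 e3
    funext i; fin_cases i <;> assumption
  refine ⟨hu.unit, fun x => ?_⟩
  rw [app_apply, IsUnit.unit_spec]
  ext i; simp [Matrix.mulVec, dotProduct, Fin.sum_univ_three, mul_comm]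

/-- An element is given by the images of a frame. -/
theorem exists_elt {e f z : V} (h : Frame q e f z) (N : Matrix (Fin 3) (Fin 3) F) (hN : N.det = 1)
    {e' f' z' : V} (he : e' = N 0 0 • e + N 1 0 • f + N 2 0 • z)
    (hf : f' = N 0 1 • e + N 1 1 • f + N 2 1 • z) (hz : z' = N 0 2 • e + N 1 2 • f + N 2 2 • z)
    (h' : Frame q e' f' z') (hzz : hh z' z' = hh z z) :
    ∃ g ∈ suGL 3 F q, app g e = e' ∧ app g f = f' ∧ app g z = z' := by
  have H := hermForm_isHerm hF 3
  obtain ⟨B, hB⟩ := h.exists_basis hF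
  let A : GL (Fin 3) F := Matrix.GeneralLinearGroup.mkOfDetNeZero N (by rw [hN]; exact one_ne_zero)
  set g := B * A * B⁻¹
  have hB0 : app B⁻¹ e = ![1, 0, 0] := (app B).injective (by rw [app_app_inv, hB]; simp)
  have hB1 : app B⁻¹ f = ![0, 1, 0] := (app B).injective (by rw [app_app_inv, hB]; simp)
  have hB2 : app B⁻¹ z = ![0, 0, 1] := (app B).injective (by rw [app_app_inv, hB]; simp)
  have ge : app g e = e' := by
    rw [map_mul, map_mul, LinearEquiv.mul_apply, LinearEquiv.mul_apply, hB0, hB, app_apply A, he]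
    simp [A, Matrix.GeneralLinearGroup.mkOfDetNeZero, Matrix.mulVec, dotProduct, Fin.sum_univ_three]
  have gf : app g f = f' := by
    rw [map_mul, map_mul, LinearEquiv.mul_apply, LinearEquiv.mul_apply, hB1, hB, app_apply A, hf]
    simp [A, Matrix.GeneralLinearGroup.mkOfDetNeZero, Matrix.mulVec, dotProduct, Fin.sum_univ_three]
  have gz : app g z = z' := by
    rw [map_mul, map_mul, LinearEquiv.mul_apply, LinearEquiv.mul_apply, hB2, hB, app_apply A, hz]
    simp [A, Matrix.GeneralLinearGroup.mkOfDetNeZero, Matrix.mulVec, dotProduct, Fin.sum_univ_three]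
  refine ⟨g, ⟨(mem_GU_iff g).2 fun u v => ?_, ?_⟩, ge, gf, gz⟩
  · rw [← app_apply, ← app_apply]
    conv_rhs => rw [h.expand hF u, h.expand hF v]
    conv_lhs => rw [h.expand hF u, h.expand hF v]
    simp only [map_add, map_smul, ge, gf, gz]
    simp [H.add_left, H.add_right hF, H.smul_left, H.smul_right, h.ee, h.ff, h.ef, h.fe hF, h.ez,
      h.fz, h.ze hF, h.zf hF, h'.ee, h'.ff, h'.ef, h'.fe hF, h'.ez, h'.fz, h'.ze hF, h'.zf hF, hzz]
  · refine Transvect.mem_sl_iff.2 ?_
    show ((B * A * B⁻¹ : GL (Fin 3) F) : Matrix (Fin 3) (Fin 3) F).det = 1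
    rw [Units.val_mul, Units.val_mul, Matrix.det_units_conj]
    exact hN

/-- A diagonal element. -/
theorem exists_diag {e f z : V} (h : Frame q e f z) {a b c : F} (hab : a * b ^ q = 1)
    (hc : c ^ (q + 1) = 1) (hdet : a * b * c = 1) :
    ∃ g ∈ suGL 3 F q, app g e = a • e ∧ app g f = b • f ∧ app g z = c • z := by
  have H := hermForm_isHerm hF 3
  refine exists_elt hF h !![a, 0, 0; 0, b, 0; 0, 0, c] (by rw [det_fin_three]; simp [hdet])
    (by simp) (by simp) (by simp) ?_ ?_
  · refine ⟨?_, ?_, ?_, ?_, ?_, ?_⟩ <;>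
      simp [H.smul_left, H.smul_right, h.ee, h.ff, h.ef, h.ez, h.fz, h.zz, hab]
    refine ⟨fun e => ?_, fun e => ?_⟩ <;> simp [e] at hc
  · simp [H.smul_left, H.smul_right]
    linear_combination hh z z * hc

/-- A unipotent element fixing `e` with prescribed shift. -/
theorem exists_sh3 {e f z : V} (h : Frame q e f z) {β δ γ : F}
    (hδ : β ^ q + δ * hh z z = 0) (hγ : γ + γ ^ q + δ ^ (q + 1) * hh z z = 0) :
    ∃ g ∈ suGL 3 F q, app g e = e ∧ app g f = f + γ • e + δ • z ∧ app g z = z + β • e := by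
  have H := hermForm_isHerm hF 3
  refine exists_elt hF h !![1, γ, β; 0, 1, 0; 0, δ, 1] (by rw [det_fin_three]; simp)
    (by simp) ?_ (by simp [add_comm]) ?_ ?_
  · simp; abel
  · refine ⟨h.ee, ?_, ?_, ?_, ?_, ?_⟩ <;>
      simp [H.add_left, H.add_right hF, H.smul_left, H.smul_right, h.ee, h.ff, h.ef, h.fe hF, h.ez,
        h.fz, h.ze hF, h.zf hF, h.zz]
    · linear_combination hγ
    · linear_combination hδ
  · simp [H.add_left, H.add_right hF, H.smul_left, H.smul_right, h.ee, h.ez, h.ze hF]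

/-- The element exchanging `e` and `f`. -/
theorem exists_flip {e f z : V} (h : Frame q e f z) :
    ∃ g ∈ suGL 3 F q, app g e = f ∧ app g f = e ∧ app g z = (-1 : F) • z := by
  have H := hermForm_isHerm hF 3
  have hq : ((-1 : F)) ^ q = -1 := by rw [neg_pow_q hF, one_pow]
  refine exists_elt hF h !![0, 1, 0; 1, 0, 0; 0, 0, -1] (by rw [det_fin_three]; simp)
    (by simp) (by simp) (by simp) ?_ ?_
  · refine ⟨h.ff, h.ee, h.fe hF, ?_, ?_, ?_⟩ <;>
      simp [-neg_smul, H.smul_left, H.smul_right, h.ez, h.fz, h.zz, hq]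
  · simp [-neg_smul, H.smul_left, H.smul_right, hq]

end Cfsg.Agent.SU3Max
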