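import Cfsg.Agent.Lib.SU3Max.MonoEight
import Cfsg.Agent.Lib.Unitary.DecompTypes
import Cfsg.Agent.Lib.Aschbacher.SU3NotLe

/-!
# The monomial group is maximal in `SU₃(q)`, `q ≠ 5`

Main results:
* `decomposition_maximal` : clause 3
-/

set_option autoImplicit false
set_option linter.unusedSectionVars false

namespace Cfsg.Agent.SU3Max

open Matrix Cfsg.Agent.Transvect Cfsg.Agent.Unitary Cfsg.Agent.C5.Uni
open scoped MatrixGroups

variable {F : Type*} [Field F] [Fintype F] {q : ℕ}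

/-- The orbit of a frame point stays on the frame. -/
theorem MSetup.frame_orbit {M : Subgroup (GL (Fin 3) F)} (S : MSetup q M) :
    ∀ v ∈ orb M (eb F 0), ∃ (i : Fin 3) (r : F), v = r • eb F i := by
  rcases S.orbit_cases with h | rfl
  · exact h
  · exact S.eight

/-- A proper overgroup of the monomial group is everything. -/
theorem mono_le_three (hF : Fintype.card F = q ^ 2) (hq : 3 ≤ q) (h5 : q ≠ 5)
    {M : Subgroup (GL (Fin 3) F)} (hmono : ∀ g ∈ suGL 3 F q, IsMon g → g ∈ M)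
    (hMK : M ≤ suGL 3 F q) {g : GL (Fin 3) F} (hg : g ∈ M) (hgm : ¬ IsMon g) :
    suGL 3 F q ≤ M := by
  classical
  by_cases hnc : ∃ v : Fin 3 → F, v ≠ 0 ∧ v ∈ centres q M
  · obtain ⟨v, hv0, hv⟩ := hnc
    exact le_of_centre hF hq hMK (mono_noFix hF hmono hq) hv0 hv
  · exfalso
    have S : MSetup q M := ⟨hF, hMK, hmono, hq, h5, fun v hv h => hnc ⟨v, hv, h⟩⟩
    obtain ⟨i, r, hr⟩ := S.frame_orbit _ ⟨g, hg, rfl⟩
    exact hgm (S.mon_of_line hg hr)

/-- Clause 3: a frame stabiliser is maximal. -/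
theorem decomposition_maximal (hF : Fintype.card F = q ^ 2) (hq : 3 ≤ q) (h5 : q ≠ 5)
    (D : Fin 3 → Submodule F (Fin 3 → F))
    (hD : Cfsg.Geo.IsNondegenerateMDecomposition (Cfsg.hermForm 3 F q) 1 D) :
    Cfsg.Geo.IsMaximalIn (Cfsg.GU 3 F q ⊓ Cfsg.Geo.specialLinear (Fin 3) F)
      (Cfsg.Geo.decompositionStabilizer D ⊓ (Cfsg.GU 3 F q ⊓ Cfsg.Geo.specialLinear (Fin 3) F)) := by
  classical
  obtain ⟨b, hb, hmem⟩ := exists_frame_of_decomposition hF hD
  have hdim : ∀ i, Module.finrank F (D i) = 1 := hD.1.finrank_eq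
  have iff : ∀ g : GL (Fin 3) F, g ∈ Cfsg.Geo.decompositionStabilizer D ↔ InStab b g := fun g =>
    mem_decompositionStabilizer_iff hF hmem hdim
  obtain ⟨c, hc, hiff⟩ := exists_frame_conj hF (by norm_num) hb
  refine Unitary.isMaximalIn_of_forall inf_le_right ?_ fun M hHM hMK g hg hgH => ?_
  · by_contra hcon
    push Not at hcon
    exact Aschbacher.SU3.not_su3_le_decomposition hF hq hD fun x hx => (hcon x hx).1
  let M' := M.comap (MulAut.conj c).toMonoidHom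
  have hmem' : ∀ h, h ∈ M' ↔ c * h * c⁻¹ ∈ M := fun h => Iff.rfl
  have hMK' : M' ≤ suGL 3 F q := fun h hh => by
    rw [show h = c⁻¹ * (c * h * c⁻¹) * c by group]
    exact mul_mem (mul_mem (inv_mem hc) (hMK ((hmem' h).1 hh))) hc
  have hg' : c * (c⁻¹ * g * c) * c⁻¹ = g := by group
  have hmono : ∀ h ∈ suGL 3 F q, IsMon h → h ∈ M' := fun h hh hm =>
    (hmem' h).2 (hHM ⟨(iff _).2 ((hiff h).1 hm), (mul_mem (mul_mem hc hh) (inv_mem hc) : c * h * c⁻¹ ∈ suGL 3 F q)⟩)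
  have hgM' : c⁻¹ * g * c ∈ M' := (hmem' _).2 (by rw [hg']; exact hg)
  have hgm' : ¬ IsMon (c⁻¹ * g * c) := fun hm =>
    hgH ⟨(iff _).2 (by have := (hiff _).1 hm; rwa [hg'] at this), hMK hg⟩
  intro x hx
  have := (hmem' _).1 (mono_le_three hF hq h5 hmono hMK' hgM' hgm'
    (mul_mem (mul_mem (inv_mem hc) hx) hc))
  rwa [show c * (c⁻¹ * x * c) * c⁻¹ = x by group] at this

end Cfsg.Agent.SU3Max
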