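import Cfsg.Agent.Lib.SU3Max.Arith
import Cfsg.Agent.Lib.Unitary.MonoBase
import Cfsg.Agent.Lib.Unitary.Count

/-!
# An overgroup of the monomial group: the stabiliser of a frame point

Main results:
* `MSetup`, `MSetup.noFix`, `MSetup.homAt`
* `MSetup.mon_of_line` : what maps a frame point to a frame point is monomial
-/

set_option autoImplicit false
set_option linter.unusedSectionVars false

namespace Cfsg.Agent.SU3Max

open Matrix Cfsg.Agent.Transvect Cfsg.Agent.Unitary Cfsg.Agent.C5.Uni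
open scoped MatrixGroups

variable {F : Type*} [Field F] [Fintype F] {q : ℕ}

local notation "V" => (Fin 3 → F)
local notation "hh" => Cfsg.hermForm 3 F q

/-- The standard basis. -/
abbrev eb (F : Type*) [Field F] (i : Fin 3) : Fin 3 → F := Pi.single i 1

/-- An overgroup of the monomial group without centres. -/
structure MSetup (q : ℕ) (M : Subgroup (GL (Fin 3) F)) : Prop where
  hF : Fintype.card F = q ^ 2
  hMK : M ≤ suGL 3 F q
  mono : ∀ g ∈ suGL 3 F q, IsMon g → g ∈ M
  hq : 3 ≤ q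
  h5 : q ≠ 5
  nc : ∀ v : Fin 3 → F, v ≠ 0 → v ∉ centres q M

/-- The elements of `G` mapping the line of `e₀` to itself. -/
def blk (M : Subgroup (GL (Fin 3) F)) : Subgroup (GL (Fin 3) F) where
  carrier := {g | g ∈ M ∧ ∃ a : F, a ≠ 0 ∧ app g (eb F 0) = a • eb F 0}
  one_mem' := ⟨one_mem M, 1, one_ne_zero, by simp⟩
  mul_mem' := fun {g h} ⟨hg, a, ha, hga⟩ ⟨hh', b, hb, hhb⟩ => ⟨mul_mem hg hh', b * a,
    mul_ne_zero hb ha, by
      rw [map_mul, LinearEquiv.mul_apply, hhb, map_smul, hga, smul_smul]⟩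
  inv_mem' := fun {g} ⟨hg, a, ha, hga⟩ => ⟨inv_mem hg, a⁻¹, inv_ne_zero ha, by
    apply (app g).injective
    rw [app_app_inv, map_smul, hga, smul_smul, inv_mul_cancel₀ ha, one_smul]⟩

/-- The action of a matrix group on vectors. -/
@[reducible] def vecAct (G : Subgroup (GL (Fin 3) F)) : MulAction G (Fin 3 → F) where
  smul g x := app (g : GL (Fin 3) F) x
  one_smul x := by show app (1 : GL (Fin 3) F) x = x; simp
  mul_smul g h x := by
    show app ((g : GL (Fin 3) F) * (h : GL (Fin 3) F)) x = _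
    rw [map_mul]; rfl

/-- The orbit of a vector. -/
def orb (G : Subgroup (GL (Fin 3) F)) (v : Fin 3 → F) : Set (Fin 3 → F) :=
  {w | ∃ g ∈ G, app g v = w}

/-- Orbit times stabiliser. -/
theorem card_orb_mul (G : Subgroup (GL (Fin 3) F)) (v : Fin 3 → F) :
    Nat.card G = (orb G v).ncard * Nat.card {g : G // app (g : GL (Fin 3) F) v = v} := by
  classical
  let _ := vecAct G
  have h1 : orb G v = MulAction.orbit G v := by
    ext w
    exact ⟨fun ⟨g, hg, hgv⟩ => ⟨⟨g, hg⟩, hgv⟩, fun ⟨g, hgv⟩ => ⟨g, g.2, hgv⟩⟩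
  have h2 : {g : G // app (g : GL (Fin 3) F) v = v} = MulAction.stabilizer G v := rfl
  rw [h1, h2, ← Nat.card_coe_set_eq, ← Nat.card_prod]
  exact (Nat.card_congr (MulAction.orbitProdStabilizerEquivGroup G v)).symm

lemma Hom.conj (hF : Fintype.card F = q ^ 2) {t g : GL (Fin 3) F} (hg : g ∈ Cfsg.GU 3 F q)
    {z : V} {a b : F} (h : Hom q t z a b) : Hom q (g * t * g⁻¹) (app g z) a b := by
  refine ⟨?_, fun x hx => ?_⟩
  · rw [map_mul, map_mul, LinearEquiv.mul_apply, LinearEquiv.mul_apply, app_inv_app, h.1, map_smul]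
  · rw [map_mul, map_mul, LinearEquiv.mul_apply, LinearEquiv.mul_apply,
      h.2 _ (by rw [herm_app_inv hF hg]; exact hx), map_smul, app_app_inv]

section

variable (hF : Fintype.card F = q ^ 2)
include hF

lemma herm_eb (x : V) (i : Fin 3) : hh x (eb F i) = x i := hermForm_single_right hF x i

lemma herm_self (x : V) : hh x x = x 0 ^ (q + 1) + x 1 ^ (q + 1) + x 2 ^ (q + 1) := by
  show ∑ i, x i * x i ^ q = _
  rw [Fin.sum_univ_three, pow_succ', pow_succ', pow_succ']

lemma eb_self (i : Fin 3) : hh (eb F i) (eb F i) = 1 := by simp [herm_eb hF]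

lemma expand_eb (x : V) : x = x 0 • eb F 0 + x 1 • eb F 1 + x 2 • eb F 2 := by
  funext i; fin_cases i <;> simp

/-- An isometry fixing `e₀` up to a scalar preserves its polar. -/
lemma app_zero_of_line {g : GL (Fin 3) F} (hg : g ∈ Cfsg.GU 3 F q) {a : F} (ha : a ≠ 0)
    (h0 : app g (eb F 0) = a • eb F 0) {x : V} (hx : x 0 = 0) : app g x 0 = 0 := by
  have h1 := herm_app hF hg x (eb F 0)
  rw [h0, (hermForm_isHerm hF 3).smul_right, herm_eb hF, herm_eb hF, hx] at h1
  exact (mul_eq_zero.1 h1).resolve_left (pow_ne_zero _ ha)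

/-- An element of determinant one fixing two frame points. -/
lemma diag_of_fix {g : GL (Fin 3) F} (hg : g ∈ suGL 3 F q) {a b : F}
    (h0 : app g (eb F 0) = a • eb F 0) (h1 : app g (eb F 1) = b • eb F 1) :
    a ≠ 0 ∧ b ≠ 0 ∧ app g (eb F 2) = (a * b)⁻¹ • eb F 2 := by
  have H := hermForm_isHerm hF 3
  have hne : ∀ {i : Fin 3} {c : F}, app g (eb F i) = c • eb F i → c ≠ 0 := fun {i c} h e => by
    rw [e, zero_smul] at h
    exact one_ne_zero (by simpa using congrFun ((app g).map_eq_zero_iff.1 h) i : (1 : F) = 0)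
  have ha := hne h0
  have hb := hne h1
  have hz : ∀ (j : Fin 3) (c : F), j ≠ 2 → c ≠ 0 → app g (eb F j) = c • eb F j →
      app g (eb F 2) j = 0 := by
    intro j c hj hc h
    have e := herm_app hF hg.1 (eb F 2) (eb F j)
    rw [h, H.smul_right, herm_eb hF, herm_eb hF, show eb F 2 j = 0 from Pi.single_eq_of_ne hj 1] at e
    exact (mul_eq_zero.1 e).resolve_left (pow_ne_zero _ hc)
  obtain ⟨c, hc⟩ : ∃ c, app g (eb F 2) = c • eb F 2 := by
    refine ⟨app g (eb F 2) 2, ?_⟩
    conv_lhs => rw [expand_eb hF (app g (eb F 2)), hz 0 a (by decide) ha h0, hz 1 b (by decide) hb h1]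
    simp
  have hd : (g : Matrix (Fin 3) (Fin 3) F) = Matrix.diagonal ![a, b, c] := by
    refine Matrix.ext_of_mulVec_single fun i => ?_
    fin_cases i
    · show app g (eb F 0) = _; rw [h0]; funext j; fin_cases j <;> simp [Matrix.mulVec_diagonal]
    · show app g (eb F 1) = _; rw [h1]; funext j; fin_cases j <;> simp [Matrix.mulVec_diagonal]
    · show app g (eb F 2) = _; rw [hc]; funext j; fin_cases j <;> simp [Matrix.mulVec_diagonal]
  have hdet : (g : Matrix (Fin 3) (Fin 3) F).det = 1 := congrArg Units.val (MonoidHom.mem_ker.1 hg.2)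
  rw [hd, Matrix.det_diagonal, Fin.prod_univ_three] at hdet
  simp at hdet
  refine ⟨ha, hb, ?_⟩
  rw [hc, ← eq_inv_of_mul_eq_one_right hdet]

lemma eq_of_two {g g' : GL (Fin 3) F} (hg : g ∈ suGL 3 F q) (hg' : g' ∈ suGL 3 F q)
    (h0 : app g (eb F 0) = app g' (eb F 0)) (h1 : app g (eb F 1) = app g' (eb F 1)) : g = g' := by
  have e0 : app (g'⁻¹ * g) (eb F 0) = (1 : F) • eb F 0 := by
    rw [map_mul, LinearEquiv.mul_apply, h0, app_inv_app, one_smul]
  have e1 : app (g'⁻¹ * g) (eb F 1) = (1 : F) • eb F 1 := by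
    rw [map_mul, LinearEquiv.mul_apply, h1, app_inv_app, one_smul]
  obtain ⟨-, -, e2⟩ := diag_of_fix hF (mul_mem (inv_mem hg') hg) e0 e1
  rw [mul_one, inv_one] at e2
  rw [one_smul] at e0 e1 e2
  have : g'⁻¹ * g = 1 := gl_ext fun x => by
    rw [expand_eb hF x]
    simp only [map_add, map_smul, e0, e1, e2, map_one]
    rfl
  rw [inv_mul_eq_one] at this
  exact this.symm

end

section MonoOnly

variable {M : Subgroup (GL (Fin 3) F)} (hF : Fintype.card F = q ^ 2)
  (mono : ∀ g ∈ suGL 3 F q, IsMon g → g ∈ M)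
include hF mono

lemma mono_diag (l : Fin 3 → F) (hl : ∀ i, l i ^ (q + 1) = 1) (hp : ∏ i, l i = 1) :
    ∃ g ∈ M, ∀ x j, app g x j = l j * x j := by
  obtain ⟨g, hg, -, -, hgx⟩ := exists_diagM hF mono l hl hp
  exact ⟨g, hg, hgx⟩

lemma mono_perm (π : Equiv.Perm (Fin 3)) : ∃ g ∈ M, ∀ i, ∃ c : F, c ≠ 0 ∧
    c ^ (q + 1) = 1 ∧ app g (eb F i) = c • eb F (π i) := by
  obtain ⟨g, hg, -, -, m, hm, hgx⟩ := exists_monM hF mono π (fun _ => 1) (fun _ => one_pow _) 0
  refine ⟨g, hg, fun i => ⟨if π i = 0 then m else 1, ?_, ?_, ?_⟩⟩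
  · split
    · intro e; simp [e] at hm
    · exact one_ne_zero
  · split
    · exact hm
    · exact one_pow _
  · funext j
    rw [app_apply, hgx]
    rcases eq_or_ne j (π i) with rfl | hj
    · simp
    · have : π.symm j ≠ i := fun h => hj (by rw [← h, Equiv.apply_symm_apply])
      simp [this, hj]

theorem mono_noFix (hq : 3 ≤ q) : NoFix M := by
  classical
  intro x hx
  obtain ⟨i, hi⟩ := Function.ne_iff.1 hx
  simp only [Pi.zero_apply] at hi
  by_cases h : ∀ j, j ≠ i → x j = 0
  · obtain ⟨g, hg, hgx⟩ := mono_perm hF mono (Equiv.swap i (i + 1))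
    refine ⟨g, hg, fun hmem => ?_⟩
    obtain ⟨c, hc0, -, hc⟩ := hgx i
    have hxe : x = x i • eb F i := by
      funext j
      rcases eq_or_ne j i with rfl | hj
      · simp
      · simp [h j hj, hj]
    rw [hxe, map_smul, hc, smul_smul, Equiv.swap_apply_left] at hmem
    obtain ⟨d, hd⟩ := Submodule.mem_span_singleton.1 hmem
    have := congrFun hd (i + 1)
    simp [hi, hc0] at this
  · push Not at h
    obtain ⟨j, hji, hj⟩ := h
    obtain ⟨a, ha0, ha⟩ := exists_order_norm hF
    have ha1 : a ^ (q + 1) = 1 := ha ▸ pow_orderOf_eq_one a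
    obtain ⟨g, hg, hgx⟩ := mono_diag hF mono (fun k => if k = i then a else if k = j then a⁻¹ else 1)
      (fun k => by
        split_ifs <;> simp [ha1, inv_pow])
      (by fin_cases i <;> fin_cases j <;>
        first | exact absurd rfl hji | simp [Fin.prod_univ_three, ha0])
    refine ⟨g, hg, fun hmem => ?_⟩
    obtain ⟨c, hc⟩ := Submodule.mem_span_singleton.1 hmem
    have e1 := congrFun hc i
    have e2 := congrFun hc j
    rw [hgx] at e1 e2
    simp [hji] at e1 e2
    replace e1 := e1.resolve_right hi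
    replace e2 := e2.resolve_right hj
    have : a = a⁻¹ := e1.symm.trans e2
    have h2 : a ^ 2 = 1 := by rw [pow_two]; nth_rewrite 2 [this]; exact mul_inv_cancel₀ ha0
    have := Nat.le_of_dvd (by norm_num) (orderOf_dvd_of_pow_eq_one h2)
    have := hq
    omega

end MonoOnly

namespace MSetup

variable {M : Subgroup (GL (Fin 3) F)} (S : MSetup q M)
include S

lemma diag_mem (l : Fin 3 → F) (hl : ∀ i, l i ^ (q + 1) = 1) (hp : ∏ i, l i = 1) :
    ∃ g ∈ M, ∀ x j, app g x j = l j * x j := mono_diag S.hF S.mono l hl hp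

lemma diag2_mem {a b : F} (ha : a ^ (q + 1) = 1) (hb : b ^ (q + 1) = 1) :
    ∃ g ∈ M, app g (eb F 0) = a • eb F 0 ∧ app g (eb F 1) = b • eb F 1 ∧
      app g (eb F 2) = (a * b)⁻¹ • eb F 2 := by
  have ha0 : a ≠ 0 := fun e => by simp [e] at ha
  have hb0 : b ≠ 0 := fun e => by simp [e] at hb
  obtain ⟨g, hg, hgx⟩ := S.diag_mem ![a, b, (a * b)⁻¹]
    (fun i => by fin_cases i <;> simp [ha, hb, mul_pow, inv_pow])
    (by rw [Fin.prod_univ_three]; simp; field_simp)
  refine ⟨g, hg, ?_, ?_, ?_⟩ <;> (funext j; rw [hgx]; fin_cases j <;> simp)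

lemma perm_mem (π : Equiv.Perm (Fin 3)) : ∃ g ∈ M, ∀ i, ∃ c : F, c ≠ 0 ∧
    c ^ (q + 1) = 1 ∧ app g (eb F i) = c • eb F (π i) := mono_perm S.hF S.mono π

lemma noFix : NoFix M := mono_noFix S.hF S.mono S.hq

/-- The homologies of the points of the orbit of `e₀`. -/
lemma homAt {v : V} (hv : v ∈ orb M (eb F 0)) {a : F} (ha : a ^ (q + 1) = 1) :
    ∃ t ∈ M, Hom q t v (a * a)⁻¹ a := by
  obtain ⟨g, hg, rfl⟩ := hv
  have ha0 : a ≠ 0 := fun e => by simp [e] at ha
  obtain ⟨t, ht, hte0, hte1, hte2⟩ := S.diag2_mem (a := (a * a)⁻¹) (b := a)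
    (by rw [inv_pow, mul_pow, ha]; simp) ha
  have h2 : ((a * a)⁻¹ * a)⁻¹ = a := by field_simp
  rw [h2] at hte2
  refine ⟨g * t * g⁻¹, mul_mem (mul_mem hg ht) (inv_mem hg),
    Hom.conj S.hF (S.hMK hg).1 ⟨hte0, fun x hx => ?_⟩⟩
  rw [herm_eb S.hF] at hx
  conv_lhs => rw [expand_eb S.hF x]
  conv_rhs => rw [expand_eb S.hF x]
  simp only [map_add, map_smul, hte1, hte2, hx, zero_smul, zero_add, smul_add]
  rw [smul_comm a, smul_comm a]

/-- The stabiliser of `e₁` in the block. -/
lemma card_blk_fix :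
    Nat.card {g : blk M // app (g : GL (Fin 3) F) (eb F 1) = eb F 1} = q + 1 := by
  refine Eq.trans ?_ (card_root S.hF (Nat.succ_ne_zero q) dvd_rfl)
  have hval : ∀ g : {g : blk M // app (g : GL (Fin 3) F) (eb F 1) = eb F 1},
      app (g.1 : GL (Fin 3) F) (eb F 0) 0 ^ (q + 1) = 1 ∧
        app (g.1 : GL (Fin 3) F) (eb F 0) = app (g.1 : GL (Fin 3) F) (eb F 0) 0 • eb F 0 := by
    intro g
    obtain ⟨a, -, ha⟩ := g.1.2.2
    have e : app (g.1 : GL (Fin 3) F) (eb F 0) 0 = a := by rw [ha]; simp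
    rw [e]
    refine ⟨?_, ha⟩
    have h1 := herm_app S.hF (S.hMK g.1.2.1).1 (eb F 0) (eb F 0)
    rw [ha, (hermForm_isHerm S.hF 3).smul_left, (hermForm_isHerm S.hF 3).smul_right,
      eb_self S.hF, mul_one] at h1
    rw [pow_succ']; exact h1
  refine Nat.card_eq_of_bijective (fun g => (⟨_, (hval g).1⟩ : {x : F // x ^ (q + 1) = 1}))
    ⟨fun g g' h => ?_, fun a => ?_⟩
  · refine Subtype.ext (Subtype.ext (eq_of_two S.hF (S.hMK g.1.2.1) (S.hMK g'.1.2.1) ?_ ?_))
    · have h' : app (g.1 : GL (Fin 3) F) (eb F 0) 0 = app (g'.1 : GL (Fin 3) F) (eb F 0) 0 :=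
        congrArg Subtype.val h
      rw [(hval g).2, (hval g').2, h']
    · rw [g.2, g'.2]
  · have ha0 : (a : F) ≠ 0 := fun e => by simpa [e] using a.2
    obtain ⟨g, hg, h0, h1, -⟩ := S.diag2_mem a.2 (one_pow (q + 1))
    rw [one_smul] at h1
    refine ⟨⟨⟨g, hg, a, ha0, h0⟩, h1⟩, Subtype.ext ?_⟩
    show app g (eb F 0) 0 = a
    rw [h0]; simp

/-- The block embeds in `GU₂(q)`. -/
lemma card_blk_dvd : Nat.card (blk M) ∣ q * ((q + 1) * (q ^ 2 - 1)) := by
  classical
  have hcard : Nat.card (Cfsg.GU 2 F q) = q * ((q + 1) * (q ^ 2 - 1)) := by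
    rw [card_GU S.hF 2]
    simp [Finset.prod_range_succ]
  let A : blk M → Matrix (Fin 2) (Fin 2) F := fun g =>
    Matrix.of fun i j => app (g : GL (Fin 3) F) (eb F j.succ) i.succ
  have hzero : ∀ (g : blk M) (j : Fin 2), app (g : GL (Fin 3) F) (eb F j.succ) 0 = 0 := fun g j => by
    obtain ⟨a, ha, hga⟩ := g.2.2
    exact app_zero_of_line S.hF (S.hMK g.2.1).1 ha hga (Pi.single_eq_of_ne (Fin.succ_ne_zero j).symm _)
  have hval : ∀ (g : blk M) (j : Fin 2), app (g : GL (Fin 3) F) (eb F j.succ) =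
      A g 0 j • eb F 1 + A g 1 j • eb F 2 := fun g j => by
    conv_lhs => rw [expand_eb S.hF (app (g : GL (Fin 3) F) (eb F j.succ)), hzero g j]
    simp [A]
  have hmul : ∀ g h : blk M, A (g * h) = A g * A h := by
    intro g h
    ext i j
    show app ((g : GL (Fin 3) F) * (h : GL (Fin 3) F)) (eb F j.succ) i.succ = _
    rw [map_mul, LinearEquiv.mul_apply, hval h j, map_add, map_smul, map_smul, Matrix.mul_apply,
      Fin.sum_univ_two]
    show (A h 0 j • app (g : GL (Fin 3) F) (eb F 1) + A h 1 j • app (g : GL (Fin 3) F) (eb F 2))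
      i.succ = A g i 0 * A h 0 j + A g i 1 * A h 1 j
    rw [Pi.add_apply, Pi.smul_apply, Pi.smul_apply, smul_eq_mul, smul_eq_mul, mul_comm (A h 0 j),
      mul_comm (A h 1 j)]
    rfl
  have hone : A 1 = 1 := by
    ext i j
    show app (1 : GL (Fin 3) F) (eb F j.succ) i.succ = _
    fin_cases i <;> fin_cases j <;> simp
  have hU : ∀ g : blk M, IsUnitary q (A g) := fun g =>
    (isUnitary_iff_orthonormal S.hF (A g)).2 (by
      have h : ∀ i j : Fin 2, Cfsg.hermForm 2 F q (fun k => A g k i) (fun k => A g k j) =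
          if i = j then 1 else 0 := by
        intro i j
        have e := herm_app S.hF (S.hMK g.2.1).1 (eb F i.succ) (eb F j.succ)
        rw [herm_eb S.hF] at e
        have e2 : hh (app (g : GL (Fin 3) F) (eb F i.succ)) (app (g : GL (Fin 3) F) (eb F j.succ)) =
            Cfsg.hermForm 2 F q (fun k => A g k i) (fun k => A g k j) := by
          show ∑ k, _ = ∑ k, _
          rw [Fin.sum_univ_succ, hzero g i, zero_mul, zero_add]
          rfl
        rw [← e2, e]
        fin_cases i <;> fin_cases j <;> simp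
      exact ⟨fun i => (h i i).trans (if_pos rfl), fun i j hij => (h i j).trans (if_neg hij)⟩)
  let φ : blk M →* Cfsg.GU 2 F q := MonoidHom.mk' (fun g => guOfUnitary S.hF (A g) (hU g)) fun g h =>
    Subtype.ext (Units.ext (by
      show _ = (_ : Matrix (Fin 2) (Fin 2) F) * _
      simp only [guOfUnitary_val]
      exact hmul g h))
  have hφ : Function.Injective φ := by
    refine (injective_iff_map_eq_one φ).2 fun g hg => ?_
    have hA : A g = 1 := by
      have h := congrArg (fun x : Cfsg.GU 2 F q => ((x : GL (Fin 2) F) : Matrix (Fin 2) (Fin 2) F)) hg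
      simpa [φ] using h
    obtain ⟨a, ha, hga⟩ := g.2.2
    have h1 : app (g : GL (Fin 3) F) (eb F 1) = (1 : F) • eb F 1 := by
      have := hval g 0
      rw [hA] at this
      simpa using this
    have h2 : app (g : GL (Fin 3) F) (eb F 2) = (1 : F) • eb F 2 := by
      have := hval g 1
      rw [hA] at this
      simpa using this
    obtain ⟨-, -, h2'⟩ := diag_of_fix S.hF (S.hMK g.2.1) hga h1
    rw [mul_one, h2] at h2'
    have ha1 : a = 1 := by
      have := congrFun h2' 2
      simpa using this.symm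
    refine Subtype.ext (eq_of_two S.hF (S.hMK g.2.1) (one_mem _) ?_ ?_)
    · rw [hga, ha1, one_smul]; simp
    · rw [h1, one_smul]; simp
  exact hcard ▸ Subgroup.card_dvd_of_injective φ hφ

/-- Norm one scalars act on the orbit of `e₁`. -/
lemma orb_full {a b : F} (ha : a ^ (q + 1) = 1) (hb : b ^ (q + 1) = 1) {v : V}
    (hv : v ∈ orb (blk M) (eb F 1)) : ![0, a * v 1, b * v 2] ∈ orb (blk M) (eb F 1) := by
  obtain ⟨g, hg, hgv⟩ := hv
  have ha0 : a ≠ 0 := fun e => by simp [e] at ha
  have hb0 : b ≠ 0 := fun e => by simp [e] at hb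
  have hv0 : v 0 = 0 := by
    obtain ⟨c, hc, hgc⟩ := hg.2
    rw [← hgv]
    exact app_zero_of_line S.hF (S.hMK hg.1).1 hc hgc (by simp)
  obtain ⟨t, ht, htx⟩ := S.diag_mem ![(a * b)⁻¹, a, b]
    (fun i => by fin_cases i <;> simp [ha, hb, mul_pow, inv_pow])
    (by rw [Fin.prod_univ_three]; simp; field_simp)
  refine ⟨t * g, mul_mem ⟨ht, (a * b)⁻¹, inv_ne_zero (mul_ne_zero ha0 hb0), ?_⟩ hg, ?_⟩
  · funext j; rw [htx]; fin_cases j <;> simp
  · rw [map_mul, LinearEquiv.mul_apply, hgv]
    funext j; rw [htx]; fin_cases j <;> simp [hv0]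

lemma orb_sub {v : V} (hv : v ∈ orb (blk M) (eb F 1)) :
    v 0 = 0 ∧ v 1 ^ (q + 1) + v 2 ^ (q + 1) = 1 := by
  obtain ⟨g, hg, rfl⟩ := hv
  obtain ⟨c, hc, hgc⟩ := hg.2
  have h0 := app_zero_of_line S.hF (S.hMK hg.1).1 hc hgc (x := eb F 1) (by simp)
  refine ⟨h0, ?_⟩
  have h := herm_app S.hF (S.hMK hg.1).1 (eb F 1) (eb F 1)
  rwa [eb_self S.hF, herm_self S.hF, h0, zero_pow (Nat.succ_ne_zero q), zero_add] at h

/-- The orbit of `e₁` is `2(q + 1)` frame vectors and full classes. -/
lemma card_orb : ∃ k, (orb (blk M) (eb F 1)).ncard = 2 * (q + 1) + k * (q + 1) ^ 2 ∧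
    (k = 0 → ∀ v ∈ orb (blk M) (eb F 1), v 1 = 0 ∨ v 2 = 0) := by
  classical
  set O := orb (blk M) (eb F 1) with hO
  set s : Finset V := O.toFinset with hs
  have he1 : eb F 1 ∈ O := ⟨1, one_mem _, by simp⟩
  have he2 : ∃ c : F, c ^ (q + 1) = 1 ∧ c • eb F 2 ∈ O := by
    obtain ⟨g, hg, hgx⟩ := S.perm_mem (Equiv.swap 1 2)
    obtain ⟨c0, hc0, -, h0⟩ := hgx 0
    obtain ⟨c, -, hc, h1⟩ := hgx 1
    rw [show Equiv.swap (1 : Fin 3) 2 0 = 0 by decide] at h0
    rw [Equiv.swap_apply_left] at h1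
    exact ⟨c, hc, g, ⟨hg, c0, hc0, h0⟩, h1⟩
  have hroot : (Finset.univ.filter fun x : F => x ^ (q + 1) = 1).card = q + 1 := by
    rw [← Fintype.card_subtype, ← Nat.card_eq_fintype_card, card_root S.hF (Nat.succ_ne_zero q) dvd_rfl]
  set μ := Finset.univ.filter fun x : F => x ^ (q + 1) = 1 with hμ
  have hmemμ : ∀ x, x ∈ μ ↔ x ^ (q + 1) = 1 := fun x => by simp [hμ]
  -- the frame part
  have hA : s.filter (fun v => v 1 = 0 ∨ v 2 = 0) =
      μ.image (fun a => ![0, a, 0]) ∪ μ.image (fun a => ![0, 0, a]) := by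
    ext v
    simp only [Finset.mem_filter, hs, Set.mem_toFinset, Finset.mem_union, Finset.mem_image, hmemμ]
    constructor
    · rintro ⟨hv, h | h⟩
      · right
        obtain ⟨h0, h1⟩ := S.orb_sub hv
        rw [h, zero_pow (Nat.succ_ne_zero q), zero_add] at h1
        exact ⟨v 2, h1, by funext j; fin_cases j <;> simp [h0, h]⟩
      · left
        obtain ⟨h0, h1⟩ := S.orb_sub hv
        rw [h, zero_pow (Nat.succ_ne_zero q), add_zero] at h1
        exact ⟨v 1, h1, by funext j; fin_cases j <;> simp [h0, h]⟩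
    · rintro (⟨a, ha, rfl⟩ | ⟨a, ha, rfl⟩)
      · refine ⟨?_, Or.inr (by simp)⟩
        have := S.orb_full ha (one_pow (q + 1)) he1
        convert this using 1
        funext j; fin_cases j <;> simp
      · refine ⟨?_, Or.inl (by simp)⟩
        obtain ⟨c, hc, hce⟩ := he2
        have hc0 : c ≠ 0 := fun e => by simp [e] at hc
        have := S.orb_full (one_pow (q + 1)) (b := a / c) (by rw [div_pow, ha, hc, div_one]) hce
        convert this using 1
        funext j; fin_cases j <;> simp [hc0]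
  have hAc : (s.filter (fun v => v 1 = 0 ∨ v 2 = 0)).card = 2 * (q + 1) := by
    rw [hA, Finset.card_union_of_disjoint, Finset.card_image_of_injective, Finset.card_image_of_injective,
      hroot, two_mul]
    · exact fun a b h => by simpa using congrFun h 2
    · exact fun a b h => by simpa using congrFun h 1
    · rw [Finset.disjoint_left]
      intro v hv hv'
      simp only [Finset.mem_image, hmemμ] at hv hv'
      obtain ⟨a, ha, rfl⟩ := hv
      obtain ⟨b, -, hb⟩ := hv'
      have := congrFun hb 1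
      simp at this
      simp [← this] at ha
  -- the other part
  set B := s.filter (fun v => ¬ (v 1 = 0 ∨ v 2 = 0)) with hB
  have hfib : ∀ x ∈ B.image (fun v => v 1 ^ (q + 1)),
      (B.filter fun v => v 1 ^ (q + 1) = x).card = (q + 1) ^ 2 := by
    intro x hx
    obtain ⟨w, hw, rfl⟩ := Finset.mem_image.1 hx
    simp only [hB, Finset.mem_filter, hs, Set.mem_toFinset, not_or] at hw
    obtain ⟨hw, hw1, hw2⟩ := hw
    refine Eq.trans (Finset.card_bij (s := μ ×ˢ μ) (fun ab _ => (![0, ab.1 * w 1, ab.2 * w 2] : V))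
      ?_ ?_ ?_).symm (by rw [Finset.card_product, hroot, pow_two])
    · intro ab hab
      simp only [Finset.mem_product, hmemμ] at hab
      simp only [hB, Finset.mem_filter, hs, Set.mem_toFinset, not_or]
      refine ⟨⟨S.orb_full hab.1 hab.2 hw, ?_, ?_⟩, ?_⟩
      · simpa [hw1] using fun e => by simp [e] at hab
      · simpa [hw2] using fun e => by simp [e] at hab
      · simp [mul_pow, hab.1]
    · intro ab _ cd _ h
      refine Prod.ext (mul_right_cancel₀ hw1 ?_) (mul_right_cancel₀ hw2 ?_)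
      · simpa using congrFun h 1
      · simpa using congrFun h 2
    · intro v hv
      simp only [hB, Finset.mem_filter, hs, Set.mem_toFinset, not_or] at hv
      obtain ⟨⟨hv, -, -⟩, hN⟩ := hv
      obtain ⟨h0, hsum⟩ := S.orb_sub hv
      obtain ⟨-, hsum'⟩ := S.orb_sub hw
      refine ⟨(v 1 / w 1, v 2 / w 2), ?_, ?_⟩
      · simp only [Finset.mem_product, hmemμ]
        refine ⟨by rw [div_pow, hN, div_self (pow_ne_zero _ hw1)], ?_⟩
        rw [div_pow, div_eq_one_iff_eq (pow_ne_zero _ hw2)]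
        linear_combination hsum - hsum' - hN
      · funext j; fin_cases j <;> simp [h0, hw1, hw2]
  refine ⟨(B.image fun v => v 1 ^ (q + 1)).card, ?_, fun hk v hv => ?_⟩
  · rw [Set.ncard_eq_toFinset_card', ← hs,
      ← Finset.card_filter_add_card_filter_not (fun v : V => v 1 = 0 ∨ v 2 = 0), hAc, ← hB,
      Finset.card_eq_sum_card_image (fun v : V => v 1 ^ (q + 1)) B, Finset.sum_congr rfl hfib,
      Finset.sum_const, smul_eq_mul]
  · by_contra h
    rw [Finset.card_eq_zero, Finset.image_eq_empty] at hk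
    have : v ∈ B := by
      simp only [hB, Finset.mem_filter, hs, Set.mem_toFinset]
      exact ⟨hv, h⟩
    rw [hk] at this
    exact Finset.notMem_empty v this

/-- `q = 9`: the block has no orbit of twelve points. -/
lemma no_twelve (h9 : q = 9) (hcard : Nat.card (blk M) = 1200) : False := by
  classical
  subst h9
  have H := hermForm_isHerm S.hF 3
  obtain ⟨p', hp'⟩ := CharP.exists F
  have hp3 : p' = 3 := by
    have hpp : p'.Prime :=
      (CharP.char_is_prime_or_zero F p').resolve_right (CharP.char_ne_zero_of_finite F p')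
    obtain ⟨n, -, hn⟩ := FiniteField.card F p'
    rw [S.hF] at hn
    have : p' ∣ 3 ^ 4 := by
      rw [show (3 : ℕ) ^ 4 = 9 ^ 2 from rfl, hn]; exact dvd_pow_self _ n.ne_zero
    exact (Nat.prime_dvd_prime_iff_eq hpp Nat.prime_three).1 (hpp.dvd_of_dvd_pow this)
  subst hp3
  haveI : Fact (Nat.Prime 3) := ⟨Nat.prime_three⟩
  obtain ⟨⟨g, hg⟩, hord⟩ := exists_prime_orderOf_dvd_card' (G := blk M) 3 (by rw [hcard]; norm_num)
  have hgo : orderOf g = 3 := (Subgroup.orderOf_coe (⟨g, hg⟩ : blk M)).trans hord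
  have hP : IsPGroup 3 (Subgroup.zpowers g) := IsPGroup.of_card (n := 1) (by
    rw [Nat.card_zpowers, hgo, pow_one])
  have hfix : ∀ x ∈ Subgroup.zpowers g, app x (eb F 0) ∈ F ∙ eb F 0 := by
    intro x hx
    obtain ⟨a, -, ha⟩ := ((Subgroup.zpowers_le.2 hg) hx).2
    exact Submodule.mem_span_singleton.2 ⟨a, ha.symm⟩
  obtain ⟨w, hw0, hww, hwz, hall⟩ := exists_axis_point S.hF S.hMK (Subgroup.zpowers_le.2 hg.1) hP
    (fun e => by
      have h1 := Subgroup.mem_zpowers g
      rw [e, Subgroup.mem_bot] at h1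
      rw [h1, orderOf_one] at hgo
      norm_num at hgo)
    (z := eb F 0) (by rw [eb_self S.hF]; exact one_ne_zero) hfix
  rw [herm_eb S.hF] at hwz
  obtain ⟨f, hfr⟩ := exists_frame_point S.hF hw0 hww (z := eb F 0)
    (by rw [eb_self S.hF]; exact one_ne_zero) (by rw [herm_eb S.hF]; exact hwz)
  -- the translations at `w`
  let W : AddSubgroup F :=
    { carrier := {c | c + c ^ 9 = 0 ∧ tu 9 w c ∈ M}
      zero_mem' := ⟨by simp, by rw [tu_zero hww]; exact one_mem M⟩
      add_mem' := fun {a b} ha hb => ⟨by rw [add_pow_q S.hF]; linear_combination ha.1 + hb.1,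
        by rw [← tu_add S.hF hww]; exact mul_mem ha.2 hb.2⟩
      neg_mem' := fun {a} ha => ⟨by rw [neg_pow_q S.hF]; linear_combination -ha.1, by
        rw [show tu 9 w (-a) = (tu 9 w a)⁻¹ from eq_inv_of_mul_eq_one_left (by
          rw [tu_add S.hF hww, neg_add_cancel, tu_zero hww])]
        exact inv_mem ha.2⟩ }
  let S0 : AddSubgroup F :=
    { carrier := {c | c + c ^ 9 = 0}
      zero_mem' := by simp
      add_mem' := fun {a b} (ha : a + a ^ 9 = 0) (hb : b + b ^ 9 = 0) => by
        show a + b + (a + b) ^ 9 = 0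
        rw [add_pow_q S.hF]; linear_combination ha + hb
      neg_mem' := fun {a} (ha : a + a ^ 9 = 0) => by
        show -a + (-a) ^ 9 = 0
        rw [neg_pow_q S.hF]; linear_combination -ha }
  have hS0 : Nat.card S0 = 9 := card_trace_zero S.hF
  have hW3 : Nat.card W = 3 := by
    obtain ⟨c, hc, hgc⟩ := hall g (Subgroup.mem_zpowers g)
    have hc0 : c ≠ 0 := by
      rintro rfl
      rw [hgc, tu_zero hww, orderOf_one] at hgo
      norm_num at hgo
    have hcW : c ∈ W := ⟨hc, hgc ▸ hg.1⟩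
    have hd : Nat.card W ∣ 3 ^ 2 := by
      rw [show (3 : ℕ) ^ 2 = Nat.card S0 from hS0.symm]
      exact AddSubgroup.card_dvd_of_le fun x hx => hx.1
    obtain ⟨i, hi, he⟩ := (Nat.dvd_prime_pow Nat.prime_three).1 hd
    interval_cases i
    · exfalso
      have : Subsingleton W := (Nat.card_eq_one_iff_unique.1 (by rw [he, pow_zero])).1
      exact hc0 (congrArg Subtype.val (Subsingleton.elim (⟨c, hcW⟩ : W) 0))
    · rw [he, pow_one]
    · exfalso
      refine S.nc w hw0 ((mem_centres_iff S.hF).2 ⟨hww, fun d hd' => ?_⟩)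
      have heq : W = S0 := AddSubgroup.eq_of_le_of_card_ge (fun x hx => hx.1) (by
        rw [hS0, he]; norm_num)
      have hmem : d ∈ W := heq ▸ hd'
      exact hmem.2
  obtain ⟨c0, hc0W, hc00⟩ : ∃ c ∈ W, c ≠ (0 : F) := by
    by_contra! hh'
    have : Subsingleton W := ⟨fun a b => Subtype.ext (by rw [hh' a a.2, hh' b b.2])⟩
    rw [Nat.card_of_subsingleton (0 : W)] at hW3
    norm_num at hW3
  -- scalars of the stabiliser
  have hscale : ∀ h ∈ blk M, ∀ l : F, app h w = l • w → l ^ 20 = 1 := by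
    intro h hh' l hl
    have hl0 : l ≠ 0 := fun e => hw0 ((app h).map_eq_zero_iff.1 (by rw [hl, e, zero_smul]))
    have hin : ∀ x ∈ W, x * l ^ 10 ∈ W := fun x hx =>
      ⟨mul_skew S.hF hx.1 (pow_q_succ_fixed S.hF l), tu_scale S.hF S.hMK hww hx.2 hh'.1 hl⟩
    have hthree : ∀ x ∈ W, x = 0 ∨ x = c0 ∨ x = -c0 := by
      intro x hx
      by_contra! hne
      let T : Finset W := {0, ⟨c0, hc0W⟩, ⟨-c0, neg_mem hc0W⟩, ⟨x, hx⟩}
      have h3 : (3 : F) = 0 := by exact_mod_cast CharP.cast_eq_zero F 3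
      have hcc : c0 ≠ -c0 := fun e => hc00 (by linear_combination c0 * h3 - e)
      have hT : T.card = 4 := by
        simp [T, Subtype.ext_iff, hc00.symm, hcc, hne.1.symm, hne.2.1.symm, hne.2.2.symm,
          (neg_ne_zero.2 hc00).symm]
      have := Finset.card_le_univ T
      rw [← Nat.card_eq_fintype_card, hW3, hT] at this
      omega
    rcases hthree _ (hin c0 hc0W) with h' | h' | h'
    · exact absurd h' (mul_ne_zero hc00 (pow_ne_zero _ hl0))
    · have : l ^ 10 = 1 := mul_left_cancel₀ hc00 (by rw [h', mul_one])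
      rw [show 20 = 10 * 2 from rfl, pow_mul, this, one_pow]
    · have : l ^ 10 = -1 := mul_left_cancel₀ hc00 (by rw [h', mul_neg, mul_one])
      rw [show 20 = 10 * 2 from rfl, pow_mul, this, neg_one_sq]
  -- the stabiliser of the vector
  have hstab : Nat.card {h : blk M // app (h : GL (Fin 3) F) w = w} ≤ 3 := by
    refine le_trans ?_ hW3.le
    have key : ∀ h : {h : blk M // app (h : GL (Fin 3) F) w = w},
        ∃ c ∈ W, (h.1 : GL (Fin 3) F) = tu 9 w c := by
      intro h
      obtain ⟨a, ha, hga⟩ := h.1.2.2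
      have hU := (S.hMK h.1.2.1)
      have hf1 : Cfsg.hermForm 3 F 9 (app (h.1 : GL (Fin 3) F) f) w = 1 := by
        rw [← hfr.fe S.hF]; conv_rhs => rw [← herm_app S.hF hU.1, h.2]
      have hf2 : Cfsg.hermForm 3 F 9 (app (h.1 : GL (Fin 3) F) f) (eb F 0) = 0 := by
        have e := herm_app S.hF hU.1 f (eb F 0)
        rw [hga, H.smul_right, hfr.fz] at e
        exact (mul_eq_zero.1 e).resolve_left (pow_ne_zero _ ha)
      set c := Cfsg.hermForm 3 F 9 (app (h.1 : GL (Fin 3) F) f) f with hc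
      have hgf : app (h.1 : GL (Fin 3) F) f = f + c • w := by
        conv_lhs => rw [hfr.expand S.hF (app (h.1 : GL (Fin 3) F) f), hf1, hf2]
        rw [one_smul, zero_div, zero_smul, add_zero, add_comm]
      have hcs : c + c ^ 9 = 0 := by
        have e := herm_app S.hF hU.1 f f
        rw [hgf] at e
        simpa [H.add_left, H.add_right S.hF, H.smul_left, H.smul_right, hfr.ee, hfr.fe S.hF,
          hfr.ef, hfr.ff, add_comm] using e
      set k := (tu 9 w c)⁻¹ * (h.1 : GL (Fin 3) F) with hk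
      have hkK : k ∈ suGL 3 F 9 := mul_mem (inv_mem (tu_mem_suGL S.hF hww hcs)) hU
      have hkw : app k w = w := by
        apply (app (tu 9 w c)).injective
        rw [hk, map_mul, LinearEquiv.mul_apply, app_app_inv, h.2, tu_apply hww, hww]
        simp
      have hkf : app k f = f := by
        apply (app (tu 9 w c)).injective
        rw [hk, map_mul, LinearEquiv.mul_apply, app_app_inv, hgf, tu_apply hww, hfr.fe S.hF,
          mul_one]
      have hk0 : app k (eb F 0) = a • eb F 0 := by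
        apply (app (tu 9 w c)).injective
        rw [hk, map_mul, LinearEquiv.mul_apply, app_app_inv, hga, map_smul, tu_apply hww,
          hfr.ze S.hF]
        simp
      have hk1 : app k (eb F 1) = (1 : F) • eb F 1 := by
        have hz : Cfsg.hermForm 3 F 9 (eb F 1) (eb F 0) = 0 := by simp [herm_eb S.hF]
        rw [one_smul]
        conv_lhs => rw [hfr.expand S.hF (eb F 1)]
        rw [map_add, map_add, map_smul, map_smul, map_smul, hkw, hkf, hz, zero_div]
        conv_rhs => rw [hfr.expand S.hF (eb F 1), hz, zero_div]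
        simp
      obtain ⟨-, -, hk2⟩ := diag_of_fix S.hF hkK hk0 hk1
      have hk2' : app k (eb F 2) = eb F 2 := by
        have hz : Cfsg.hermForm 3 F 9 (eb F 2) (eb F 0) = 0 := by simp [herm_eb S.hF]
        conv_lhs => rw [hfr.expand S.hF (eb F 2)]
        rw [map_add, map_add, map_smul, map_smul, map_smul, hkw, hkf, hz, zero_div]
        conv_rhs => rw [hfr.expand S.hF (eb F 2), hz, zero_div]
        simp
      rw [hk2'] at hk2
      have ha1 : a = 1 := by
        have := congrFun hk2 2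
        simpa using this.symm
      have hk1' : k = 1 := eq_of_two S.hF hkK (one_mem _)
        (by rw [hk0, ha1, one_smul]; simp) (by rw [hk1, one_smul]; simp)
      rw [hk, inv_mul_eq_one] at hk1'
      exact ⟨c, ⟨hcs, hk1' ▸ h.1.2.1⟩, hk1'.symm⟩
    choose φ hφ hφh using key
    exact Nat.card_le_card_of_injective (fun h => (⟨φ h, hφ h⟩ : W)) fun a b e =>
      Subtype.ext (Subtype.ext (by rw [hφh a, hφh b, show φ a = φ b from congrArg Subtype.val e]))
  -- the orbit
  have horb : ∀ v ∈ orb (blk M) w,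
      v 0 = 0 ∧ v 1 ≠ 0 ∧ (v 2 / v 1) ^ 10 = -1 := by
    rintro v ⟨h, hh', rfl⟩
    obtain ⟨c, hc, hhc⟩ := hh'.2
    have hz := app_zero_of_line S.hF (S.hMK hh'.1).1 hc hhc hwz
    have he := (herm_app S.hF (S.hMK hh'.1).1 w w).trans hww
    rw [herm_self S.hF, hz, zero_pow (by norm_num), zero_add] at he
    have h1 : app h w 1 ≠ 0 := by
      intro e
      rw [e, zero_pow (by norm_num), zero_add] at he
      refine hw0 ((app h).map_eq_zero_iff.1 ?_)
      funext j; fin_cases j <;> simp [hz, e, eq_zero_of_pow_eq_zero he]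
    refine ⟨hz, h1, ?_⟩
    rw [div_pow, div_eq_iff (pow_ne_zero _ h1)]
    linear_combination he
  have hline : ∀ v ∈ orb (blk M) w, ∀ v' ∈ orb (blk M) w, ∀ l : F, v' = l • v → l ^ 20 = 1 := by
    rintro v ⟨h, hh', rfl⟩ v' ⟨h', hh'', rfl⟩ l hl
    refine hscale _ (mul_mem (inv_mem hh') hh'') l ?_
    rw [map_mul, LinearEquiv.mul_apply, hl, map_smul, app_inv_app]
  have hbound : (orb (blk M) w).ncard ≤ 20 * 10 := by
    rw [Set.ncard_eq_toFinset_card']
    refine (Finset.card_le_mul_card_image (f := fun v : V => v 2 / v 1) _ 20 fun r hr => ?_).trans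
      (Nat.mul_le_mul_left 20 ?_)
    · obtain ⟨v, hv, rfl⟩ := Finset.mem_image.1 hr
      rw [Set.mem_toFinset] at hv
      have hroot : (Finset.univ.filter fun x : F => x ^ 20 = 1).card = 20 := by
        rw [← Fintype.card_subtype, ← Nat.card_eq_fintype_card,
          card_pow_eq_one S.hF (by norm_num) (by norm_num)]
      rw [← hroot]
      refine Finset.card_le_card_of_injOn (fun u => u 1 / v 1) ?_ ?_
      · intro u hu
        simp only [Finset.mem_coe, Finset.mem_filter, Set.mem_toFinset] at hu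
        simp only [Finset.mem_coe, Finset.mem_filter, Finset.mem_univ, true_and]
        refine hline v hv u hu.1 _ ?_
        obtain ⟨hu0, hu1, -⟩ := horb u hu.1
        obtain ⟨hv0, hv1, -⟩ := horb v hv
        have e := hu.2
        rw [div_eq_div_iff hu1 hv1] at e
        funext j
        fin_cases j
        · simp [hu0, hv0]
        · simp [hv1]
        · show u 2 = u 1 / v 1 * v 2
          field_simp
          linear_combination e
      · intro u hu u' hu' e
        simp only [Finset.mem_coe, Finset.mem_filter, Set.mem_toFinset] at hu hu'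
        obtain ⟨hu0, hu1, -⟩ := horb u hu.1
        obtain ⟨hu0', hu1', -⟩ := horb u' hu'.1
        obtain ⟨hv0, hv1, -⟩ := horb v hv
        have e1 : u 1 = u' 1 := (div_left_inj' hv1).1 e
        funext j
        fin_cases j
        · simp [hu0, hu0']
        · exact e1
        · show u 2 = u' 2
          have h2 := hu.2.trans hu'.2.symm
          rw [e1] at h2
          exact (div_left_inj' hu1').1 h2
    · have hcard10 : (Finset.univ.filter fun x : F => x ^ (9 + 1) = -1).card = 10 := by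
        rw [← Fintype.card_subtype, ← Nat.card_eq_fintype_card,
          card_norm_fibre S.hF (c := -1) (by rw [neg_pow_q S.hF, one_pow])
            (neg_ne_zero.2 one_ne_zero)]
      rw [← hcard10]
      refine Finset.card_le_card fun r hr => ?_
      obtain ⟨v, hv, rfl⟩ := Finset.mem_image.1 hr
      rw [Set.mem_toFinset] at hv
      simpa using (horb v hv).2.2
  have := card_orb_mul (blk M) w
  rw [hcard] at this
  have h2 := Nat.mul_le_mul hbound hstab
  omega

/-- Elements of `M` fixing the line of `e₀` are monomial. -/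
theorem blk_mon {g : GL (Fin 3) F} (hg : g ∈ blk M) : IsMon g := by
  classical
  have H := hermForm_isHerm S.hF 3
  obtain ⟨k, hk, hk0⟩ := S.card_orb
  have hcard : Nat.card (blk M) = (2 * (q + 1) + k * (q + 1) ^ 2) * (q + 1) := by
    rw [card_orb_mul (blk M) (eb F 1), hk, S.card_blk_fix]
  have hq := S.hq
  by_cases hk' : k = 0
  · -- the frame is preserved
    obtain ⟨a, ha, hga⟩ := hg.2
    have hcol : ∀ j : Fin 3, j ≠ 0 → ∃ (i : Fin 3) (c : F), i ≠ 0 ∧ app g (eb F j) = c • eb F i := by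
      intro j hj
      have hj' : eb F j ∈ orb (blk M) (eb F 1) := by
        rcases (show j = 1 ∨ j = 2 by omega) with rfl | rfl
        · exact ⟨1, one_mem _, by simp⟩
        · obtain ⟨h, hh', hhx⟩ := S.perm_mem (Equiv.swap 1 2)
          obtain ⟨c0, hc0, -, h0⟩ := hhx 0
          obtain ⟨c, -, hc, h1⟩ := hhx 1
          rw [show Equiv.swap (1 : Fin 3) 2 0 = 0 by decide] at h0
          rw [Equiv.swap_apply_left] at h1
          have hc' : c ≠ 0 := fun e => by simp [e] at hc
          have := S.orb_full (one_pow (q + 1)) (b := c⁻¹) (by rw [inv_pow, hc, inv_one])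
            ⟨h, ⟨hh', c0, hc0, h0⟩, h1⟩
          convert this using 1
          funext l; fin_cases l <;> simp [hc']
      obtain ⟨h, hh', hhj⟩ := hj'
      have hmem : app g (eb F j) ∈ orb (blk M) (eb F 1) :=
        ⟨g * h, mul_mem hg hh', by rw [map_mul, LinearEquiv.mul_apply, hhj]⟩
      obtain ⟨h0, -⟩ := S.orb_sub hmem
      rcases hk0 hk' _ hmem with h1 | h2
      · refine ⟨2, app g (eb F j) 2, by decide, ?_⟩
        conv_lhs => rw [expand_eb S.hF (app g (eb F j)), h0, h1]
        simp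
      · refine ⟨1, app g (eb F j) 1, by decide, ?_⟩
        conv_lhs => rw [expand_eb S.hF (app g (eb F j)), h0, h2]
        simp
    obtain ⟨i1, c1, hi1, hc1⟩ := hcol 1 (by decide)
    obtain ⟨i2, c2, hi2, hc2⟩ := hcol 2 (by decide)
    have hne : i1 ≠ i2 := by
      intro e
      have := herm_app S.hF (S.hMK hg.1).1 (eb F 1) (eb F 2)
      rw [hc1, hc2, e, H.smul_left, H.smul_right, eb_self S.hF, herm_eb S.hF] at this
      simp [pow_q_eq_zero S.hF] at this
      rcases this with h | h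
      · rw [h, zero_smul] at hc1
        simpa using congrFun ((app g).map_eq_zero_iff.1 hc1) 1
      · rw [h, zero_smul] at hc2
        simpa using congrFun ((app g).map_eq_zero_iff.1 hc2) 2
    rcases (show i1 = 1 ∧ i2 = 2 ∨ i1 = 2 ∧ i2 = 1 by omega) with ⟨rfl, rfl⟩ | ⟨rfl, rfl⟩
    · exact ⟨1, fun i => by fin_cases i <;> [exact ⟨a, hga⟩; exact ⟨c1, hc1⟩; exact ⟨c2, hc2⟩]⟩
    · exact ⟨Equiv.swap 1 2, fun i => by
        fin_cases i <;> [exact ⟨a, hga⟩; exact ⟨c1, by simpa using hc1⟩; exact ⟨c2, by simpa using hc2⟩]⟩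
  exfalso
  have hd := S.card_blk_dvd
  rw [hcard] at hd
  have e1 : (2 * (q + 1) + k * (q + 1) ^ 2) * (q + 1) = (2 + k * (q + 1)) * ((q + 1) * (q + 1)) := by
    ring
  have e2 : q * ((q + 1) * (q ^ 2 - 1)) = q * (q - 1) * ((q + 1) * (q + 1)) := by
    have : q ^ 2 - 1 = (q - 1) * (q + 1) := by
      rw [mul_comm, ← Nat.sq_sub_sq, one_pow]
    rw [this]; ring
  rw [e1] at hcard hd
  rw [e2] at hd
  have hd' : 2 + k * (q + 1) ∣ q * (q - 1) := Nat.dvd_of_mul_dvd_mul_right (by positivity) hd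
  obtain ⟨m, hm⟩ := hd'
  have hq2 : q * (q - 1) + 2 * q = (q + 1) * q := by
    obtain ⟨r, rfl⟩ : ∃ r, q = r + 1 := ⟨q - 1, by omega⟩
    simp; ring
  -- all nondegenerate points, or twelve points with `q = 9`
  have hcases : q ∣ 2 + k * (q + 1) ∨ (q = 9 ∧ k = 1) := by
    rcases Nat.lt_or_ge m 2 with hm2 | hm2
    · left
      have : m = 1 := by
        rcases Nat.eq_zero_or_pos m with h | h
        · rw [h, mul_zero] at hm
          rcases Nat.mul_eq_zero.1 hm with h | h <;> omega
        · omega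
      rw [this, mul_one] at hm
      rw [← hm]; exact dvd_mul_right q _
    · right
      have hmod : (2 * (m - 1) : ℤ) = (q + 1 : ℤ) * ((q : ℤ) - 2 - k * m) := by
        zify [show 1 ≤ q by omega] at hm
        linear_combination (-1 : ℤ) * hm
      set j := (q : ℤ) - 2 - k * m
      have hj : 1 ≤ j := by
        by_contra hj
        push Not at hj
        nlinarith
      have hk1 : k = 1 := by
        by_contra hne
        have h2k : (2 : ℤ) ≤ k := by omega
        have h3 : (q : ℤ) + 3 ≤ 2 * m := by nlinarith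
        zify [show 1 ≤ q by omega] at hm
        nlinarith [mul_le_mul h2k (le_refl ((q : ℤ) + 1)) (by positivity) (by positivity)]
      subst hk1
      have hdvd : q + 3 ∣ q * (q - 1) := ⟨m, by rw [hm]; ring⟩
      have h12 : q + 3 ∣ 12 := by
        have e : (q + 3) * (q - 1) + 12 = q * (q - 1) + (q + 3) * 3 := by
          obtain ⟨r, rfl⟩ : ∃ r, q = r + 1 := ⟨q - 1, by omega⟩
          simp; ring
        have : q + 3 ∣ (q + 3) * (q - 1) + 12 := e ▸ Nat.dvd_add hdvd (dvd_mul_right _ _)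
        exact (Nat.dvd_add_right (dvd_mul_right _ _)).1 this
      have hle : q ≤ 9 := by have := Nat.le_of_dvd (by norm_num) h12; omega
      have hq9 : q = 3 ∨ q = 9 := by
        interval_cases q <;> simp_all
      rcases hq9 with rfl | rfl
      · exfalso; norm_num at hm; omega
      · exact ⟨rfl, rfl⟩
  rcases hcases with hall | ⟨h9, hk1⟩
  · obtain ⟨p, hp⟩ := CharP.exists F
    have hpp : p.Prime :=
      (CharP.char_is_prime_or_zero F p).resolve_right (CharP.char_ne_zero_of_finite F p)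
    haveI : Fact p.Prime := ⟨hpp⟩
    obtain ⟨n, -, hn⟩ := FiniteField.card F p
    rw [S.hF] at hn
    obtain ⟨i, -, hqi⟩ := (Nat.dvd_prime_pow hpp).1 (hn ▸ dvd_pow_self q two_ne_zero)
    have hqdvd : p ^ i ∣ Nat.card (blk M) := hqi ▸ hcard ▸ dvd_mul_of_dvd_left hall _
    obtain ⟨P, hP⟩ := Sylow.exists_subgroup_card_pow_prime p hqdvd
    obtain ⟨v, hv0, hv⟩ := centre_of_card S.hF S.hMK (P := P.map (blk M).subtype)
      (fun x hx => by obtain ⟨y, -, rfl⟩ := hx; exact y.2.1)
      (IsPGroup.map (IsPGroup.of_card hP) _)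
      (by rw [Subgroup.card_map_of_injective Subtype.val_injective, hP, hqi]) (by omega)
      (z := eb F 0) (by rw [eb_self S.hF]; exact one_ne_zero)
      (fun x hx => by
        obtain ⟨y, -, rfl⟩ := hx
        obtain ⟨a, -, ha⟩ := y.2.2
        exact Submodule.mem_span_singleton.2 ⟨a, ha.symm⟩)
    exact S.nc v hv0 hv
  · subst h9 hk1
    exact S.no_twelve rfl (by rw [hcard])

/-- What maps a frame point to a frame point is monomial. -/
theorem mon_of_line {g : GL (Fin 3) F} (hg : g ∈ M) {i j : Fin 3} {c : F}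
    (h : app g (eb F i) = c • eb F j) : IsMon g := by
  obtain ⟨a, ha, hax⟩ := S.perm_mem (Equiv.swap 0 i)
  obtain ⟨b, hb, hbx⟩ := S.perm_mem (Equiv.swap j 0)
  have hc : c ≠ 0 := fun e => by
    rw [e, zero_smul] at h
    simpa using congrFun ((app g).map_eq_zero_iff.1 h) i
  obtain ⟨ca, hca, -, hae⟩ := hax 0
  obtain ⟨cb, hcb, -, hbe⟩ := hbx j
  rw [Equiv.swap_apply_left] at hae hbe
  have hblk : b * g * a ∈ blk M := ⟨mul_mem (mul_mem hb hg) ha, ca * c * cb,
    mul_ne_zero (mul_ne_zero hca hc) hcb, by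
      rw [map_mul, map_mul, LinearEquiv.mul_apply, LinearEquiv.mul_apply, hae, map_smul, h,
        map_smul, map_smul, hbe, smul_smul, smul_smul, mul_assoc]⟩
  have hma : IsMon a := ⟨Equiv.swap 0 i, fun l => let ⟨d, _, _, hd⟩ := hax l; ⟨d, hd⟩⟩
  have hmb : IsMon b := ⟨Equiv.swap j 0, fun l => let ⟨d, _, _, hd⟩ := hbx l; ⟨d, hd⟩⟩
  have : g = b⁻¹ * (b * g * a) * a⁻¹ := by group
  rw [this]
  exact (hmb.inv.mul (S.blk_mon hblk)).mul hma.inv

end MSetup

end Cfsg.Agent.SU3Max
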