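import Cfsg.Agent.Lib.SU3Max.MonoBlock
import Cfsg.Agent.Lib.Aschbacher.SU3NotLe

/-!
# An overgroup of the monomial group: the orbit of the frame points

Main results:
* `MSetup.card_group`, `MSetup.card_Om`, `MSetup.card_dvd`, `MSetup.Om_le`
* `MSetup.orbit_cases` : only `q = 8` allows points outside the frame
-/

set_option autoImplicit false
set_option linter.unusedSectionVars false

namespace Cfsg.Agent.SU3Max

open Matrix Cfsg.Agent.Transvect Cfsg.Agent.Unitary Cfsg.Agent.C5.Uni
open scoped MatrixGroups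

variable {F : Type*} [Field F] [Fintype F] {q : ℕ}

local notation "V" => (Fin 3 → F)
local notation "hh" => Cfsg.hermForm 3 F q

/-- The class of a vector of full support. -/
def key3 (q : ℕ) (v : Fin 3 → F) : F × F × F :=
  (v 0 ^ (q + 1), v 1 ^ (q + 1), (v 0 * v 1 * v 2) ^ mOrd q)

/-- The isotropic nonzero vectors. -/
theorem card_iso (hF : Fintype.card F = q ^ 2) :
    Nat.card {v : V // v ≠ 0 ∧ hh v v = 0} = (q ^ 3 + 1) * (q ^ 2 - 1) := by
  classical
  have h := isotropic_count hF 3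
  rw [if_neg (by decide)] at h
  have h0 : normCount 3 q (0 : F) = Nat.card {v : V // hh v v = 0} := rfl
  rw [h0, Nat.card_eq_fintype_card, Fintype.card_subtype] at h
  rw [Nat.card_eq_fintype_card, Fintype.card_subtype]
  have : (Finset.univ.filter fun v : V => v ≠ 0 ∧ hh v v = 0) =
      (Finset.univ.filter fun v : V => hh v v = 0).erase 0 := by
    ext v; simp
  rw [this, Finset.card_erase_of_mem (by simp [(hermForm_isHerm hF 3).zero_left]), h]
  simp

namespace MSetup

variable {M : Subgroup (GL (Fin 3) F)} (S : MSetup q M)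
include S

lemma Om_norm {v : V} (hv : v ∈ orb M (eb F 0)) : hh v v = 1 := by
  obtain ⟨g, hg, rfl⟩ := hv
  rw [herm_app S.hF (S.hMK hg).1, eb_self S.hF]

lemma Om_diag {v : V} (hv : v ∈ orb M (eb F 0)) {l : Fin 3 → F} (hl : ∀ i, l i ^ (q + 1) = 1)
    (hp : (∏ i, l i) ^ mOrd q = 1) : (fun j => l j * v j) ∈ orb M (eb F 0) := by
  obtain ⟨g, hg, rfl⟩ := hv
  obtain ⟨r, hr, hr3⟩ := exists_cube_root S.hF hp
  have hr0 : r ≠ 0 := fun e => by simp [e] at hr
  -- determinant one, and then a scalar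
  obtain ⟨d, hd, hdx⟩ := S.diag_mem (fun j => l j / r) (fun i => by rw [div_pow, hl, hr, div_one])
    (by rw [Finset.prod_div_distrib, Finset.prod_const, Finset.card_univ, Fintype.card_fin, hr3,
      div_self (by rw [← hr3]; exact pow_ne_zero _ hr0)])
  obtain ⟨s, hs, hs0, -, -⟩ := S.diag2_mem hr (b := r⁻¹) (by rw [inv_pow, hr, inv_one])
  refine ⟨d * g * s, mul_mem (mul_mem hd hg) hs, ?_⟩
  rw [map_mul, map_mul, LinearEquiv.mul_apply, LinearEquiv.mul_apply, hs0, map_smul]
  funext j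
  rw [hdx, Pi.smul_apply, smul_eq_mul, ← mul_assoc, div_mul_cancel₀ _ hr0]

lemma e0_mem : eb F 0 ∈ orb M (eb F 0) := ⟨1, one_mem M, by simp⟩

lemma smul_mem {v : V} (hv : v ∈ orb M (eb F 0)) {r : F} (hr : r ^ (q + 1) = 1) :
    r • v ∈ orb M (eb F 0) := by
  obtain ⟨g, hg, rfl⟩ := hv
  obtain ⟨s, hs, hs0, -, -⟩ := S.diag2_mem hr (one_pow (q + 1))
  exact ⟨g * s, mul_mem hg hs, by rw [map_mul, LinearEquiv.mul_apply, hs0, map_smul]⟩

lemma frame_mem (i : Fin 3) {r : F} (hr : r ^ (q + 1) = 1) : r • eb F i ∈ orb M (eb F 0) := by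
  obtain ⟨g, hg, hgx⟩ := S.perm_mem (Equiv.swap 0 i)
  obtain ⟨c, hc0, hc, h0⟩ := hgx 0
  rw [Equiv.swap_apply_left] at h0
  have := S.smul_mem ⟨g, hg, h0⟩ (r := r * c⁻¹) (by rw [mul_pow, hr, inv_pow, hc, inv_one, mul_one])
  rwa [smul_smul, inv_mul_cancel_right₀ hc0] at this

lemma card_fix : Nat.card {g : M // app (g : GL (Fin 3) F) (eb F 0) = eb F 0} = 2 * (q + 1) := by
  classical
  have H := hermForm_isHerm S.hF 3
  have hshape : ∀ g : {g : M // app (g : GL (Fin 3) F) (eb F 0) = eb F 0}, ∃ c : F, c ^ (q + 1) = 1 ∧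
      (app (g.1 : GL (Fin 3) F) (eb F 1) = c • eb F 1 ∨
        app (g.1 : GL (Fin 3) F) (eb F 1) = c • eb F 2) := by
    intro g
    obtain ⟨π, hπ⟩ := S.mon_of_line g.1.2 (i := 0) (j := 0) (c := 1) (by rw [g.2, one_smul])
    obtain ⟨c, hc⟩ := hπ 1
    rw [← app_apply] at hc
    obtain ⟨c0, hc0⟩ := hπ 0
    rw [← app_apply, g.2] at hc0
    have hπ0 : π 0 = 0 := by
      by_contra hne
      have := congrFun hc0 0
      simp [Ne.symm hne] at this
    have h1 := herm_app S.hF (S.hMK g.1.2).1 (eb F 1) (eb F 1)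
    rw [hc, H.smul_left, H.smul_right, eb_self S.hF, mul_one, eb_self S.hF] at h1
    refine ⟨c, by rw [pow_succ']; exact h1, ?_⟩
    rcases (show π 1 = 1 ∨ π 1 = 2 by
      have h10 : π 1 ≠ 0 := fun h => by simpa using π.injective (h.trans hπ0.symm)
      omega) with h | h <;> rw [h] at hc
    · exact Or.inl hc
    · exact Or.inr hc
  let f : {g : M // app (g : GL (Fin 3) F) (eb F 0) = eb F 0} → Bool × {x : F // x ^ (q + 1) = 1} :=
    fun g => (decide (app (g.1 : GL (Fin 3) F) (eb F 1) 2 = 0),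
      ⟨app (g.1 : GL (Fin 3) F) (eb F 1) 1 + app (g.1 : GL (Fin 3) F) (eb F 1) 2, by
        obtain ⟨c, hc, h | h⟩ := hshape g <;> rw [h] <;> simpa using hc⟩)
  have hf : Function.Bijective f := by
    refine ⟨fun g g' h => ?_, fun x => ?_⟩
    · refine Subtype.ext (Subtype.ext (eq_of_two S.hF (S.hMK g.1.2) (S.hMK g'.1.2)
        (g.2.trans g'.2.symm) ?_))
      simp only [f, Prod.mk.injEq, decide_eq_decide, Subtype.mk.injEq] at h
      obtain ⟨c, hc, h1 | h1⟩ := hshape g <;> obtain ⟨d, hd, h2 | h2⟩ := hshape g' <;>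
        simp only [h1, h2] at h <;>
        simp at h
      · rw [h1, h2, h]
      · exact absurd h.1 (fun e => by simp [e] at hd)
      · exact absurd h.1 (fun e => by simp [e] at hc)
      · rw [h1, h2, h.2]
    · obtain ⟨bt, c, hc⟩ := x
      have hc0 : c ≠ 0 := fun e => by simp [e] at hc
      cases bt with
      | true =>
        obtain ⟨g, hg, h0, h1, -⟩ := S.diag2_mem (one_pow (q + 1)) hc
        rw [one_smul] at h0
        exact ⟨⟨⟨g, hg⟩, h0⟩, by simp [f, h1, -app_apply]⟩
      | false =>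
        obtain ⟨t, ht, htx⟩ := S.perm_mem (Equiv.swap 1 2)
        obtain ⟨a, ha0, ha, h0⟩ := htx 0
        obtain ⟨b, hb0, hb, h1⟩ := htx 1
        rw [show Equiv.swap (1 : Fin 3) 2 0 = 0 by decide] at h0
        rw [Equiv.swap_apply_left] at h1
        obtain ⟨d, hd, hd0, -, hd2⟩ := S.diag2_mem (a := a⁻¹) (b := b * a / c)
          (by rw [inv_pow, ha, inv_one]) (by rw [div_pow, mul_pow, ha, hb, hc, mul_one, div_one])
        have e0 : app (d * t) (eb F 0) = eb F 0 := by
          rw [map_mul, LinearEquiv.mul_apply, h0, map_smul, hd0, smul_smul, mul_inv_cancel₀ ha0,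
            one_smul]
        have e1 : app (d * t) (eb F 1) = c • eb F 2 := by
          rw [map_mul, LinearEquiv.mul_apply, h1, map_smul, hd2, smul_smul]
          congr 1
          field_simp
        exact ⟨⟨⟨d * t, mul_mem hd ht⟩, e0⟩, by simp [f, e1, hc0, -app_apply, -map_mul]⟩
  rw [Nat.card_eq_of_bijective f hf, Nat.card_prod, Nat.card_eq_fintype_card (α := Bool),
    Fintype.card_bool, card_root S.hF (Nat.succ_ne_zero q) dvd_rfl]

lemma card_group : Nat.card M = (orb M (eb F 0)).ncard * (2 * (q + 1)) := by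
  rw [card_orb_mul M (eb F 0), S.card_fix]

/-- No vector of support two. -/
lemma full_support {v : V} (hv : v ∈ orb M (eb F 0)) {i j k : Fin 3} (hjk : j ≠ k) (hi : v i = 0)
    (hk : v k ≠ 0) (hj : v j ≠ 0) : False := by
  classical
  have H := hermForm_isHerm S.hF 3
  obtain ⟨a, ha0, ha⟩ := exists_order_norm S.hF
  have ha1 : a ^ (q + 1) = 1 := ha ▸ pow_orderOf_eq_one a
  have hq := S.hq
  have h6 : a ^ 6 ≠ 1 := by
    intro h
    have h1 := orderOf_dvd_of_pow_eq_one h
    rw [ha] at h1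
    have hle : q ≤ 5 := by have := Nat.le_of_dvd (by norm_num) h1; omega
    have h5 := S.h5
    interval_cases q <;> simp_all
  have h3 : a ^ 3 ≠ 1 := fun h => h6 (by rw [show 6 = 3 * 2 from rfl, pow_mul, h, one_pow])
  have hvv := S.Om_norm hv
  have key : ∀ c : F, c ^ (q + 1) = 1 → c ^ 3 ≠ 1 →
      c + ((c * c)⁻¹ - c) * (v j ^ q * v j) = 0 := by
    intro c hc hc3
    have hc0 : c ≠ 0 := fun e => by simp [e] at hc
    obtain ⟨t, ht, htv, htp⟩ := S.homAt hv hc
    have happ : ∀ x : V, app t x = c • x + (((c * c)⁻¹ - c) * hh x v) • v := by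
      intro x
      have := htp (x - hh x v • v) (by rw [H.sub_left, H.smul_left, hvv, mul_one, sub_self])
      rw [map_sub, map_smul, htv] at this
      rw [← sub_add_cancel (app t x) (hh x v • ((c * c)⁻¹ • v)), this, smul_sub, smul_smul,
        smul_smul]
      match_scalars <;> ring
    have hmon : IsMon t := S.mon_of_line ht (i := i) (j := i) (c := c) (by
      have : hh (eb F i) v = 0 := by
        rw [H.conj_symm v (eb F i), herm_eb S.hF, hi, zero_pow_q S.hF]
      rw [happ, this, mul_zero, zero_smul, add_zero])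
    obtain ⟨π, hπ⟩ := hmon
    obtain ⟨d, hd⟩ := hπ j
    rw [← app_apply, happ] at hd
    have hjv : hh (eb F j) v = v j ^ q := by rw [H.conj_symm v (eb F j), herm_eb S.hF]
    rw [hjv] at hd
    have hne : ((c * c)⁻¹ - c) * v j ^ q * v k ≠ 0 := by
      refine mul_ne_zero (mul_ne_zero (sub_ne_zero.2 fun e => hc3 ?_) (pow_ne_zero _ hj)) hk
      field_simp at e
      linear_combination -e
    have e1 := congrFun hd k
    have e2 := congrFun hd j
    rw [Pi.add_apply, Pi.smul_apply, Pi.smul_apply, Pi.smul_apply, smul_eq_mul, smul_eq_mul,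
      smul_eq_mul, Pi.single_eq_of_ne hjk.symm, mul_zero, zero_add] at e1
    by_cases hπk : π j = k
    · rw [Pi.add_apply, Pi.smul_apply, Pi.smul_apply, Pi.smul_apply, smul_eq_mul, smul_eq_mul,
        smul_eq_mul, Pi.single_eq_same, hπk, Pi.single_eq_of_ne hjk, mul_one, mul_zero] at e2
      linear_combination e2
    · rw [Pi.single_eq_of_ne (Ne.symm hπk), mul_zero] at e1
      exact absurd e1 hne
  have e1 := key a ha1 h3
  have e2 := key (a * a) (by rw [mul_pow, ha1, one_mul]) (fun h => h6 (by rw [← h]; ring))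
  field_simp at e1 e2
  have hN : v j ^ q * v j ≠ 0 := mul_ne_zero (pow_ne_zero _ hj) hj
  apply h3
  have : (v j ^ q * v j) * (a ^ 3 - 1) = 0 := by linear_combination a ^ 3 * e1 - e2
  exact sub_eq_zero.1 ((mul_eq_zero.1 this).resolve_left hN)

lemma support_cases {v : V} (hv : v ∈ orb M (eb F 0)) :
    (∃ (i : Fin 3) (r : F), r ^ (q + 1) = 1 ∧ v = r • eb F i) ∨ ∀ i, v i ≠ 0 := by
  by_cases hall : ∀ i, v i ≠ 0
  · exact Or.inr hall
  push Not at hall
  obtain ⟨i, hi⟩ := hall
  left
  have hne : ∃ j, v j ≠ 0 := by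
    by_contra! h
    have h1 := S.Om_norm hv
    rw [show v = 0 from funext h, (hermForm_isHerm S.hF 3).zero_left] at h1
    exact zero_ne_one h1
  obtain ⟨j, hj⟩ := hne
  have honly : ∀ k, k ≠ j → v k = 0 := fun k hk => by
    by_contra hk0
    exact S.full_support hv (Ne.symm hk) hi hk0 hj
  have hvj : v = v j • eb F j := by
    funext k
    rcases eq_or_ne k j with rfl | hk
    · simp
    · simp [honly k hk, hk]
  refine ⟨j, v j, ?_, hvj⟩
  have h1 := S.Om_norm hv
  rw [hvj, (hermForm_isHerm S.hF 3).smul_left, (hermForm_isHerm S.hF 3).smul_right, eb_self S.hF,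
    mul_one] at h1
  rw [pow_succ']; exact h1

/-- The orbit consists of frame vectors and full classes. -/
theorem card_Om : ∃ k, (orb M (eb F 0)).ncard = (3 + k * ((q + 1) * mOrd q)) * (q + 1) ∧
    (k = 0 → ∀ v ∈ orb M (eb F 0), ∃ (i : Fin 3) (r : F), v = r • eb F i) := by
  classical
  set O := orb M (eb F 0) with hO
  set s : Finset V := O.toFinset with hs
  set μ := Finset.univ.filter fun x : F => x ^ (q + 1) = 1 with hμ
  set ν := Finset.univ.filter fun x : F => x ^ mOrd q = 1 with hν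
  have hμc : μ.card = q + 1 := by
    rw [hμ, ← Fintype.card_subtype, ← Nat.card_eq_fintype_card,
      card_root S.hF (Nat.succ_ne_zero q) dvd_rfl]
  have hνc : ν.card = mOrd q := by
    rw [hν, ← Fintype.card_subtype, ← Nat.card_eq_fintype_card,
      card_root S.hF (mOrd_pos q).ne' (mOrd_dvd q)]
  have hmemμ : ∀ x, x ∈ μ ↔ x ^ (q + 1) = 1 := fun x => by simp [hμ]
  have hmemν : ∀ x, x ∈ ν ↔ x ^ mOrd q = 1 := fun x => by simp [hν]
  have hνμ : ∀ x : F, x ^ mOrd q = 1 → x ^ (q + 1) = 1 := fun x hx => by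
    obtain ⟨d, hd⟩ := mOrd_dvd q
    rw [hd, pow_mul, hx, one_pow]
  have hA : (s.filter fun v => ¬ ∀ i, v i ≠ 0).card = 3 * (q + 1) := by
    have : (s.filter fun v => ¬ ∀ i, v i ≠ 0) =
        ((Finset.univ : Finset (Fin 3)) ×ˢ μ).image (fun x => x.2 • eb F x.1) := by
      ext v
      simp only [Finset.mem_filter, hs, Set.mem_toFinset, Finset.mem_image, Finset.mem_product,
        Finset.mem_univ, true_and, hmemμ]
      constructor
      · rintro ⟨hv, hn⟩
        rcases S.support_cases hv with ⟨i, r, hr, rfl⟩ | h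
        · exact ⟨(i, r), hr, rfl⟩
        · exact absurd h hn
      · rintro ⟨⟨i, r⟩, hr, rfl⟩
        refine ⟨S.frame_mem i hr, fun h => ?_⟩
        have := h (i + 1)
        simp at this
    rw [this, Finset.card_image_of_injOn, Finset.card_product, Finset.card_univ, Fintype.card_fin, hμc]
    rintro ⟨i, r⟩ hx ⟨i', r'⟩ hy h
    simp only [Finset.coe_product, Set.mem_prod, Finset.mem_coe, hmemμ] at hx hy
    have hr0 : r ≠ 0 := fun e => by simp [e] at hx
    have e := congrFun h i
    have : i = i' := by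
      by_contra hne
      simp [hne, hr0] at e
    subst this
    simp at e
    rw [e]
  set B := s.filter (fun v => ∀ i, v i ≠ 0) with hB
  have hfib : ∀ x ∈ B.image (key3 q),
      (B.filter fun v => key3 q v = x).card = (q + 1) * (q + 1) * mOrd q := by
    intro x hx
    obtain ⟨w, hw, rfl⟩ := Finset.mem_image.1 hx
    simp only [hB, Finset.mem_filter, hs, Set.mem_toFinset] at hw
    obtain ⟨hw, hw0⟩ := hw
    refine Eq.trans (Finset.card_bij (s := (μ ×ˢ μ) ×ˢ ν)
      (fun y _ => (fun j => ![y.1.1, y.1.2, y.2 / (y.1.1 * y.1.2)] j * w j : V)) ?_ ?_ ?_).symm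
      (by rw [Finset.card_product, Finset.card_product, hμc, hνc])
    · rintro ⟨⟨a, b⟩, c⟩ hy
      simp only [Finset.mem_product, hmemμ, hmemν] at hy
      obtain ⟨⟨ha, hb⟩, hc⟩ := hy
      have ha0 : a ≠ 0 := fun e => by simp [e] at ha
      have hb0 : b ≠ 0 := fun e => by simp [e] at hb
      have hc0 : c ≠ 0 := fun e => by simp [e, zero_pow (mOrd_pos q).ne'] at hc
      have hl : ∀ j, ![a, b, c / (a * b)] j ^ (q + 1) = 1 := fun j => by
        fin_cases j <;> simp [ha, hb, div_pow, mul_pow, hνμ c hc]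
      have hp : (∏ j, ![a, b, c / (a * b)] j) ^ mOrd q = 1 := by
        rw [Fin.prod_univ_three]
        simp only [Matrix.cons_val_zero, Matrix.cons_val_one, Matrix.cons_val_two, Matrix.tail_cons,
          Matrix.head_cons]
        rw [mul_div_cancel₀ _ (mul_ne_zero ha0 hb0), hc]
      simp only [hB, Finset.mem_filter, hs, Set.mem_toFinset]
      refine ⟨⟨S.Om_diag hw hl hp, fun j => mul_ne_zero ?_ (hw0 j)⟩, ?_⟩
      · intro e
        simpa [e] using hl j
      · simp only [key3, Prod.mk.injEq, mul_pow]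
        simp [ha, hb, ha0, hb0]
        rw [div_pow, mul_pow, show a ^ mOrd q * w 0 ^ mOrd q * (b ^ mOrd q * w 1 ^ mOrd q) *
          (c ^ mOrd q / (a ^ mOrd q * b ^ mOrd q) * w 2 ^ mOrd q) =
            c ^ mOrd q * (w 0 ^ mOrd q * w 1 ^ mOrd q * w 2 ^ mOrd q) by
          field_simp, hc, one_mul]
    · rintro ⟨⟨a, b⟩, c⟩ hy ⟨⟨a', b'⟩, c'⟩ hy' h
      simp only [Finset.mem_product, hmemμ, hmemν] at hy hy'
      have e0 := congrFun h 0
      have e1 := congrFun h 1
      have e2 := congrFun h 2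
      simp [hw0 0] at e0
      simp [hw0 1] at e1
      simp [hw0 2] at e2
      subst e0 e1
      have : a * b ≠ 0 := mul_ne_zero (fun e => by simp [e] at hy) (fun e => by simp [e] at hy)
      rw [div_left_inj' this] at e2
      rw [e2]
    · intro v hv
      simp only [hB, Finset.mem_filter, hs, Set.mem_toFinset] at hv
      obtain ⟨⟨hv, hv0⟩, hkey⟩ := hv
      simp only [key3, Prod.mk.injEq] at hkey
      obtain ⟨k0, k1, kp⟩ := hkey
      refine ⟨((v 0 / w 0, v 1 / w 1), v 0 * v 1 * v 2 / (w 0 * w 1 * w 2)), ?_, ?_⟩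
      · simp only [Finset.mem_product, hmemμ, hmemν]
        refine ⟨⟨by rw [div_pow, k0, div_self (pow_ne_zero _ (hw0 0))],
          by rw [div_pow, k1, div_self (pow_ne_zero _ (hw0 1))]⟩, ?_⟩
        rw [div_pow, kp, div_self]
        exact pow_ne_zero _ (mul_ne_zero (mul_ne_zero (hw0 0) (hw0 1)) (hw0 2))
      · funext j
        have := hw0 0; have := hw0 1; have := hw0 2
        have := hv0 0; have := hv0 1
        fin_cases j <;> simp <;> field_simp
  refine ⟨(B.image (key3 q)).card, ?_, fun hk v hv => ?_⟩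
  · rw [Set.ncard_eq_toFinset_card', ← hs,
      ← Finset.card_filter_add_card_filter_not (fun v : V => ∀ i, v i ≠ 0), hA, ← hB,
      Finset.card_eq_sum_card_image (key3 q) B, Finset.sum_congr rfl hfib, Finset.sum_const,
      smul_eq_mul]
    ring
  · rw [Finset.card_eq_zero, Finset.image_eq_empty] at hk
    rcases S.support_cases hv with ⟨i, r, -, h⟩ | h
    · exact ⟨i, r, h⟩
    · have : v ∈ B := by
        simp only [hB, Finset.mem_filter, hs, Set.mem_toFinset]
        exact ⟨hv, h⟩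
      rw [hk] at this
      exact absurd this (Finset.notMem_empty v)

/-- The order of the group divides that of `SU₃(q)`. -/
theorem card_dvd : Nat.card M ∣ q ^ 3 * (q ^ 2 - 1) * (q ^ 3 + 1) := by
  rw [← Cfsg.Agent.Aschbacher.SU3.card_su3 S.hF]
  exact Subgroup.card_dvd_of_le S.hMK

/-- Two orbit vectors on a tangent line are proportional. -/
theorem tangent (h8 : q ≠ 8) {v v' w : V} (hv : v ∈ orb M (eb F 0)) (hv' : v' ∈ orb M (eb F 0))
    (hw0 : w ≠ 0) (hww : hh w w = 0) (h : hh w v = 0) (h' : hh w v' = 0) :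
    ∃ r : F, r ^ (q + 1) = 1 ∧ v' = r • v := by
  have H := hermForm_isHerm S.hF 3
  have hvv := S.Om_norm hv
  have hvv' := S.Om_norm hv'
  obtain ⟨f, hfr⟩ := exists_frame_point S.hF hw0 hww (z := v) (by rw [hvv]; exact one_ne_zero) h
  have he : v' = hh v' f • w + hh v' v • v := by
    conv_lhs => rw [hfr.expand S.hF v', (H.eq_zero_symm S.hF).1 h', hvv]
    simp
  set α := hh v' v
  set k := hh v' f
  have hα : α ^ (q + 1) = 1 := by
    rw [he] at hvv'
    simp [H.add_left, H.add_right S.hF, H.smul_left, H.smul_right, hww, h,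
      (H.eq_zero_symm S.hF).1 h, hvv] at hvv'
    rw [pow_succ']; exact hvv'
  have hα0 : α ≠ 0 := fun e => by simp [e] at hα
  refine ⟨α, hα, ?_⟩
  rcases eq_or_ne k 0 with hk | hk
  · rw [he, hk]; simp
  exfalso
  have hvk : v + (k / α) • w ∈ orb M (eb F 0) := by
    have := S.smul_mem hv' (r := α⁻¹) (by rw [inv_pow, hα, inv_one])
    convert this using 1
    rw [he, smul_add, smul_smul, smul_smul, inv_mul_cancel₀ hα0, one_smul, add_comm, div_eq_inv_mul]
  obtain ⟨a, ha0, ha⟩ := exists_order_norm S.hF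
  have ha1 : a ^ (q + 1) = 1 := ha ▸ pow_orderOf_eq_one a
  obtain ⟨t, ht, hth⟩ := S.homAt hv ha1
  obtain ⟨t', ht', hth'⟩ := S.homAt hvk ha1
  have hba : a / (a * a)⁻¹ = a ^ 3 := by rw [div_inv_eq_mul]; ring
  have hd := shift_of_homs S.hF hww h ht ht' (inv_ne_zero (mul_ne_zero ha0 ha0)) ha0 hth hth'
  rw [hba] at hd
  refine S.nc w hw0 (centre_of_rotations S.hF S.hMK hw0 hww h (by rw [hvv]; exact one_ne_zero) ht
    (inv_ne_zero (mul_ne_zero ha0 ha0)) ha0 hth (fun E hE => ?_)
    (mul_ne_zero (sub_ne_zero.2 fun e => ?_) (div_ne_zero hk hα0)) hd)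
  · rw [hba] at hE
    exact cube_gen S.hF S.hq S.h5 h8 ha E hE
  · have h1 := orderOf_dvd_of_pow_eq_one e.symm
    rw [ha] at h1
    have := Nat.le_of_dvd (by norm_num) h1
    have := S.hq
    omega

/-- At most one orbit point on each tangent. -/
theorem Om_le (h8 : q ≠ 8) : (orb M (eb F 0)).ncard ≤ q ^ 3 + 1 := by
  classical
  have H := hermForm_isHerm S.hF 3
  have hq := S.hq
  have hq1 : 4 ≤ q ^ 2 := Nat.pow_le_pow_left (by omega : 2 ≤ q) 2
  let Iso := Finset.univ.filter fun w : V => w ≠ 0 ∧ hh w w = 0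
  have hIso : Iso.card = (q ^ 3 + 1) * (q ^ 2 - 1) := by
    rw [← card_iso S.hF, Nat.card_eq_fintype_card, Fintype.card_subtype]
  let O := (orb M (eb F 0)).toFinset
  have hperp0 : ((q + 1) * (q ^ 2 - 1)) ≤ (Iso.filter fun w => hh w (eb F 0) = 0).card := by
    let A := (Finset.univ.filter fun a : F => a ≠ 0).sigma
      fun a => Finset.univ.filter fun b : F => b ^ (q + 1) = -a ^ (q + 1)
    have hA : A.card = (q + 1) * (q ^ 2 - 1) := by
      rw [Finset.card_sigma, Finset.sum_congr rfl (g := fun _ => q + 1) fun a ha => ?_,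
        Finset.sum_const, smul_eq_mul, Finset.filter_ne', Finset.card_erase_of_mem
        (Finset.mem_univ _), Finset.card_univ, S.hF, mul_comm]
      simp only [Finset.mem_filter, Finset.mem_univ, true_and] at ha
      rw [← Fintype.card_subtype, ← Nat.card_eq_fintype_card, card_norm_fibre S.hF
        (c := -a ^ (q + 1)) (by rw [neg_pow_q S.hF, pow_q_succ_fixed S.hF])
        (neg_ne_zero.2 (pow_ne_zero _ ha))]
    rw [← hA]
    refine Finset.card_le_card_of_injOn (fun x : Σ _ : F, F => (![0, x.1, x.2] : V)) ?_ ?_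
    · rintro ⟨a, b⟩ hx
      simp only [A, Finset.mem_coe, Finset.mem_sigma, Finset.mem_filter, Finset.mem_univ, true_and] at hx
      simp only [Iso, Finset.mem_coe, Finset.mem_filter, Finset.mem_univ, true_and]
      refine ⟨⟨fun e => hx.1 (by simpa using congrFun e 1), ?_⟩, by rw [herm_eb S.hF]; simp⟩
      rw [herm_self S.hF]
      simp [hx.2]
    · rintro ⟨a, b⟩ - ⟨a', b'⟩ - e
      have e1 := congrFun e 1
      have e2 := congrFun e 2
      simp at e1 e2
      simp [e1, e2]
  have hperp : ∀ v ∈ O, ((q + 1) * (q ^ 2 - 1)) ≤ (Iso.filter fun w => hh w v = 0).card := by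
    intro v hv
    obtain ⟨g, hg, rfl⟩ := Set.mem_toFinset.1 hv
    refine hperp0.trans (Finset.card_le_card_of_injOn (fun w => app g w) ?_ fun a _ b _ e => (app g).injective e)
    intro w hw
    simp only [Iso, Finset.mem_coe, Finset.mem_filter, Finset.mem_univ, true_and] at hw ⊢
    rw [herm_app S.hF (S.hMK hg).1, herm_app S.hF (S.hMK hg).1]
    exact ⟨⟨fun e => hw.1.1 ((app g).map_eq_zero_iff.1 e), hw.1.2⟩, hw.2⟩
  have hfib : ∀ w ∈ Iso, (O.filter fun v => hh w v = 0).card ≤ q + 1 := by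
    intro w hw
    simp only [Iso, Finset.mem_filter, Finset.mem_univ, true_and] at hw
    rcases (O.filter fun v => hh w v = 0).eq_empty_or_nonempty with he | ⟨v, hv⟩
    · simp [he]
    simp only [O, Finset.mem_filter, Set.mem_toFinset] at hv
    have hroot : (Finset.univ.filter fun x : F => x ^ (q + 1) = 1).card = q + 1 := by
      rw [← Fintype.card_subtype, ← Nat.card_eq_fintype_card,
        card_root S.hF (Nat.succ_ne_zero q) dvd_rfl]
    refine le_of_le_of_eq ((Finset.card_le_card (t := (Finset.univ.filter fun x : F =>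
      x ^ (q + 1) = 1).image (fun r => r • v)) fun v' hv' => ?_).trans Finset.card_image_le) hroot
    simp only [O, Finset.mem_filter, Set.mem_toFinset] at hv'
    obtain ⟨r, hr, e⟩ := S.tangent h8 hv.1 hv'.1 hw.1 hw.2 hv.2 hv'.2
    exact Finset.mem_image.2 ⟨r, by simp [hr], e.symm⟩
  have hdc : O.card * ((q + 1) * (q ^ 2 - 1)) ≤ Iso.card * (q + 1) := by
    refine Finset.card_mul_le_card_mul (fun v w => hh w v = 0) (fun v hv => ?_) fun w hw => ?_
    · exact hperp v hv
    · exact hfib w hw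
  rw [hIso] at hdc
  rw [Set.ncard_eq_toFinset_card']
  have hpos : 0 < (q + 1) * (q ^ 2 - 1) := Nat.mul_pos (by omega) (by omega)
  refine Nat.le_of_mul_le_mul_right (le_of_le_of_eq hdc ?_) hpos
  ring

/-- Points outside the frame need `q = 8`. -/
theorem orbit_cases : (∀ v ∈ orb M (eb F 0), ∃ (i : Fin 3) (r : F), v = r • eb F i) ∨ q = 8 := by
  classical
  obtain ⟨k, hk, hk0⟩ := S.card_Om
  by_cases hkz : k = 0
  · exact Or.inl (hk0 hkz)
  by_cases h8 : q = 8
  · exact Or.inr h8
  have hq := S.hq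
  have hcube : q ^ 3 + 1 = (q ^ 2 - q + 1) * (q + 1) := by
    have h := Nat.le_self_pow (two_ne_zero) q
    zify [h]; ring
  refine Or.inr (mono_numbers hq ?_ S.h5 rfl hkz ?_ ?_)
  · obtain ⟨p, hp⟩ := CharP.exists F
    have hpp : p.Prime :=
      (CharP.char_is_prime_or_zero F p).resolve_right (CharP.char_ne_zero_of_finite F p)
    obtain ⟨n, -, hn⟩ := FiniteField.card F p
    rw [S.hF] at hn
    obtain ⟨i, -, hi⟩ := (Nat.dvd_prime_pow hpp).1 (hn ▸ dvd_pow_self q two_ne_zero)
    have hi0 : i ≠ 0 := by rintro rfl; simp at hi; omega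
    exact ⟨p, i, hpp.prime, Nat.pos_of_ne_zero hi0, hi.symm⟩
  · have := S.Om_le h8
    rw [hk, hcube] at this
    exact Nat.le_of_mul_le_mul_right this (by omega)
  · have hd := S.card_dvd
    rw [S.card_group, hk, hcube] at hd
    have e : q ^ 2 - 1 = (q - 1) * (q + 1) := by
      rw [mul_comm, ← Nat.sq_sub_sq, one_pow]
    rw [e] at hd
    refine Nat.dvd_of_mul_dvd_mul_right (show 0 < (q + 1) * (q + 1) by positivity) ?_
    convert hd using 1 <;> ring

end MSetup

end Cfsg.Agent.SU3Max
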