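import Cfsg.Agent.Lib.SU3Max.Tangent
import Cfsg.Agent.Lib.Unitary.Count

/-!
# `p`-subgroups on the isotropic points

Main results:
* `exists_fixed_iso` : a `p`-group fixes an isotropic vector
* `eq_one_of_fix_two` : and no other isotropic point
* `point_orbit` : so the orbit of its point has size `1` modulo its order
* `involution_tu` : in characteristic two its involutions are transvections
-/

set_option autoImplicit false
set_option linter.unusedSectionVars false

namespace Cfsg.Agent.SU3Max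

open Matrix Cfsg.Agent.Transvect Cfsg.Agent.Unitary Cfsg.Agent.C5.Uni
open scoped MatrixGroups

variable {F : Type*} [Field F] [Fintype F] {q : ℕ}

local notation "V" => (Fin 3 → F)
local notation "hh" => Cfsg.hermForm 3 F q

/-- A matrix group acts on subspaces. -/
@[reducible] def spaceAct (G : Subgroup (GL (Fin 3) F)) :
    MulAction G (Submodule F (Fin 3 → F)) where
  smul g W := W.map (app (g : GL (Fin 3) F)).toLinearMap
  one_smul W := by
    show W.map (app (1 : GL (Fin 3) F)).toLinearMap = W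
    rw [map_one]; exact Submodule.map_id W
  mul_smul g h W := by
    show W.map (app ((g : GL (Fin 3) F) * (h : GL (Fin 3) F))).toLinearMap = _
    rw [map_mul]
    exact Submodule.map_comp (app (h : GL (Fin 3) F)).toLinearMap
      (app (g : GL (Fin 3) F)).toLinearMap W

lemma map_span_point (g : GL (Fin 3) F) (w : V) :
    (F ∙ w).map (app g).toLinearMap = F ∙ app g w := by
  rw [Submodule.map_span, Set.image_singleton]
  rfl

/-- A matrix group acts on vectors. -/
@[reducible] def pointVecAct (G : Subgroup (GL (Fin 3) F)) : MulAction G (Fin 3 → F) where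
  smul g x := app (g : GL (Fin 3) F) x
  one_smul x := by show app (1 : GL (Fin 3) F) x = x; simp
  mul_smul g h x := by
    show app ((g : GL (Fin 3) F) * (h : GL (Fin 3) F)) x = _
    rw [map_mul]; rfl

/-- The points of an orbit. -/
def ptOrb (M : Subgroup (GL (Fin 3) F)) (w : Fin 3 → F) : Set (Submodule F (Fin 3 → F)) :=
  {W | ∃ g ∈ M, W = F ∙ app g w}

/-- The stabiliser of a point. -/
def ptFix (M : Subgroup (GL (Fin 3) F)) (w : Fin 3 → F) : Subgroup (GL (Fin 3) F) where
  carrier := {g | g ∈ M ∧ (F ∙ app g w) = F ∙ w}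
  one_mem' := ⟨one_mem M, by simp⟩
  mul_mem' := fun {g h} ⟨hg, hgw⟩ ⟨hh', hhw⟩ => ⟨mul_mem hg hh', by
    rw [map_mul, LinearEquiv.mul_apply, ← map_span_point, hhw, map_span_point, hgw]⟩
  inv_mem' := fun {g} ⟨hg, hgw⟩ => ⟨inv_mem hg, by
    rw [← map_span_point g⁻¹ w]
    conv_lhs => rw [← hgw]
    rw [map_span_point, app_inv_app]⟩

theorem card_ptOrb_mul (M : Subgroup (GL (Fin 3) F)) (w : V) :
    (ptOrb M w).ncard * Nat.card (ptFix M w) = Nat.card M := by
  classical
  let _ := spaceAct M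
  have h1 : ptOrb M w = MulAction.orbit M (F ∙ w) := by
    ext W
    constructor
    · rintro ⟨g, hg, rfl⟩
      exact ⟨⟨g, hg⟩, map_span_point g w⟩
    · rintro ⟨g, rfl⟩
      exact ⟨g, g.2, map_span_point (g : GL (Fin 3) F) w⟩
  have e : ptFix M w ≃ MulAction.stabilizer M (F ∙ w) :=
    { toFun := fun g => ⟨⟨g, g.2.1⟩, (map_span_point (g : GL (Fin 3) F) w).trans g.2.2⟩
      invFun := fun g => ⟨g.1, g.1.2, (map_span_point (g.1 : GL (Fin 3) F) w).symm.trans g.2⟩
      left_inv := fun _ => rfl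
      right_inv := fun _ => rfl }
  rw [h1, Nat.card_congr e, ← Nat.card_coe_set_eq, ← Nat.card_prod]
  exact Nat.card_congr (MulAction.orbitProdStabilizerEquivGroup M (F ∙ w))

lemma pow_app_smul {g : GL (Fin 3) F} {x : V} {c : F} (h : app g x = c • x) (n : ℕ) :
    app (g ^ n) x = c ^ n • x := by
  induction n with
  | zero => simp
  | succ n ih => rw [pow_succ', map_mul, LinearEquiv.mul_apply, ih, map_smul, h, smul_smul, pow_succ]

/-- In characteristic `p` an eigenvalue of an element of `p`-power order is one. -/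
lemma eigen_one {p : ℕ} [Fact p.Prime] [CharP F p] {g : GL (Fin 3) F} {k : ℕ} (hg : g ^ p ^ k = 1)
    {x : V} (hx : x ≠ 0) {c : F} (h : app g x = c • x) : c = 1 := by
  haveI : ExpChar F p := ExpChar.prime Fact.out
  have h1 := pow_app_smul h (p ^ k)
  rw [hg, map_one] at h1
  have hc : c ^ p ^ k = 1 :=
    (smul_left_injective F hx (show (1 : F) • x = c ^ p ^ k • x by rw [one_smul]; exact h1)).symm
  have h2 : (c - 1) ^ p ^ k = 0 := by rw [sub_pow_expChar_pow, hc, one_pow, sub_self]
  exact sub_eq_zero.1 (pow_eq_zero_iff'.1 h2).1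

section

variable (hF : Fintype.card F = q ^ 2)
include hF

lemma exists_char : ∃ p n : ℕ, p.Prime ∧ CharP F p ∧ q = p ^ n ∧ n ≠ 0 := by
  obtain ⟨p, hp⟩ := CharP.exists F
  have hpp : p.Prime :=
    (CharP.char_is_prime_or_zero F p).resolve_right (CharP.char_ne_zero_of_finite F p)
  obtain ⟨n, -, hn⟩ := FiniteField.card F p
  rw [hF] at hn
  obtain ⟨i, -, hi⟩ := (Nat.dvd_prime_pow hpp).1 (hn ▸ dvd_pow_self q two_ne_zero)
  refine ⟨p, i, hpp, hp, hi, ?_⟩
  rintro rfl
  have := two_le_q hF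
  simp at hi
  omega

/-- A `p`-group fixes an isotropic vector. -/
theorem exists_fixed_iso {M P : Subgroup (GL (Fin 3) F)} (hMK : M ≤ suGL 3 F q) (hPM : P ≤ M)
    {p : ℕ} [Fact p.Prime] [CharP F p] (hP : IsPGroup p P) (hne : P ≠ ⊥) :
    ∃ w : V, w ≠ 0 ∧ hh w w = 0 ∧ ∀ g ∈ P, app g w = w := by
  classical
  let _ := pointVecAct P
  have hpV : p ∣ Nat.card V := by
    rw [Nat.card_fun, Nat.card_eq_fintype_card (α := F)]
    obtain ⟨n, hn, hc⟩ := FiniteField.card F p
    rw [hc]
    exact dvd_pow (dvd_pow_self p n.ne_zero) (by simp)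
  obtain ⟨x, hx, hx0⟩ := hP.exists_fixed_point_of_prime_dvd_card_of_fixed_point V hpV (a := (0 : V))
    (fun g => map_zero (app (g : GL (Fin 3) F)))
  have hgx : ∀ g ∈ P, app g x = x := fun g hg => hx ⟨g, hg⟩
  by_cases hxx : hh x x = 0
  · exact ⟨x, Ne.symm hx0, hxx, hgx⟩
  obtain ⟨w, hw0, hww, -, hall⟩ := exists_axis_point hF hMK hPM hP hne hxx fun g hg => by
    rw [hgx g hg]; exact Submodule.mem_span_singleton_self x
  refine ⟨w, hw0, hww, fun g hg => ?_⟩
  obtain ⟨c, -, rfl⟩ := hall g hg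
  rw [tu_apply hww, hww, mul_zero, zero_smul, add_zero]

/-- An element of `p`-power order fixes at most one isotropic point. -/
theorem eq_one_of_fix_two {p : ℕ} [Fact p.Prime] [CharP F p] {g : GL (Fin 3) F}
    (hg : g ∈ Cfsg.GU 3 F q) {k : ℕ} (hk : g ^ p ^ k = 1) {w u : V} (hw0 : w ≠ 0)
    (hw : hh w w = 0) (hgw : app g w = w) (hu : hh u u = 0) (huw : u ∉ F ∙ w)
    (hgu : app g u ∈ F ∙ u) : g = 1 := by
  obtain ⟨c, z, hc, hfr⟩ := exists_frame hF hw0 hw hu huw
  obtain ⟨a, ha⟩ := Submodule.mem_span_singleton.1 hgu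
  have hu0 : u ≠ 0 := fun e => huw (e ▸ zero_mem _)
  have hgu' : app g u = u := by
    rw [← ha, eigen_one hk hu0 ha.symm, one_smul]
  have hgf : app g (c • u) = c • u := by rw [map_smul, hgu']
  have H := hermForm_isHerm hF 3
  have h1 : hh (app g z) w = 0 := by
    rw [← hfr.ze hF]; conv_rhs => rw [← herm_app hF hg, hgw]
  have h2 : hh (app g z) (c • u) = 0 := by
    rw [← hfr.zf hF]; conv_rhs => rw [← herm_app hF hg, hgf]
  obtain ⟨d, hd⟩ := Submodule.mem_span_singleton.1 (hfr.mem_pole hF h1 h2)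
  have hgz : app g z = z := by
    rw [← hd, eigen_one hk (hfr.z_ne hF) hd.symm, one_smul]
  exact hfr.gext hF (by rw [hgw]; simp) (by rw [hgf]; simp) (by rw [hgz]; simp)

/-- A set of isotropic points has at most `q³ + 1` members. -/
theorem points_le (Ω : Set (Submodule F V))
    (hΩ : ∀ W ∈ Ω, ∃ v : V, v ≠ 0 ∧ hh v v = 0 ∧ W = F ∙ v) : Ω.ncard ≤ q ^ 3 + 1 := by
  classical
  have H := hermForm_isHerm hF 3
  have key : ∀ W : Ω, ∃ v : V, v ≠ 0 ∧ hh v v = 0 ∧ (W : Submodule F V) = F ∙ v := fun W => hΩ _ W.2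
  choose v hv0 hvv hW using key
  let φ : Ω × Fˣ → {x : V // x ≠ 0 ∧ hh x x = 0} := fun z =>
    ⟨(z.2 : F) • v z.1, smul_ne_zero z.2.ne_zero (hv0 _), by
      rw [H.smul_left, H.smul_right, hvv]; ring⟩
  have hφ : Function.Injective φ := by
    rintro ⟨W, c⟩ ⟨W', c'⟩ e
    have e' : (c : F) • v W = (c' : F) • v W' := congrArg Subtype.val e
    have hWW : W = W' := Subtype.ext (by
      rw [hW W, hW W', ← Submodule.span_singleton_smul_eq c.isUnit (v W), e',
        Submodule.span_singleton_smul_eq c'.isUnit (v W')])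
    subst hWW
    exact Prod.ext rfl (Units.ext (smul_left_injective F (hv0 W) e'))
  have h := Nat.card_le_card_of_injective φ hφ
  have hiso : Nat.card {x : V // x ≠ 0 ∧ hh x x = 0} = (q ^ 3 + 1) * (q ^ 2 - 1) := by
    have h := isotropic_count hF 3
    rw [if_neg (by decide)] at h
    have h0 : normCount 3 q (0 : F) = Nat.card {v : V // hh v v = 0} := rfl
    rw [h0, Nat.card_eq_fintype_card, Fintype.card_subtype] at h
    rw [Nat.card_eq_fintype_card, Fintype.card_subtype]
    have : (Finset.univ.filter fun v : V => v ≠ 0 ∧ hh v v = 0) =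
        (Finset.univ.filter fun v : V => hh v v = 0).erase 0 := by
      ext v; simp
    rw [this, Finset.card_erase_of_mem (by simp [H.zero_left]), h]
    simp
  rw [hiso, Nat.card_prod, Nat.card_units, Nat.card_coe_set_eq, Nat.card_eq_fintype_card, hF] at h
  have hq := two_le_q hF
  have h4 : 4 ≤ q ^ 2 := Nat.pow_le_pow_left hq 2
  exact Nat.le_of_mul_le_mul_right h (by omega)

/-- An orbit of isotropic points has at most `q³ + 1` points. -/
theorem ptOrb_le {M : Subgroup (GL (Fin 3) F)} (hMK : M ≤ suGL 3 F q) {w : V} (hw0 : w ≠ 0)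
    (hw : hh w w = 0) : (ptOrb M w).ncard ≤ q ^ 3 + 1 :=
  points_le hF _ fun _ ⟨g, hg, hW⟩ => ⟨app g w, fun e => hw0 ((app g).map_eq_zero_iff.1 e),
    (herm_app hF (hMK hg).1 w w).trans hw, hW⟩

/-- An orbit of `q³ + 1` points has all isotropic points. -/
theorem mem_ptOrb_of_full {M : Subgroup (GL (Fin 3) F)} (hMK : M ≤ suGL 3 F q) {w : V} (hw0 : w ≠ 0)
    (hw : hh w w = 0) (hfull : (ptOrb M w).ncard = q ^ 3 + 1) {v : V} (hv0 : v ≠ 0)
    (hv : hh v v = 0) : (F ∙ v) ∈ ptOrb M w := by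
  by_contra h
  have hle := points_le hF (insert (F ∙ v) (ptOrb M w)) (by
    rintro W (rfl | ⟨g, hg, hW⟩)
    · exact ⟨v, hv0, hv, rfl⟩
    · exact ⟨app g w, fun e => hw0 ((app g).map_eq_zero_iff.1 e),
        (herm_app hF (hMK hg).1 w w).trans hw, hW⟩)
  rw [Set.ncard_insert_of_notMem h] at hle
  omega

/-- The orbit of the point of a `p`-group is `1` modulo its order. -/
theorem point_orbit {M P : Subgroup (GL (Fin 3) F)} (hMK : M ≤ suGL 3 F q) (hPM : P ≤ M)
    {p : ℕ} [Fact p.Prime] [CharP F p] (hP : IsPGroup p P) {w : V} (hw0 : w ≠ 0) (hw : hh w w = 0)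
    (hfix : ∀ g ∈ P, app g w = w) :
    ∃ c, (ptOrb M w).ncard = Nat.card P * c + 1 := by
  classical
  let _ := spaceAct P
  let Y := {W : Submodule F V // W ∈ ptOrb M w ∧ W ≠ F ∙ w}
  have hwW : ∀ g ∈ P, (F ∙ w).map (app g).toLinearMap = F ∙ w := fun g hg => by
    rw [map_span_point, hfix g hg]
  let act : MulAction P Y :=
    { smul := fun g W => ⟨g • W.1, by
        obtain ⟨k, hk, hW⟩ := W.2.1
        refine ⟨⟨(g : GL (Fin 3) F) * k, mul_mem (hPM g.2) hk, ?_⟩, fun e => W.2.2 ?_⟩
        · show W.1.map (app (g : GL (Fin 3) F)).toLinearMap = _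
          rw [hW, map_span_point, map_mul, LinearEquiv.mul_apply]
        · have e' : g • W.1 = g • (F ∙ w) := by rw [e]; exact (hwW g g.2).symm
          exact smul_left_cancel g e'⟩
      one_smul := fun W => Subtype.ext (one_smul P W.1)
      mul_smul := fun g h W => Subtype.ext (mul_smul g h W.1) }
  have hfree : ∀ W : Y, MulAction.stabilizer P W = ⊥ := by
    intro W
    rw [Subgroup.eq_bot_iff_forall]
    intro g hg
    have e : W.1.map (app (g : GL (Fin 3) F)).toLinearMap = W.1 := congrArg Subtype.val hg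
    obtain ⟨k, hk, hW⟩ := W.2.1
    rw [hW, map_span_point] at e
    have hne : app k w ∉ F ∙ w := by
      intro hmem
      obtain ⟨a, ha⟩ := Submodule.mem_span_singleton.1 hmem
      have hkw0 : app k w ≠ 0 := fun e => hw0 ((app k).map_eq_zero_iff.1 e)
      have ha0 : a ≠ 0 := fun e0 => hkw0 (by rw [← ha, e0, zero_smul])
      exact W.2.2 (by rw [hW, ← ha, Submodule.span_singleton_smul_eq (IsUnit.mk0 a ha0)])
    obtain ⟨j, hj⟩ := hP g
    have hgj : (g : GL (Fin 3) F) ^ p ^ j = 1 := by simpa using congrArg Subtype.val hj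
    refine Subtype.ext (eq_one_of_fix_two hF (hMK (hPM g.2)).1 hgj hw0 hw (hfix g g.2)
      ((herm_app hF (hMK hk).1 w w).trans hw) hne ?_)
    rw [← e]
    exact Submodule.mem_span_singleton_self _
  refine ⟨Nat.card (Quotient (MulAction.orbitRel P Y)), ?_⟩
  have hY : Nat.card Y = Nat.card P * Nat.card (Quotient (MulAction.orbitRel P Y)) := by
    rw [mul_comm, ← Nat.card_prod]
    exact Nat.card_congr (MulAction.selfEquivOrbitsQuotientProd hfree)
  rw [← hY]
  have hmem : (F ∙ w) ∈ ptOrb M w := ⟨1, one_mem M, by simp⟩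
  rw [← Set.ncard_diff_singleton_add_one hmem, ← Nat.card_coe_set_eq]
  rfl

/-- In characteristic two an involution fixing an isotropic vector is a transvection there. -/
theorem involution_tu [CharP F 2] {g : GL (Fin 3) F} (hg : g ∈ Cfsg.GU 3 F q) (h2 : g * g = 1)
    {w : V} (hw0 : w ≠ 0) (hw : hh w w = 0) (hgw : app g w = w) :
    ∃ c : F, c + c ^ q = 0 ∧ g = tu q w c := by
  haveI : Fact (Nat.Prime 2) := ⟨Nat.prime_two⟩
  have H := hermForm_isHerm hF 3
  obtain ⟨z, hz0, hwz, -, hzz⟩ : ∃ z : V, z ≠ 0 ∧ hh z w = 0 ∧ True ∧ hh z z ≠ 0 := by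
    obtain ⟨u, hu, hwu⟩ := exists_iso_partner hF hw0 hw
    have huw : u ∉ F ∙ w := fun h => by
      obtain ⟨a, rfl⟩ := Submodule.mem_span_singleton.1 h
      rw [H.smul_right, hw, mul_zero] at hwu
      exact zero_ne_one hwu
    obtain ⟨c, z, -, hfr⟩ := exists_frame hF hw0 hw hu huw
    exact ⟨z, hfr.z_ne hF, hfr.ze hF, trivial, hfr.zz⟩
  obtain ⟨f, hfr⟩ := exists_frame_point hF hw0 hw hzz ((H.eq_zero_symm hF).1 hwz)
  have h1 : hh (app g z) w = 0 := by
    rw [← hwz]; conv_rhs => rw [← herm_app hF hg, hgw]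
  obtain ⟨a, b, hab⟩ : ∃ a b : F, app g z = a • z + b • w := by
    refine ⟨hh (app g z) z / hh z z, hh (app g z) f, ?_⟩
    conv_lhs => rw [hfr.expand hF (app g z), h1]
    rw [zero_smul, add_zero, add_comm]
  have hgg : app g (app g z) = z := by
    rw [← LinearEquiv.mul_apply, ← map_mul, h2, map_one]; rfl
  rw [hab, map_add, map_smul, map_smul, hab, hgw] at hgg
  have e1 := congrArg (fun y => hh y z) hgg
  simp [H.add_left, H.smul_left, (H.eq_zero_symm hF).1 hwz] at e1
  have h20 : (2 : F) = 0 := by exact_mod_cast CharP.cast_eq_zero F 2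
  have ha : a = 1 := by
    have h3 : (a - 1) * (a - 1) * hh z z = 0 := by linear_combination e1 + (1 - a) * hh z z * h20
    rcases mul_eq_zero.1 h3 with h | h
    · exact sub_eq_zero.1 (mul_self_eq_zero.1 h)
    · exact absurd h hzz
  rw [ha, one_smul] at hab
  -- the image of the partner
  have hf1 : hh (app g f) w = 1 := by
    rw [← hfr.fe hF]; conv_rhs => rw [← herm_app hF hg, hgw]
  obtain ⟨s, t, hst⟩ : ∃ s t : F, app g f = f + s • w + t • z := by
    refine ⟨hh (app g f) f, hh (app g f) z / hh z z, ?_⟩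
    conv_lhs => rw [hfr.expand hF (app g f), hf1, one_smul]
    abel
  have hggf : app g (app g f) = f := by
    rw [← LinearEquiv.mul_apply, ← map_mul, h2, map_one]; rfl
  rw [hst, map_add, map_add, map_smul, map_smul, hst, hgw, hab] at hggf
  have e2 := congrArg (fun y => hh y f) hggf
  simp [H.add_left, H.smul_left, hfr.ff, hfr.ef, hfr.zf hF] at e2
  have e3 := herm_app hF hg f z
  rw [hst, hab] at e3
  simp [H.add_left, H.add_right hF, H.smul_left, H.smul_right, hfr.fz, hfr.fe hF, hfr.ez,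
    hfr.ze hF, hw] at e3
  have hb : b = 0 := by
    have h4 : t * b = 0 := by linear_combination e2 - s * h20
    rcases mul_eq_zero.1 h4 with h | h
    · rw [h] at e3
      simpa [pow_q_eq_zero hF] using e3
    · exact h
  have hgz : app g z = z := by rw [hab, hb, zero_smul, add_zero]
  obtain ⟨e, hs⟩ := hfr.eq_tu hF hg hgw hgz
  exact ⟨_, hs, e⟩

end

end Cfsg.Agent.SU3Max
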