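import Cfsg.Agent.Lib.SU3Max.MonoCount
import Cfsg.Agent.Lib.SU3Max.Points

/-!
# An overgroup of the monomial group: eight elements

Main results:
* `MSetup.eight` : `q = 8` allows no points outside the frame either
-/

set_option autoImplicit false
set_option linter.unusedSectionVars false
set_option maxRecDepth 4000

namespace Cfsg.Agent.SU3Max

open Matrix Cfsg.Agent.Transvect Cfsg.Agent.Unitary Cfsg.Agent.C5.Uni
open scoped MatrixGroups

variable {F : Type*} [Field F] [Fintype F]

local notation "V" => (Fin 3 → F)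
local notation "hh" => Cfsg.hermForm 3 F 8

namespace MSetup

variable {M : Subgroup (GL (Fin 3) F)} (S : MSetup 8 M)
include S

lemma charTwo : CharP F 2 := by
  obtain ⟨p, n, hp, hc, hq, -⟩ := exists_char S.hF
  have : p ∣ 2 ^ 3 := by
    rw [show (2 : ℕ) ^ 3 = 8 from rfl, hq]; exact dvd_pow_self p (by rintro rfl; simp at hq)
  rwa [(Nat.prime_dvd_prime_iff_eq hp Nat.prime_two).1 (hp.dvd_of_dvd_pow this)] at hc

/-- An element of order seven at a point of a Sylow `2`-group gives a centre. -/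
lemma no_seven {P : Subgroup (GL (Fin 3) F)} (hPM : P ≤ M) (hP : IsPGroup 2 P) (hne : P ≠ ⊥) {w : V}
    (hw0 : w ≠ 0) (hw : hh w w = 0) (hfix : ∀ g ∈ P, app g w = w) :
    ¬ 7 ∣ Nat.card (ptFix M w) := by
  intro h7
  haveI : CharP F 2 := S.charTwo
  haveI : Fact (Nat.Prime 2) := ⟨Nat.prime_two⟩
  haveI : Fact (Nat.Prime 7) := ⟨by norm_num⟩
  have H := hermForm_isHerm S.hF 3
  -- a transvection at `w`
  haveI : Nontrivial P := (Subgroup.nontrivial_iff_ne_bot P).2 hne
  obtain ⟨n, hn⟩ := IsPGroup.iff_card.1 hP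
  have hn0 : n ≠ 0 := by
    rintro rfl
    have := Finite.one_lt_card (α := P)
    rw [hn] at this
    simp at this
  obtain ⟨⟨u, hu⟩, hu2⟩ := exists_prime_orderOf_dvd_card' (G := P) 2 (by rw [hn]; exact dvd_pow_self 2 hn0)
  have huo : orderOf u = 2 := (Subgroup.orderOf_coe (⟨u, hu⟩ : P)).trans hu2
  obtain ⟨c, hc, huc⟩ := involution_tu S.hF (S.hMK (hPM hu)).1
    (by rw [← pow_two, ← huo, pow_orderOf_eq_one]) hw0 hw (hfix u hu)
  have hc0 : c ≠ 0 := by
    rintro rfl
    rw [huc, tu_zero hw, orderOf_one] at huo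
    norm_num at huo
  -- the element of order seven
  obtain ⟨⟨g, hg⟩, hg7⟩ := exists_prime_orderOf_dvd_card' (G := ptFix M w) 7 h7
  have hgo : orderOf g = 7 := (Subgroup.orderOf_coe (⟨g, hg⟩ : ptFix M w)).trans hg7
  have hgp : g ^ 7 = 1 := hgo ▸ pow_orderOf_eq_one g
  obtain ⟨a, hga⟩ : ∃ a : F, app g w = a • w := by
    have : app g w ∈ F ∙ w := hg.2 ▸ Submodule.mem_span_singleton_self _
    obtain ⟨a, ha⟩ := Submodule.mem_span_singleton.1 this
    exact ⟨a, ha.symm⟩
  have ha7 : a ^ 7 = 1 := by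
    have h1 := pow_app_smul hga 7
    rw [hgp, map_one] at h1
    exact (smul_left_injective F hw0 (show (1 : F) • w = a ^ 7 • w by rw [one_smul]; exact h1)).symm
  by_cases ha1 : a = 1
  · -- then `g` is unipotent
    rw [ha1, one_smul] at hga
    obtain ⟨y, hy, hwy⟩ := exists_iso_partner S.hF hw0 hw
    have hyw : y ∉ F ∙ w := fun h => by
      obtain ⟨b, rfl⟩ := Submodule.mem_span_singleton.1 h
      rw [H.smul_right, hw, mul_zero] at hwy
      exact zero_ne_one hwy
    obtain ⟨b, z, -, hfr⟩ := exists_frame S.hF hw0 hw hy hyw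
    have hU := (S.hMK hg.1).1
    have h1 : hh (app g z) w = 0 := by
      rw [← hfr.ze S.hF]; conv_rhs => rw [← herm_app S.hF hU, hga]
    obtain ⟨μ, α, hgz⟩ : ∃ μ α : F, app g z = μ • z + α • w := by
      refine ⟨hh (app g z) z / hh z z, hh (app g z) (b • y), ?_⟩
      conv_lhs => rw [hfr.expand S.hF (app g z), h1]
      rw [zero_smul, add_zero, add_comm]
    have hpow : ∀ k : ℕ, ∃ d : F, app (g ^ k) z = μ ^ k • z + d • w := by
      intro k
      induction k with
      | zero => exact ⟨0, by simp⟩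
      | succ k ih =>
        obtain ⟨d, hd⟩ := ih
        refine ⟨μ ^ k * α + d, ?_⟩
        rw [pow_succ' g, map_mul, LinearEquiv.mul_apply, hd, map_add, map_smul, map_smul, hgz, hga,
          smul_add, smul_smul, smul_smul, add_assoc, ← add_smul, pow_succ]
    obtain ⟨d, hd⟩ := hpow 7
    rw [hgp, map_one] at hd
    have e1 := congrArg (fun x => hh x z) hd
    simp [H.add_left, H.smul_left, hfr.ez] at e1
    have hμ7 : μ ^ 7 = 1 := mul_right_cancel₀ hfr.zz (by rw [one_mul]; exact e1.symm)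
    have hμ9 : μ ^ 9 = 1 := by
      have e2 := herm_app S.hF hU z z
      rw [hgz] at e2
      simp [H.add_left, H.add_right S.hF, H.smul_left, H.smul_right, hfr.ez, hfr.ze S.hF, hw] at e2
      refine mul_right_cancel₀ hfr.zz ?_
      rw [one_mul]
      linear_combination e2
    have hμ : μ = 1 := by
      calc μ = μ * (μ ^ 9) ^ 3 := by rw [hμ9, one_pow, mul_one]
        _ = (μ ^ 7) ^ 4 := by ring
        _ = 1 := by rw [hμ7, one_pow]
    rw [hμ, one_smul] at hgz
    have hg2w : app (g * g) w = w := by rw [map_mul, LinearEquiv.mul_apply, hga, hga]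
    have hg2z : app (g * g) z = z := by
      rw [map_mul, LinearEquiv.mul_apply, hgz, map_add, map_smul, hga, hgz, add_assoc, ← add_smul]
      have h20 : (2 : F) = 0 := by exact_mod_cast CharP.cast_eq_zero F 2
      rw [show α + α = 0 by linear_combination α * h20, zero_smul, add_zero]
    obtain ⟨e, hs⟩ := hfr.eq_tu S.hF (mul_mem hU hU) hg2w hg2z
    have h4 : g ^ 4 = 1 := by
      rw [show g ^ 4 = (g * g) * (g * g) by simp [pow_succ, mul_assoc], e, tu_add S.hF hw]
      have h20 : (2 : F) = 0 := by exact_mod_cast CharP.cast_eq_zero F 2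
      rw [show ∀ x : F, x + x = 0 from fun x => by linear_combination x * h20, tu_zero hw]
    have := orderOf_dvd_of_pow_eq_one h4
    rw [hgo] at this
    norm_num at this
  · refine S.nc w hw0 (centre_of_scale S.hF S.hMK hw hc hc0 (huc ▸ hPM hu) hg.1 hga fun x hx => ?_)
    rcases eq_or_ne x 0 with rfl | hx0
    · exact zero_mem _
    have ha0 : a ≠ 0 := fun e => by simp [e] at ha7
    have hν : a ^ (8 + 1) = a ^ 2 := by
      rw [show 8 + 1 = 7 + 2 from rfl, pow_add, ha7, one_mul]
    have hoa : orderOf a = 7 := orderOf_eq_prime ha7 ha1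
    have hon : orderOf (a ^ 2) = 7 := by
      rw [orderOf_pow' a two_ne_zero, hoa]; norm_num
    haveI : NeZero (orderOf (a ^ 2)) := ⟨by rw [hon]; norm_num⟩
    have hx7 : x ^ 7 = 1 := mul_left_cancel₀ hx0 (by rw [← pow_succ', hx, mul_one])
    obtain ⟨i, -, rfl⟩ := (IsPrimitiveRoot.orderOf (a ^ 2)).eq_pow_of_pow_eq_one (ξ := x)
      (by rwa [hon])
    exact AddSubgroup.subset_closure ⟨i, by rw [← hν]⟩

/-- A Sylow `2`-group of `M` and its point. -/
lemma sylow_data {e : ℕ} (hd : 2 ^ e ∣ Nat.card M) (he : e ≠ 0) :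
    ∃ r : ℕ, r ∣ Nat.card M ∧ r ≤ 513 ∧ r ≠ 1 ∧ (∃ c, r = 2 ^ e * c + 1) ∧
      (7 ∣ Nat.card M → 7 ∣ r) := by
  haveI : CharP F 2 := S.charTwo
  haveI : Fact (Nat.Prime 2) := ⟨Nat.prime_two⟩
  obtain ⟨P, hP⟩ := Sylow.exists_subgroup_card_pow_prime 2 hd
  set Q := P.map M.subtype
  have hQc : Nat.card Q = 2 ^ e := by
    rw [Subgroup.card_map_of_injective Subtype.val_injective, hP]
  have hQM : Q ≤ M := fun x hx => by obtain ⟨y, -, rfl⟩ := hx; exact y.2
  have hQp : IsPGroup 2 Q := IsPGroup.of_card hQc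
  have hQne : Q ≠ ⊥ := fun e' => by
    rw [e', Subgroup.card_bot] at hQc
    exact absurd hQc.symm (Nat.one_lt_two_pow he).ne'
  obtain ⟨w, hw0, hw, hfix⟩ := exists_fixed_iso S.hF S.hMK hQM hQp hQne
  refine ⟨(ptOrb M w).ncard, ⟨_, (card_ptOrb_mul M w).symm⟩, (ptOrb_le S.hF S.hMK hw0 hw).trans
    (by norm_num), fun h1 => ?_, hQc ▸ point_orbit S.hF S.hMK hQM hQp hw0 hw hfix, fun h7 => ?_⟩
  · obtain ⟨g, hg, hgw⟩ := S.noFix w hw0
    obtain ⟨W, hW⟩ := Set.ncard_eq_one.1 h1
    have ha : (F ∙ app g w) ∈ ptOrb M w := ⟨g, hg, rfl⟩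
    have hb : (F ∙ w) ∈ ptOrb M w := ⟨1, one_mem M, by simp⟩
    rw [hW, Set.mem_singleton_iff] at ha hb
    exact hgw ((ha.trans hb.symm) ▸ Submodule.mem_span_singleton_self _)
  · rw [← card_ptOrb_mul M w] at h7
    exact ((Nat.Prime.dvd_mul (by norm_num)).1 h7).resolve_right
      (S.no_seven hQM hQp hQne hw0 hw hfix)

/-- The orbit covering all vectors of norm one gives all shifts. -/
lemma not_full (hall : ∀ v : V, hh v v = 1 → v ∈ orb M (eb F 0)) : False := by
  haveI : CharP F 2 := S.charTwo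
  have h20 : (2 : F) = 0 := by exact_mod_cast CharP.cast_eq_zero F 2
  have H := hermForm_isHerm S.hF 3
  set w : V := ![0, 1, 1] with hwdef
  have hw0 : w ≠ 0 := fun e => by simpa [hwdef] using congrFun e 1
  have hww : hh w w = 0 := by
    rw [herm_self S.hF]
    simp [hwdef]
    linear_combination h20
  have hwz : hh w (eb F 0) = 0 := by rw [herm_eb S.hF]; simp [hwdef]
  have hzw : hh (eb F 0) w = 0 := (H.eq_zero_symm S.hF).1 hwz
  obtain ⟨a, ha0, ha⟩ := exists_order_norm S.hF
  have ha1 : a ^ (8 + 1) = 1 := ha ▸ pow_orderOf_eq_one a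
  obtain ⟨t, ht, hth⟩ := S.homAt S.e0_mem ha1
  have hba : a / (a * a)⁻¹ = a ^ 3 := by rw [div_inv_eq_mul]; ring
  have hne : 1 - a / (a * a)⁻¹ ≠ 0 := by
    rw [hba, sub_ne_zero]
    intro e
    have := orderOf_dvd_of_pow_eq_one e.symm
    rw [ha] at this
    norm_num at this
  refine S.nc w hw0 (centre_of_shifts S.hF S.hMK hw0 hww hwz
    (by rw [eb_self S.hF]; exact one_ne_zero) fun α => ?_)
  set k := α / (1 - a / (a * a)⁻¹)
  have hk : eb F 0 + k • w ∈ orb M (eb F 0) := hall _ (by
    simp [H.add_left, H.add_right S.hF, H.smul_left, H.smul_right, hww, hwz, hzw, eb_self S.hF])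
  obtain ⟨t', ht', hth'⟩ := S.homAt hk ha1
  have := shift_of_homs S.hF hww hwz ht ht' (inv_ne_zero (mul_ne_zero ha0 ha0)) ha0 hth hth'
  rwa [mul_div_cancel₀ _ hne] at this

/-- Fifty-seven points: a normal subgroup of order nineteen. -/
lemma not_nineteen (hcard : Nat.card M = 9234) : False := by
  classical
  haveI : Fact (Nat.Prime 19) := ⟨by norm_num⟩
  obtain ⟨P, hP⟩ := Sylow.exists_subgroup_card_pow_prime 19 (G := M) (n := 1) (by rw [hcard]; norm_num)
  rw [pow_one] at hP
  let SP : Sylow 19 M := Sylow.ofCard P (by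
    rw [hP, hcard]
    have : Nat.factorization 9234 19 = 1 := by
      rw [show (9234 : ℕ) = 19 * 486 from rfl, Nat.factorization_mul (by norm_num) (by norm_num)]
      simp [Nat.Prime.factorization_self (show Nat.Prime 19 by norm_num),
        Nat.factorization_eq_zero_of_not_dvd (show ¬ 19 ∣ 486 by norm_num)]
    rw [this, pow_one])
  have hone : Nat.card (Sylow 19 M) = 1 := by
    have h1 := SP.card_dvd_index
    have h2 := card_sylow_modEq_one 19 M
    have hidx : (SP : Subgroup M).index = 486 := by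
      have h3 := (SP : Subgroup M).card_mul_index
      rw [show Nat.card (SP : Subgroup M) = 19 from hP, hcard] at h3
      omega
    rw [hidx] at h1
    have hle := Nat.le_of_dvd (by norm_num) h1
    have key : ∀ n : Fin 487, (n : ℕ) ∣ 486 → (n : ℕ) % 19 = 1 → (n : ℕ) = 1 := by decide +kernel
    exact key ⟨_, Nat.lt_succ_of_le hle⟩ h1 h2
  haveI : Subsingleton (Sylow 19 M) := (Nat.card_eq_one_iff_unique.1 hone).1
  have hnorm : (SP : Subgroup M).Normal := Sylow.normal_of_subsingleton SP
  obtain ⟨⟨t, htP⟩, ht19⟩ := exists_prime_orderOf_dvd_card' (G := (SP : Subgroup M)) 19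
    (show 19 ∣ Nat.card (SP : Subgroup M) from hP.symm ▸ dvd_rfl)
  have hto : orderOf (t : GL (Fin 3) F) = 19 :=
    ((Subgroup.orderOf_coe t).trans (Subgroup.orderOf_coe (⟨t, htP⟩ : (SP : Subgroup M)))).trans ht19
  set T : GL (Fin 3) F := (t : GL (Fin 3) F) with hT
  have hT19 : T ^ 19 = 1 := hto ▸ pow_orderOf_eq_one T
  have hTU : T ∈ suGL 3 F 8 := S.hMK t.2
  -- `T` fixes no point
  have hfp : ∀ (x : V) (l : F), x ≠ 0 → app T x = l • x → False := by
    intro x l hx hl
    have h1 := pow_app_smul hl 19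
    rw [hT19, map_one] at h1
    have hl19 : l ^ 19 = 1 :=
      (smul_left_injective F hx (show (1 : F) • x = l ^ 19 • x by rw [one_smul]; exact h1)).symm
    have hl0 : l ≠ 0 := fun e => by simp [e] at hl19
    have hl63 : l ^ 63 = 1 := by
      have := FiniteField.pow_card_sub_one_eq_one l hl0
      rwa [S.hF] at this
    have hl1 : l = 1 := by
      calc l = l * (l ^ 63) ^ 3 := by rw [hl63, one_pow, mul_one]
        _ = (l ^ 19) ^ 10 := by ring
        _ = 1 := by rw [hl19, one_pow]
    rw [hl1, one_smul] at hl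
    -- fixed vectors
    let _ := pointVecAct (Subgroup.zpowers T)
    have hP19 : IsPGroup 19 (Subgroup.zpowers T) := IsPGroup.of_card (n := 1) (by
      rw [Nat.card_zpowers, hto, pow_one])
    have hmod := hP19.card_modEq_card_fixedPoints V
    let W : Submodule F V :=
      { carrier := {y | app T y = y}
        add_mem' := fun {a b} (ha : app T a = a) (hb : app T b = b) => by
          show app T (a + b) = a + b
          rw [map_add, ha, hb]
        zero_mem' := map_zero _
        smul_mem' := fun c a (ha : app T a = a) => by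
          show app T (c • a) = c • a
          rw [map_smul, ha] }
    have hfixW : Nat.card (MulAction.fixedPoints (Subgroup.zpowers T) V) = Nat.card W := by
      refine Nat.card_congr (Equiv.subtypeEquivRight fun y => ?_)
      constructor
      · intro h; exact h ⟨T, Subgroup.mem_zpowers T⟩
      · intro h g
        obtain ⟨i, hi⟩ := Subgroup.mem_zpowers_iff.1 g.2
        show app (g : GL (Fin 3) F) y = y
        rw [← hi]
        have hmem : T ∈ (MulAction.stabilizer (GL (Fin 3) F) y : Subgroup _) ∨ True := Or.inr trivial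
        let st : Subgroup (GL (Fin 3) F) :=
          { carrier := {k | app k y = y}
            one_mem' := by simp
            mul_mem' := fun {a b} (ha : app a y = y) (hb : app b y = y) => by
              show app (a * b) y = y
              rw [map_mul, LinearEquiv.mul_apply, hb, ha]
            inv_mem' := fun {a} (ha : app a y = y) => by
              show app a⁻¹ y = y
              conv_lhs => rw [← ha]
              rw [app_inv_app] }
        exact zpow_mem (show T ∈ st from h) i
    have hV : Nat.card V = (8 ^ 2) ^ 3 := by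
      rw [Nat.card_eq_fintype_card, Fintype.card_fun, Fintype.card_fin, S.hF]
    have hW : Nat.card W = (8 ^ 2) ^ Module.finrank F W := by
      rw [show Nat.card W = Nat.card F ^ Module.finrank F W from Module.natCard_eq_pow_finrank,
        Nat.card_eq_fintype_card, S.hF]
    rw [hfixW, hV, hW] at hmod
    have hle : Module.finrank F W ≤ 3 := W.finrank_le.trans (by simp)
    have hpos : 0 < Module.finrank F W := by
      rw [Module.finrank_pos_iff_exists_ne_zero]
      exact ⟨⟨x, hl⟩, fun e => hx (congrArg Subtype.val e)⟩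
    have h3 : Module.finrank F W = 3 := by
      have key : ∀ k : Fin 4, (8 ^ 2) ^ 3 % 19 = (8 ^ 2) ^ (k : ℕ) % 19 → (k : ℕ) = 0 ∨ (k : ℕ) = 3 := by
        decide +kernel
      rcases key ⟨_, Nat.lt_succ_of_le hle⟩ hmod with h | h
      · exact absurd (show Module.finrank F W = 0 from h) hpos.ne'
      · exact h
    have htop : W = ⊤ := Submodule.eq_top_of_finrank_eq (by rw [h3]; simp)
    have hT1 : T = 1 := gl_ext fun y => by
      rw [map_one]
      exact (show y ∈ W by rw [htop]; trivial)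
    rw [hT1, orderOf_one] at hto
    norm_num at hto
  -- the diagonal group acts on the powers of `T`
  obtain ⟨μ, hμ⟩ : ∃ μ, μ = Finset.univ.filter fun x : F => x ^ (8 + 1) = 1 := ⟨_, rfl⟩
  have hμc : μ.card = 9 := by
    rw [hμ, ← Fintype.card_subtype, ← Nat.card_eq_fintype_card, card_root S.hF (by norm_num) dvd_rfl]
  have hmemμ : ∀ x, x ∈ μ ↔ x ^ (8 + 1) = 1 := fun x => by simp [hμ]
  choose d hd hd0 hd1 hd2 using fun ab : {x // x ∈ μ ×ˢ μ} => S.diag2_mem
    ((hmemμ _).1 (Finset.mem_product.1 ab.2).1) ((hmemμ _).1 (Finset.mem_product.1 ab.2).2)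
  let pw : Finset (GL (Fin 3) F) := (Finset.Ioo 0 19).image fun i => T ^ i
  have himg : ∀ ab, d ab * T * (d ab)⁻¹ ∈ pw := by
    intro ab
    have hmem : (⟨d ab, hd ab⟩ : M) * t * (⟨d ab, hd ab⟩ : M)⁻¹ ∈ (SP : Subgroup M) :=
      hnorm.conj_mem t htP _
    have hzp : (SP : Subgroup M) = Subgroup.zpowers t := by
      refine (Subgroup.eq_of_le_of_card_ge (Subgroup.zpowers_le.2 htP) ?_).symm
      rw [show Nat.card (SP : Subgroup M) = 19 from hP, Nat.card_zpowers, ← Subgroup.orderOf_coe, hto]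
    rw [hzp] at hmem
    obtain ⟨i, hi, hie⟩ : ∃ i < 19, T ^ i = d ab * T * (d ab)⁻¹ := by
      obtain ⟨i, hi, hie⟩ := (mem_zpowers_iff_mem_range_orderOf.1 hmem : _) |> Finset.mem_image.1
      refine ⟨i, ?_, congrArg Subtype.val hie⟩
      rw [Finset.mem_range, ← Subgroup.orderOf_coe, hto] at hi
      exact hi
    refine Finset.mem_image.2 ⟨i, Finset.mem_Ioo.2 ⟨Nat.pos_of_ne_zero ?_, hi⟩, hie⟩
    rintro rfl
    rw [pow_zero, eq_comm, mul_inv_eq_one, mul_eq_left] at hie
    rw [hie, orderOf_one] at hto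
    norm_num at hto
  have hcomm : ∀ ab cd, d ab * T * (d ab)⁻¹ = d cd * T * (d cd)⁻¹ →
      ((cd.1.1 / ab.1.1) ^ 3 = 1 ∧ cd.1.2 / ab.1.2 = cd.1.1 / ab.1.1) := by
    intro ab cd e
    have ha0 : ab.1.1 ≠ 0 := fun e' => by
      have := (hmemμ _).1 (Finset.mem_product.1 ab.2).1; simp [e'] at this
    have hb0 : ab.1.2 ≠ 0 := fun e' => by
      have := (hmemμ _).1 (Finset.mem_product.1 ab.2).2; simp [e'] at this
    have hc0 : cd.1.1 ≠ 0 := fun e' => by
      have := (hmemμ _).1 (Finset.mem_product.1 cd.2).1; simp [e'] at this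
    have he0 : cd.1.2 ≠ 0 := fun e' => by
      have := (hmemμ _).1 (Finset.mem_product.1 cd.2).2; simp [e'] at this
    set D := (d ab)⁻¹ * d cd with hD
    have hcomm : D * T = T * D := by
      calc D * T = (d ab)⁻¹ * (d cd * T * (d cd)⁻¹) * d cd := by rw [hD]; group
        _ = (d ab)⁻¹ * (d ab * T * (d ab)⁻¹) * d cd := by rw [e]
        _ = T * D := by rw [hD]; group
    set l : Fin 3 → F := ![cd.1.1 / ab.1.1, cd.1.2 / ab.1.2, (ab.1.1 * ab.1.2) / (cd.1.1 * cd.1.2)] with hl
    have hDe : ∀ i, app D (eb F i) = l i • eb F i := by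
      intro i
      have hinv : ∀ (j : Fin 3) (c : F), c ≠ 0 → app (d ab) (eb F j) = c • eb F j →
          app (d ab)⁻¹ (eb F j) = c⁻¹ • eb F j := by
        intro j c hc h
        apply (app (d ab)).injective
        rw [app_app_inv, map_smul, h, smul_smul, inv_mul_cancel₀ hc, one_smul]
      fin_cases i
      · show app D (eb F 0) = _
        rw [hD, map_mul, LinearEquiv.mul_apply, hd0, map_smul, hinv 0 _ ha0 (hd0 ab), smul_smul]
        simp [hl, div_eq_mul_inv]
      · show app D (eb F 1) = _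
        rw [hD, map_mul, LinearEquiv.mul_apply, hd1, map_smul, hinv 1 _ hb0 (hd1 ab), smul_smul]
        simp [hl, div_eq_mul_inv]
      · show app D (eb F 2) = _
        rw [hD, map_mul, LinearEquiv.mul_apply, hd2, map_smul,
          hinv 2 _ (inv_ne_zero (mul_ne_zero ha0 hb0)) (hd2 ab), smul_smul]
        simp [hl, div_eq_mul_inv, mul_comm]
    have heq : ∀ i, (∀ j, j ≠ i → l j ≠ l i) → False := by
      intro i hne
      refine hfp (eb F i) (app T (eb F i) i) (by simp) ?_
      funext j
      have e1 : app D (app T (eb F i)) j = app T (app D (eb F i)) j := by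
        rw [← LinearEquiv.mul_apply, ← LinearEquiv.mul_apply, ← map_mul, ← map_mul, hcomm]
      rcases eq_or_ne j i with rfl | hj
      · simp
      · have e2 : app D (app T (eb F i)) j = l j * app T (eb F i) j := by
          conv_lhs => rw [expand_eb S.hF (app T (eb F i))]
          simp only [map_add, map_smul, hDe]
          fin_cases j <;> simp [mul_comm]
        rw [e2, hDe, map_smul, Pi.smul_apply, smul_eq_mul] at e1
        have : app T (eb F i) j = 0 := by
          by_contra h0
          exact hne j hj (mul_right_cancel₀ h0 e1)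
        rw [this]; simp [hj]
    have h01 : l 1 = l 0 := by
      by_contra hne
      by_cases h02 : l 2 = l 0
      · exact heq 1 fun j hj e' => by
          fin_cases j
          · exact hne e'.symm
          · exact hj rfl
          · exact hne (e'.symm.trans h02)
      · exact heq 0 fun j hj e' => by
          fin_cases j
          · exact hj rfl
          · exact hne e'
          · exact h02 e'
    have h02 : l 2 = l 0 := by
      by_contra hne
      exact heq 2 fun j hj e' => by
        fin_cases j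
        · exact hne e'.symm
        · exact hne (e'.symm.trans h01)
        · exact hj rfl
    have h01' : cd.1.2 / ab.1.2 = cd.1.1 / ab.1.1 := by simpa [hl] using h01
    have h02' : ab.1.1 * ab.1.2 / (cd.1.1 * cd.1.2) = cd.1.1 / ab.1.1 := by simpa [hl] using h02
    refine ⟨?_, h01'⟩
    calc (cd.1.1 / ab.1.1) ^ 3
        = (cd.1.1 / ab.1.1) * (cd.1.2 / ab.1.2) * (ab.1.1 * ab.1.2 / (cd.1.1 * cd.1.2)) := by
          rw [h01', h02']; ring
      _ = 1 := by field_simp
  have hfib : ∀ x ∈ pw, ((Finset.univ : Finset {x // x ∈ μ ×ˢ μ}).filter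
      fun ab => d ab * T * (d ab)⁻¹ = x).card ≤ 3 := by
    intro x hx
    rcases ((Finset.univ : Finset {x // x ∈ μ ×ˢ μ}).filter
      fun ab => d ab * T * (d ab)⁻¹ = x).eq_empty_or_nonempty with he | ⟨ab, hab⟩
    · rw [he, Finset.card_empty]; exact Nat.zero_le _
    have ha0 : ab.1.1 ≠ 0 := fun e' => by
      have := (hmemμ _).1 (Finset.mem_product.1 ab.2).1; simp [e'] at this
    have hb0 : ab.1.2 ≠ 0 := fun e' => by
      have := (hmemμ _).1 (Finset.mem_product.1 ab.2).2; simp [e'] at this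
    have hroot : (Finset.univ.filter fun x : F => x ^ 3 = 1).card = 3 := by
      rw [← Fintype.card_subtype, ← Nat.card_eq_fintype_card, card_root S.hF (by norm_num) (by norm_num)]
    refine le_of_le_of_eq (Finset.card_le_card_of_injOn (fun cd => cd.1.1 / ab.1.1) ?_ ?_) hroot
    · intro cd hcd
      simp only [Finset.mem_coe, Finset.mem_filter, Finset.mem_univ, true_and] at hab hcd ⊢
      exact (hcomm ab cd (hab.trans hcd.symm)).1
    · intro cd hcd cd' hcd' e
      simp only [Finset.mem_coe, Finset.mem_filter, Finset.mem_univ, true_and] at hab hcd hcd'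
      have e2 : cd.1.2 / ab.1.2 = cd'.1.2 / ab.1.2 := by
        rw [(hcomm ab cd (hab.trans hcd.symm)).2, (hcomm ab cd' (hab.trans hcd'.symm)).2]
        exact e
      exact Subtype.ext (Prod.ext ((div_left_inj' ha0).1 e) ((div_left_inj' hb0).1 e2))
  have h81 := Finset.card_le_mul_card_image_of_maps_to (s := (Finset.univ : Finset {x // x ∈ μ ×ˢ μ}))
    (t := pw) (f := fun ab => d ab * T * (d ab)⁻¹) (fun ab _ => himg ab) 3 hfib
  have hpw : pw.card ≤ 18 := Finset.card_image_le.trans (by simp)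
  rw [Finset.card_univ, Fintype.card_coe, Finset.card_product, hμc] at h81
  omega

theorem eight : ∀ v ∈ orb M (eb F 0), ∃ (i : Fin 3) (r : F), v = r • eb F i := by
  classical
  obtain ⟨k, hk, hk0⟩ := S.card_Om
  rw [show mOrd 8 = 3 from rfl] at hk
  by_cases hkz : k = 0
  · exact hk0 hkz
  exfalso
  have hd := S.card_dvd
  have hcard := S.card_group
  rw [hk] at hcard
  rw [hcard] at hd
  have h1 : Nat.card {v : V // hh v v = 1} = 32832 := by
    have : normCount 3 8 (1 : F) = 32832 := by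
      rw [normOne_count S.hF, if_neg (by decide)]; norm_num
    exact this
  have hsub : (orb M (eb F 0)).ncard ≤ 32832 := by
    rw [← h1, ← Nat.card_coe_set_eq]
    exact Nat.card_le_card_of_injective (fun v => (⟨v.1, S.Om_norm v.2⟩ : {v : V // hh v v = 1}))
      fun a b e => Subtype.ext (congrArg (fun x : {v : V // hh v v = 1} => x.1) e)
  have hkb : k < 136 := by rw [hk] at hsub; omega
  have key : ∀ k : Fin 136, (k : ℕ) ≠ 0 →
      (3 + (k : ℕ) * ((8 + 1) * 3)) * (8 + 1) * (2 * (8 + 1)) ∣ 8 ^ 3 * (8 ^ 2 - 1) * (8 ^ 3 + 1) →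
      (k : ℕ) = 2 ∨ (k : ℕ) = 3 ∨ (k : ℕ) = 7 ∨ (k : ℕ) = 59 ∨ (k : ℕ) = 135 := by decide +kernel
  have h84 : ∀ r : Fin 514, (r : ℕ) ∣ 13608 → (r : ℕ) % 8 = 1 → 7 ∣ (r : ℕ) → False := by
    decide +kernel
  have h1596 : ∀ r : Fin 514, (r : ℕ) ∣ 258552 → (r : ℕ) % 8 = 1 → 7 ∣ (r : ℕ) → False := by
    decide +kernel
  have h192 : ∀ r : Fin 514, (r : ℕ) ∣ 31104 → (r : ℕ) % 128 = 1 → (r : ℕ) = 1 := by decide +kernel
  have hcase := key ⟨k, hkb⟩ hkz hd
  simp only at hcase
  rcases hcase with rfl | rfl | rfl | rfl | rfl <;> simp only [Nat.reduceMul, Nat.reduceAdd] at hcard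
  · exact S.not_nineteen hcard
  · obtain ⟨r, hrd, hr, -, ⟨c, hc⟩, h7⟩ := S.sylow_data (e := 3) (by rw [hcard]; norm_num) (by norm_num)
    exact h84 ⟨r, by omega⟩ (hcard ▸ hrd) (show r % 8 = 1 by omega) (h7 (by rw [hcard]; norm_num))
  · obtain ⟨r, hrd, hr, hr1, ⟨c, hc⟩, -⟩ := S.sylow_data (e := 7) (by rw [hcard]; norm_num) (by norm_num)
    exact hr1 (h192 ⟨r, by omega⟩ (hcard ▸ hrd) (show r % 128 = 1 by omega))
  · obtain ⟨r, hrd, hr, -, ⟨c, hc⟩, h7⟩ := S.sylow_data (e := 3) (by rw [hcard]; norm_num) (by norm_num)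
    exact h1596 ⟨r, by omega⟩ (hcard ▸ hrd) (show r % 8 = 1 by omega) (h7 (by rw [hcard]; norm_num))
  · refine S.not_full fun v hv => ?_
    have hbij : Function.Bijective
        (fun v : orb M (eb F 0) => (⟨v.1, S.Om_norm v.2⟩ : {v : V // hh v v = 1})) := by
      refine Function.Injective.bijective_of_nat_card_le
        (fun a b e => Subtype.ext (congrArg (fun x : {v : V // hh v v = 1} => x.1) e)) ?_
      rw [h1, Nat.card_coe_set_eq, hk]
    obtain ⟨u, hu⟩ := hbij.2 ⟨v, hv⟩
    have hu' : u.1 = v := congrArg Subtype.val hu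
    exact hu' ▸ u.2

end MSetup

end Cfsg.Agent.SU3Max
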