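import Cfsg.Agent.Lib.SU3Max.OrthLine
import Cfsg.Agent.Lib.SL3Max.OrthSums
import Cfsg.Agent.Lib.C5.Transfer
import Cfsg.Agent.Lib.C5.Engine

/-!
# The orthogonal group is maximal in `SU₃(q)`

Main results:
* `orth_maximal` : clause 6
-/

set_option autoImplicit false
set_option linter.unusedSectionVars false

namespace Cfsg.Agent.SU3Max

open Matrix Cfsg.Agent.Transvect Cfsg.Agent.Unitary Cfsg.Agent.C5.Uni
open scoped MatrixGroups

variable {F : Type*} [Field F] [Fintype F] {q : ℕ}

local notation "V" => (Fin 3 → F)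
local notation "hh" => Cfsg.hermForm 3 F q

variable (hF : Fintype.card F = q ^ 2)
include hF

/-- A subfield of index two is the real field. -/
lemma mem_real {F₀ : Subfield F} (hcard : Fintype.card F = Nat.card F₀ ^ 2) (x : F) :
    x ∈ F₀ ↔ x ^ q = x := by
  classical
  have hc : Nat.card F₀ = q := by
    rw [hF] at hcard
    exact (Nat.pow_left_injective two_ne_zero hcard).symm
  haveI : Fintype F₀ := Fintype.ofFinite _
  have hsub : (F₀ : Set F) ⊆ {x : F | x ^ q = x} := fun y hy => by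
    have h := FiniteField.pow_card (⟨y, hy⟩ : F₀)
    rw [← Nat.card_eq_fintype_card, hc] at h
    exact congrArg Subtype.val h
  have heq : (F₀ : Set F) = {x : F | x ^ q = x} := by
    refine Set.eq_of_subset_of_ncard_le hsub ?_ (Set.toFinite _)
    rw [← Nat.card_coe_set_eq, ← Nat.card_coe_set_eq]
    exact le_of_eq ((card_fixed hF).trans hc.symm)
  exact Set.ext_iff.1 heq x

/-- A rational frame. -/
lemma exists_rat_frame (hodd : (2 : F) ≠ 0) {F₀ : Subfield F}
    (hcard : Fintype.card F = Nat.card F₀ ^ 2) {P : GL (Fin 3) F}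
    (hP : Cfsg.Geo.IsFormRationalStructure hh F₀ 1 P) :
    ∃ e f z : V, Frame q e f z ∧ ∀ x : V, RL q e f z x ↔ C5.Rat F₀ (app P⁻¹ x) := by
  classical
  have H := hermForm_isHerm hF 3
  haveI : Fintype F₀ := Fintype.ofFinite _
  have hq2 : 2 ≤ Fintype.card F₀ := Fintype.one_lt_card
  have hform : ∀ x y : V, C5.Rat F₀ (app P⁻¹ x) → C5.Rat F₀ (app P⁻¹ y) → hh x y ∈ F₀ := by
    intro x y hx hy
    have := hP _ _ hx hy
    rwa [one_mul, ← app_apply, ← app_apply, app_app_inv, app_app_inv] at this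
  let b : Fin 3 → V := fun i => app P (Pi.single i 1)
  have hb : ∀ i, C5.Rat F₀ (app P⁻¹ (b i)) := fun i => by
    rw [app_inv_app]; exact C5.rat_single i
  let C : Fin 3 → Fin 3 → F₀ := fun i j => ⟨hh (b i) (b j), hform _ _ (hb i) (hb j)⟩
  -- an isotropic rational vector
  obtain ⟨e, he0, her, hee⟩ : ∃ e : V, e ≠ 0 ∧ C5.Rat F₀ (app P⁻¹ e) ∧ hh e e = 0 := by
    have hQ : ∀ u : Fin 3 → F₀, ((∑ i, ∑ j, C i j * (u i * u j) : F₀) : F) =
        hh (∑ i, (u i : F) • b i) (∑ i, (u i : F) • b i) := fun u => by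
      have hu : ∀ i, ((u i : F)) ^ q = u i := fun i => (mem_real hF hcard _).1 (u i).2
      simp only [Fin.sum_univ_three]
      push_cast
      simp only [H.add_left, H.add_right hF, H.smul_left, H.smul_right, hu, C]
      ring
    by_contra! hno
    have hsum := SL3Max.sum_quad_pow C (k := Fintype.card F₀ - 1) (by omega)
    have hterm : ∀ u : Fin 3 → F₀, u ≠ 0 → (∑ i, ∑ j, C i j * (u i * u j)) ^ (Fintype.card F₀ - 1) = 1 := by
      intro u hu
      refine FiniteField.pow_card_sub_one_eq_one _ fun h => ?_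
      set x := ∑ i, (u i : F) • b i
      have hx : app P⁻¹ x = fun i => (u i : F) := by
        simp only [x, map_sum, map_smul, b, app_inv_app]
        funext i
        simp [Finset.sum_apply, Pi.single_apply]
      refine hno x (fun h0 => hu (funext fun i => ?_)) (fun i => by rw [hx]; exact (u i).2) ?_
      · have := congrFun hx i
        rw [h0, map_zero] at this
        exact Subtype.ext this.symm
      · rw [← hQ, h]; rfl
    rw [← Finset.add_sum_erase _ _ (Finset.mem_univ (0 : Fin 3 → F₀))] at hsum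
    rw [Finset.sum_congr rfl fun u hu => hterm u (Finset.ne_of_mem_erase hu)] at hsum
    have h0 : (∑ i, ∑ j, C i j * ((0 : Fin 3 → F₀) i * (0 : Fin 3 → F₀) j)) ^ (Fintype.card F₀ - 1) = 0 := by
      simp; omega
    rw [h0, zero_add, Finset.sum_const, Finset.card_erase_of_mem (Finset.mem_univ _), Finset.card_univ,
      Fintype.card_fun, Fintype.card_fin, nsmul_one,
      Nat.cast_sub (Nat.one_le_pow _ _ Fintype.card_pos), Nat.cast_pow, FiniteField.cast_card_eq_zero,
      Nat.cast_one, zero_pow (by norm_num), zero_sub, neg_eq_zero] at hsum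
    exact one_ne_zero hsum
  -- its partner
  obtain ⟨x, hxr, hex⟩ : ∃ x : V, C5.Rat F₀ (app P⁻¹ x) ∧ hh e x ≠ 0 := by
    by_contra! h
    refine he0 (hermForm_nondeg hF 3 e fun y => ?_)
    rw [← app_app_inv P y, pi_eq_sum_univ' (app P⁻¹ y), map_sum, H.sum_right hF]
    refine Finset.sum_eq_zero fun i _ => ?_
    rw [map_smul, H.smul_right, h _ (hb i), mul_zero]
  have hmul : ∀ {c : F} {v : V}, c ∈ F₀ → C5.Rat F₀ (app P⁻¹ v) → C5.Rat F₀ (app P⁻¹ (c • v)) :=
    fun hc hv => by rw [map_smul]; exact hv.smul hc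
  have hadd : ∀ {v w : V}, C5.Rat F₀ (app P⁻¹ v) → C5.Rat F₀ (app P⁻¹ w) →
      C5.Rat F₀ (app P⁻¹ (v + w)) := fun hv hw => by rw [map_add]; exact hv.add hw
  have hsub : ∀ {v w : V}, C5.Rat F₀ (app P⁻¹ v) → C5.Rat F₀ (app P⁻¹ w) →
      C5.Rat F₀ (app P⁻¹ (v - w)) := fun hv hw => by rw [map_sub]; exact hv.sub hw
  have hfix : ∀ {v w : V}, C5.Rat F₀ (app P⁻¹ v) → C5.Rat F₀ (app P⁻¹ w) → (hh v w) ^ q = hh v w :=
    fun hv hw => (mem_real hF hcard _).1 (hform _ _ hv hw)
  set x' := (hh e x)⁻¹ • x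
  have hx'r : C5.Rat F₀ (app P⁻¹ x') := hmul (F₀.inv_mem (hform _ _ her hxr)) hxr
  have hex' : hh e x' = 1 := by
    rw [H.smul_right, inv_pow, hfix her hxr, inv_mul_cancel₀ hex]
  have h2F : (2 : F) ∈ F₀ := by exact_mod_cast natCast_mem F₀ 2
  set f := x' - (hh x' x' / 2) • e
  have hfr' : C5.Rat F₀ (app P⁻¹ f) :=
    hsub hx'r (hmul (F₀.div_mem (hform _ _ hx'r hx'r) h2F) her)
  have hef : hh e f = 1 := by
    simp [f, H.sub_right hF, H.smul_right, hee, hex']
  have hff : hh f f = 0 := by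
    have h2q : (2 : F) ^ q = 2 := (mem_real hF hcard _).1 h2F
    have hx'e : hh x' e = 1 := by rw [H.conj_symm e x', hex', one_pow]
    simp [f, H.sub_left, H.sub_right hF, H.smul_left, H.smul_right, hee, hex', hx'e, div_pow,
      hfix hx'r hx'r, h2q]
    field_simp
    ring
  have hfe : f ∉ F ∙ e := fun h => by
    obtain ⟨c, hc⟩ := Submodule.mem_span_singleton.1 h
    rw [← hc, H.smul_right, hee, mul_zero] at hef
    exact zero_ne_one hef
  obtain ⟨c, z', hc0, hfr0⟩ := exists_frame hF he0 hee hff hfe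
  have hc1 : c = 1 := by
    have := hfr0.ef
    rw [H.smul_right, hef, mul_one] at this
    rw [← pow_q_pow_q hF c, this, one_pow]
  rw [hc1, one_smul] at hfr0
  -- a rational pole
  obtain ⟨i, hi⟩ : ∃ i, b i - hh (b i) f • e - hh (b i) e • f ≠ 0 := by
    by_contra! h
    refine hfr0.z_ne hF ?_
    have hz : ∀ i, hh (b i) z' = 0 := fun i => by
      rw [show b i = hh (b i) f • e + hh (b i) e • f by
        have := h i; rw [sub_sub, sub_eq_zero] at this; exact this]
      simp [H.add_left, H.smul_left, hfr0.ez, hfr0.fz]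
    refine hermForm_nondeg hF 3 z' fun y => (H.eq_zero_symm hF).1 ?_
    rw [← app_app_inv P y, pi_eq_sum_univ' (app P⁻¹ y), map_sum, H.sum_left]
    refine Finset.sum_eq_zero fun i _ => ?_
    rw [map_smul, H.smul_left, hz i, mul_zero]
  set z := b i - hh (b i) f • e - hh (b i) e • f
  have hzr : C5.Rat F₀ (app P⁻¹ z) :=
    hsub (hsub (hb i) (hmul (hform _ _ (hb i) hfr') her)) (hmul (hform _ _ (hb i) her) hfr')
  have hze : hh z e = 0 := by simp [z, H.sub_left, H.smul_left, hee, hfr0.fe hF]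
  have hzf : hh z f = 0 := by simp [z, H.sub_left, H.smul_left, hff, hef]
  obtain ⟨d, hd⟩ := Submodule.mem_span_singleton.1 (hfr0.mem_pole hF hze hzf)
  have hd0 : d ≠ 0 := fun h => hi (by rw [← hd, h, zero_smul])
  have hfr : Frame q e f z :=
    ⟨hee, hff, hef, (H.eq_zero_symm hF).1 hze, (H.eq_zero_symm hF).1 hzf, by
      rw [← hd, H.smul_left, H.smul_right]
      exact mul_ne_zero hd0 (mul_ne_zero (pow_ne_zero _ hd0) hfr0.zz)⟩
  refine ⟨e, f, z, hfr, fun y => ⟨fun hy => ?_, fun hy =>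
    ⟨hfix hy her, hfix hy hfr', hfix hy hzr⟩⟩⟩
  rw [hfr.expand hF y]
  exact hadd (hadd (hmul ((mem_real hF hcard _).2 hy.2.1) her) (hmul ((mem_real hF hcard _).2 hy.1) hfr'))
    (hmul (F₀.div_mem ((mem_real hF hcard _).2 hy.2.2) (hform _ _ hzr hzr)) hzr)

/-- Clause 6: the orthogonal group is maximal. -/
theorem orth_maximal (hodd : Odd q) (h7 : 7 ≤ q) (F₀ : Subfield F) (P : GL (Fin 3) F)
    (hcard : Fintype.card F = Nat.card F₀ ^ 2) (hP : Cfsg.Geo.IsFormRationalStructure hh F₀ 1 P) :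
    Cfsg.Geo.IsMaximalIn (suGL 3 F q) (Cfsg.Geo.subfieldSubgroup F₀ P ⊓ suGL 3 F q) := by
  classical
  have h2 : (2 : F) ≠ 0 := by
    intro h
    obtain ⟨p, n, hp, hc, hqp, hn⟩ := exists_char hF
    have hp2 : p = 2 := (Nat.prime_dvd_prime_iff_eq hp Nat.prime_two).1
      ((CharP.cast_eq_zero_iff F p 2).1 (by exact_mod_cast h))
    subst hp2
    exact (Nat.not_even_iff_odd.2 hodd) (even_iff_two_dvd.2 (hqp ▸ dvd_pow_self 2 hn))
  obtain ⟨e, f, z, hfr, hRL⟩ := exists_rat_frame hF h2 hcard hP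
  have hmem : ∀ g : GL (Fin 3) F, g ∈ Cfsg.Geo.subfieldSubgroup F₀ P ↔ Good q e f z g := by
    intro g
    have h0 : g ∈ Cfsg.Geo.subfieldSubgroup F₀ P ↔
        P⁻¹ * g * P ∈ Cfsg.Geo.subfieldSubgroup F₀ 1 := by
      rw [C5.subfieldSubgroup_eq_map]
      constructor
      · rintro ⟨x, hx, rfl⟩
        rwa [show P⁻¹ * (MulAut.conj P).toMonoidHom x * P = x by simp [mul_assoc]]
      · intro h
        exact ⟨_, h, by simp [mul_assoc]⟩
    rw [h0, C5.ratLine_mem_iff]
    constructor
    · rintro ⟨l, hl, h⟩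
      refine ⟨l⁻¹, inv_ne_zero hl, fun x hx => (hRL _).2 ?_⟩
      have := h _ ((hRL x).1 hx)
      rwa [map_mul, map_mul, LinearEquiv.mul_apply, LinearEquiv.mul_apply, app_app_inv,
        ← map_smul] at this
    · rintro ⟨c, hc, h⟩
      refine ⟨c⁻¹, inv_ne_zero hc, fun u hu => ?_⟩
      have := (hRL _).1 (h (app P u) ((hRL _).2 (by rwa [app_inv_app])))
      rw [map_smul] at this
      rwa [inv_inv, map_mul, map_mul, LinearEquiv.mul_apply, LinearEquiv.mul_apply]
  refine Unitary.isMaximalIn_of_forall inf_le_right ?_ fun M hHM hMK g hg hgH => ?_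
  · by_contra hcon
    push Not at hcon
    refine Aschbacher.SU3.not_su3_le_subfieldSubgroup hF (by omega) ?_ P fun x hx => (hcon x hx).1
    intro h
    subst h
    rw [Nat.card_congr (Subfield.topEquiv (K := F)).toEquiv, Nat.card_eq_fintype_card, hF] at hcard
    have h49 : 49 ≤ q ^ 2 := Nat.pow_le_pow_left h7 2
    have hgt : q ^ 2 < (q ^ 2) ^ 2 := by nlinarith
    omega
  by_contra hns
  have hreal : ∀ g ∈ suGL 3 F q, (∀ x, RL q e f z x → RL q e f z (app g x)) → g ∈ M :=
    fun g hg h => hHM ⟨(hmem g).2 (Good.of_real hF h), hg⟩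
  by_cases hnc : ∃ v : V, v ≠ 0 ∧ v ∈ centres q M
  · obtain ⟨v, hv0, hv⟩ := hnc
    refine hns (le_of_centre hF (by omega) hMK ?_ hv0 hv)
    -- no fixed point
    intro x hx
    obtain ⟨re, rf, rz⟩ := rl_basis hF hfr
    have hmove : ∀ g ∈ suGL 3 F q, RL q e f z (app g e) → RL q e f z (app g f) →
        RL q e f z (app g z) → g ∈ M := fun g hg h1 h2 h3 =>
      hreal g hg fun y hy => rl_of_images hF hfr h1 h2 h3 hy
    obtain ⟨w, hw, hwe, hwf, hwz⟩ := exists_flip hF hfr
    have hwM : w ∈ M := hmove w hw (by rwa [hwe]) (by rwa [hwf])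
      (by rw [hwz]; exact rz.smul hF (by rw [neg_pow_q hF, one_pow]))
    have H := hermForm_isHerm hF 3
    have hζ := H.self_fixed z
    have hzz := hfr.zz
    set δ := -1 / hh z z with hδdef
    set γ := -1 / (2 * hh z z) with hγdef
    have h2q : (2 : F) ^ q = 2 := by
      rw [show (2 : F) = 1 + 1 by norm_num, add_pow_q hF, one_pow]
    have hδ : δ ^ q = δ := by rw [hδdef, div_pow, neg_pow_q hF, one_pow, hζ]
    have hγ : γ ^ q = γ := by rw [hγdef, div_pow, neg_pow_q hF, one_pow, mul_pow, h2q, hζ]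
    obtain ⟨s, hs, hse, hsf, hsz⟩ := exists_sh3 hF hfr (β := 1) (δ := δ) (γ := γ)
      (by rw [one_pow, hδdef]; field_simp; ring)
      (by rw [hγ, pow_succ, hδ, hδdef, hγdef]; field_simp; ring)
    have hsM : s ∈ M := hmove s hs (by rwa [hse])
      (by rw [hsf]; exact (rf.add hF (re.smul hF hγ)).add hF (rz.smul hF hδ))
      (by rw [hsz]; exact rz.add hF (re.smul hF (one_pow q)))
    -- the only point fixed by `s` is `e`
    by_contra! hfixall
    obtain ⟨c, hc⟩ := Submodule.mem_span_singleton.1 (hfixall s hsM)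
    have hexp := hfr.expand hF x
    set A := hh x f
    set B := hh x e
    set Cz := hh x z / hh z z
    rw [hexp, map_add, map_add, map_smul, map_smul, map_smul, hse, hsf, hsz] at hc
    have c0 := congrArg (fun y => hh y f) hc
    have c1 := congrArg (fun y => hh y e) hc
    have c2 := congrArg (fun y => hh y z) hc
    simp [H.add_left, H.smul_left, hfr.ee, hfr.ef, hfr.ez, hfr.fe hF, hfr.ff, hfr.fz, hfr.ze hF,
      hfr.zf hF] at c0 c1 c2
    have hBC : B = 0 ∧ Cz = 0 := by
      by_cases hB : B = 0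
      · refine ⟨hB, ?_⟩
        by_contra hCz
        rw [hB] at c2 c0
        have hc1' : c = 1 := mul_right_cancel₀ (mul_ne_zero hCz hzz) (by linear_combination c2)
        rw [hc1'] at c0
        exact hCz (by linear_combination -c0)
      · exfalso
        have hc1' : c = 1 := mul_right_cancel₀ hB (by linear_combination c1)
        rw [hc1'] at c2
        have : B * δ * hh z z = 0 := by linear_combination -c2
        rw [hδdef] at this
        field_simp at this
        exact hB (by linear_combination -this)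
    rw [hBC.1, hBC.2, zero_smul, zero_smul, add_zero, add_zero] at hexp
    have hA : A ≠ 0 := fun h => hx (by rw [hexp, h, zero_smul])
    obtain ⟨c', hc'⟩ := Submodule.mem_span_singleton.1 (hfixall w hwM)
    rw [hexp, map_smul, hwe] at hc'
    have := congrArg (fun y => hh y e) hc'
    simp [H.smul_left, hfr.ee, hfr.fe hF] at this
    exact hA this.symm
  · push Not at hnc
    have S : OSetup q e f z M :=
      { hF := hF
        two := h2
        hq := h7
        fr := hfr
        hMK := hMK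
        real := hreal
        scal := fun g hg ⟨c, hc⟩ => hHM ⟨(hmem g).2 (by
          have hc0 : c ≠ 0 := fun h => hfr.e_ne hF ((app g).map_eq_zero_iff.1 (by rw [hc, h, zero_smul]))
          exact ⟨c⁻¹, inv_ne_zero hc0, fun x hx => by
            rwa [hc, smul_smul, inv_mul_cancel₀ hc0, one_smul]⟩), hg⟩
        nc := hnc }
    exact hgH ⟨(hmem g).2 (S.all_good hg), hMK hg⟩

end Cfsg.Agent.SU3Max
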