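import Cfsg.Agent.Lib.SU3Max.Basic

/-!
# Two homologies on a tangent line, and small criteria for a centre

Main results:
* `Hom`, `Shift`, `shift_of_homs`, `shift_conj`, `centre_of_shifts`
* `span_powers`, `gen_of_dvd` : a root of unity of large order spans the field
* `centre_of_scale` : one transvection and enough scalings
* `exists_axis_point`, `centre_of_card` : a `p`-group of order `q` fixing an anisotropic point
-/

set_option autoImplicit false
set_option linter.unusedSectionVars false

namespace Cfsg.Agent.SU3Max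

open Matrix Cfsg.Agent.Transvect Cfsg.Agent.Unitary Cfsg.Agent.C5.Uni
open scoped MatrixGroups

variable {F : Type*} [Field F] [Fintype F] {q : ℕ}

local notation "V" => (Fin 3 → F)
local notation "hh" => Cfsg.hermForm 3 F q

/-- `g` is `a` on `z` and `b` on the polar of `z`. -/
def Hom (q : ℕ) (g : GL (Fin 3) F) (z : Fin 3 → F) (a b : F) : Prop :=
  app g z = a • z ∧ ∀ x, Cfsg.hermForm 3 F q x z = 0 → app g x = b • x

/-- `M` has an element fixing `e` and moving `z` by `α e`. -/
def Shift (M : Subgroup (GL (Fin 3) F)) (e z : Fin 3 → F) (α : F) : Prop :=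
  ∃ g ∈ M, app g e = e ∧ app g z = z + α • e

/-- The additive span of the powers of a generator is everything. -/
theorem span_powers {ρ : F} (hgen : ∀ E : Subfield F, ρ ∈ E → E = ⊤) (x : F) :
    x ∈ AddSubgroup.closure (Set.range fun i : ℕ => ρ ^ i) := by
  set A := AddSubgroup.closure (Set.range fun i : ℕ => ρ ^ i) with hA
  have h1 : (1 : F) ∈ A := AddSubgroup.subset_closure ⟨0, pow_zero ρ⟩
  have hmul : ∀ a ∈ A, ∀ b ∈ A, a * b ∈ A := by
    intro a ha b hb
    induction ha using AddSubgroup.closure_induction with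
    | mem a ha =>
      obtain ⟨i, rfl⟩ := ha
      induction hb using AddSubgroup.closure_induction with
      | mem b hb =>
        obtain ⟨j, rfl⟩ := hb
        exact AddSubgroup.subset_closure ⟨i + j, pow_add ρ i j⟩
      | zero => rw [mul_zero]; exact zero_mem _
      | add u v _ _ hu hv => rw [mul_add]; exact add_mem hu hv
      | neg u _ hu => rw [mul_neg]; exact neg_mem hu
    | zero => rw [zero_mul]; exact zero_mem _
    | add u v _ _ hu hv => rw [add_mul]; exact add_mem hu hv
    | neg u _ hu => rw [neg_mul]; exact neg_mem hu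
  have hpow : ∀ a ∈ A, ∀ n : ℕ, a ^ n ∈ A := by
    intro a ha n
    induction n with
    | zero => rwa [pow_zero]
    | succ n ih => rw [pow_succ]; exact hmul _ ih _ ha
  let E : Subfield F :=
    { carrier := A
      mul_mem' := fun {a b} ha hb => hmul a ha b hb
      one_mem' := h1
      add_mem' := A.add_mem
      zero_mem' := A.zero_mem
      neg_mem' := A.neg_mem
      inv_mem' := fun a ha => by
        rcases eq_or_ne a 0 with rfl | ha0
        · rw [_root_.inv_zero]; exact A.zero_mem
        · have h2 : 2 ≤ Fintype.card F := Fintype.one_lt_card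
          have : a⁻¹ = a ^ (Fintype.card F - 2) := by
            refine inv_eq_of_mul_eq_one_right ?_
            rw [← pow_succ', show Fintype.card F - 2 + 1 = Fintype.card F - 1 by omega,
              FiniteField.pow_card_sub_one_eq_one a ha0]
          exact this ▸ hpow a ha _ }
  have hE : E = ⊤ := hgen E (AddSubgroup.subset_closure ⟨1, pow_one ρ⟩)
  have hx : x ∈ E := hE ▸ Subfield.mem_top x
  exact hx

/-- An element is in a subfield only if its order divides the subfield's units. -/
theorem exists_card_of_mem {E : Subfield F} {ρ : F} (hρ : ρ ∈ E) (hρ0 : ρ ≠ 0) :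
    ∃ r k : ℕ, 2 ≤ r ∧ Fintype.card F = r ^ k ∧ orderOf ρ ∣ r - 1 ∧ (k ≤ 1 → E = ⊤) := by
  classical
  have : Fintype E := Fintype.ofFinite E
  refine ⟨Fintype.card E, Module.finrank E F, Fintype.one_lt_card, Module.card_eq_pow_finrank,
    orderOf_dvd_of_pow_eq_one ?_, fun hk => ?_⟩
  · have h := FiniteField.pow_card_sub_one_eq_one (⟨ρ, hρ⟩ : E) (fun h => hρ0 (congrArg Subtype.val h))
    exact congrArg Subtype.val h
  · have hk1 : Module.finrank E F = 1 :=
      le_antisymm hk Module.finrank_pos
    refine eq_top_iff.2 fun x _ => ?_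
    have := (finrank_eq_one_iff_of_nonzero' (1 : F) one_ne_zero).1 hk1 x
    obtain ⟨c, rfl⟩ := this
    rw [Subfield.smul_def, smul_eq_mul, mul_one]
    exact c.2

section

variable (hF : Fintype.card F = q ^ 2)
include hF

lemma tu_scale {M : Subgroup (GL (Fin 3) F)} (hMK : M ≤ suGL 3 F q) {e : V} (he : hh e e = 0)
    {c : F} (h : tu q e c ∈ M) {g : GL (Fin 3) F} (hg : g ∈ M) {a : F} (hga : app g e = a • e) :
    tu q e (c * a ^ (q + 1)) ∈ M := by
  have := mul_mem (mul_mem hg h) (inv_mem hg)
  rwa [tu_conj hF (hMK hg).1 he, hga, tu_smul hF he] at this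

lemma tu_nat {M : Subgroup (GL (Fin 3) F)} {e : V} (he : hh e e = 0) {c x : F} {ν : F}
    (h : ∀ i : ℕ, tu q e (c * ν ^ i) ∈ M)
    (hx : x ∈ AddSubgroup.closure (Set.range fun i : ℕ => ν ^ i)) : tu q e (c * x) ∈ M := by
  induction hx using AddSubgroup.closure_induction with
  | mem y hy => obtain ⟨i, rfl⟩ := hy; exact h i
  | zero => rw [mul_zero, tu_zero he]; exact one_mem M
  | add u v _ _ hu hv => rw [mul_add, ← tu_add hF he]; exact mul_mem hu hv
  | neg u _ hu =>
    rw [mul_neg, show tu q e (-(c * u)) = (tu q e (c * u))⁻¹ from eq_inv_of_mul_eq_one_left (by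
      rw [tu_add hF he, neg_add_cancel, tu_zero he])]
    exact inv_mem hu

/-- One transvection and scalings spanning the real field give a centre. -/
theorem centre_of_scale {M : Subgroup (GL (Fin 3) F)} (hMK : M ≤ suGL 3 F q) {e : V}
    (he : hh e e = 0) {c : F} (hc : c + c ^ q = 0) (hc0 : c ≠ 0) (h : tu q e c ∈ M)
    {g : GL (Fin 3) F} (hg : g ∈ M) {a : F} (hga : app g e = a • e)
    (hspan : ∀ x : F, x ^ q = x →
      x ∈ AddSubgroup.closure (Set.range fun i : ℕ => (a ^ (q + 1)) ^ i)) :
    e ∈ centres q M := by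
  have hall : ∀ i : ℕ, tu q e (c * (a ^ (q + 1)) ^ i) ∈ M := by
    intro i
    induction i with
    | zero => rwa [pow_zero, mul_one]
    | succ i ih =>
      have := tu_scale hF hMK he ih hg hga
      rwa [mul_assoc, ← pow_succ] at this
  refine (mem_centres_iff hF).2 ⟨he, fun d hd => ?_⟩
  have hfix : (d / c) ^ q = d / c := by
    rw [div_pow, eq_neg_of_add_eq_zero_right hd, eq_neg_of_add_eq_zero_right hc, neg_div_neg_eq]
  have := tu_nat hF he hall (hspan _ hfix)
  rwa [mul_div_cancel₀ _ hc0] at this

lemma shift_add {M : Subgroup (GL (Fin 3) F)} {e z : V} {α β : F} (h : Shift M e z α)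
    (h' : Shift M e z β) : Shift M e z (α + β) := by
  obtain ⟨g, hg, hge, hgz⟩ := h
  obtain ⟨g', hg', hge', hgz'⟩ := h'
  refine ⟨g * g', mul_mem hg hg', ?_, ?_⟩
  · rw [map_mul, LinearEquiv.mul_apply, hge', hge]
  · rw [map_mul, LinearEquiv.mul_apply, hgz', map_add, map_smul, hge, hgz, add_smul, add_assoc]

lemma shift_neg {M : Subgroup (GL (Fin 3) F)} {e z : V} {α : F} (h : Shift M e z α) :
    Shift M e z (-α) := by
  obtain ⟨g, hg, hge, hgz⟩ := h
  have he : app g⁻¹ e = e := by conv_lhs => rw [← hge, app_inv_app]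
  refine ⟨g⁻¹, inv_mem hg, he, ?_⟩
  have := congrArg (app g⁻¹) hgz
  rw [app_inv_app, map_add, map_smul, he] at this
  rw [neg_smul, ← sub_eq_add_neg, eq_sub_iff_add_eq]
  exact this.symm

/-- Conjugating a shift by a homology at `z`. -/
lemma shift_conj {M : Subgroup (GL (Fin 3) F)} {e z : V} (hez : hh e z = 0) {t : GL (Fin 3) F}
    (ht : t ∈ M) {a b : F} (ha : a ≠ 0) (hb : b ≠ 0) (hh' : Hom q t z a b) {α : F}
    (h : Shift M e z α) : Shift M e z (b / a * α) := by
  obtain ⟨g, hg, hge, hgz⟩ := h
  have hte : app t⁻¹ e = b⁻¹ • e := by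
    apply (app t).injective
    rw [app_app_inv, map_smul, hh'.2 e hez, smul_smul, inv_mul_cancel₀ hb, one_smul]
  have htz : app t⁻¹ z = a⁻¹ • z := by
    apply (app t).injective
    rw [app_app_inv, map_smul, hh'.1, smul_smul, inv_mul_cancel₀ ha, one_smul]
  refine ⟨t * g * t⁻¹, mul_mem (mul_mem ht hg) (inv_mem ht), ?_, ?_⟩
  · rw [map_mul, map_mul, LinearEquiv.mul_apply, LinearEquiv.mul_apply, hte, map_smul, hge,
      map_smul, hh'.2 e hez, smul_smul, inv_mul_cancel₀ hb, one_smul]
  · rw [map_mul, map_mul, LinearEquiv.mul_apply, LinearEquiv.mul_apply, htz, map_smul, hgz,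
      map_smul, map_add, map_smul, hh'.1, hh'.2 e hez, smul_add, smul_smul, inv_mul_cancel₀ ha,
      one_smul, smul_smul, smul_smul]
    congr 2
    field_simp

/-- Two homologies with centres on a tangent give a shift. -/
lemma shift_of_homs {M : Subgroup (GL (Fin 3) F)} {e z : V} (hee : hh e e = 0)
    (hez : hh e z = 0) {t t' : GL (Fin 3) F} (ht : t ∈ M) (ht' : t' ∈ M) {a b k : F} (ha : a ≠ 0)
    (hb : b ≠ 0) (h : Hom q t z a b) (h' : Hom q t' (z + k • e) a b) :
    Shift M e z ((1 - b / a) * k) := by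
  have H := hermForm_isHerm hF 3
  have he' : hh e (z + k • e) = 0 := by rw [H.add_right hF, H.smul_right, hez, hee]; ring
  have hte : app t⁻¹ e = b⁻¹ • e := by
    apply (app t).injective
    rw [app_app_inv, map_smul, h.2 e hez, smul_smul, inv_mul_cancel₀ hb, one_smul]
  have htz : app t⁻¹ z = a⁻¹ • z := by
    apply (app t).injective
    rw [app_app_inv, map_smul, h.1, smul_smul, inv_mul_cancel₀ ha, one_smul]
  refine ⟨t' * t⁻¹, mul_mem ht' (inv_mem ht), ?_, ?_⟩
  · rw [map_mul, LinearEquiv.mul_apply, hte, map_smul, h'.2 e he', smul_smul,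
      inv_mul_cancel₀ hb, one_smul]
  · rw [map_mul, LinearEquiv.mul_apply, htz, map_smul,
      show app t' z = app t' (z + k • e) - k • app t' e by rw [map_add, map_smul, add_sub_cancel_right],
      h'.1, h'.2 e he', smul_sub, smul_smul, smul_smul, smul_smul, inv_mul_cancel₀ ha, one_smul,
      sub_mul, one_mul, sub_smul]
    rw [show b / a * k = a⁻¹ * (k * b) by rw [div_eq_mul_inv]; ring]
    match_scalars <;> ring

/-- The commutator of two shifts is a transvection. -/
lemma tu_of_shifts {M : Subgroup (GL (Fin 3) F)} (hMK : M ≤ suGL 3 F q) {e f z : V}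
    (hfr : Frame q e f z) {α β : F} (h : Shift M e z α) (h' : Shift M e z β) :
    tu q e ((α ^ q * β - α * β ^ q) / hh z z) ∈ M := by
  have H := hermForm_isHerm hF 3
  obtain ⟨g, hg, hge, hgz⟩ := h
  obtain ⟨g', hg', hge', hgz'⟩ := h'
  have key : ∀ {k : GL (Fin 3) F} {γ : F}, k ∈ M → app k e = e → app k z = z + γ • e →
      app k f = f + hh (app k f) f • e + (-γ ^ q / hh z z) • z := by
    intro k γ hk hke hkz
    have h1 : hh (app k f) e = 1 := by
      rw [← hfr.fe hF]; conv_rhs => rw [← herm_app hF (hMK hk).1, hke]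
    have h2 : hh (app k f) z = -γ ^ q := by
      have h3 := herm_app hF (hMK hk).1 f z
      rw [hkz, hfr.fz, H.add_right hF, H.smul_right, h1, mul_one] at h3
      exact eq_neg_of_add_eq_zero_left h3
    conv_lhs => rw [hfr.expand hF (app k f), h1, h2]
    rw [one_smul]
    abel
  obtain ⟨d, hd⟩ : ∃ d, app g f = f + d • e + (-α ^ q / hh z z) • z := ⟨_, key hg hge hgz⟩
  obtain ⟨d', hd'⟩ : ∃ d', app g' f = f + d' • e + (-β ^ q / hh z z) • z :=
    ⟨_, key hg' hge' hgz'⟩
  suffices g * g' = tu q e ((α ^ q * β - α * β ^ q) / hh z z) * (g' * g) by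
    rw [← mul_inv_eq_iff_eq_mul] at this
    exact this ▸ mul_mem (mul_mem hg hg') (inv_mem (mul_mem hg' hg))
  refine hfr.gext hF ?_ ?_ ?_
  · simp only [map_mul, LinearEquiv.mul_apply, hge, hge', tu_apply hfr.ee, hfr.ee, mul_zero,
      zero_smul, add_zero]
  · simp only [map_mul, LinearEquiv.mul_apply, hd, hd', map_add, map_smul, hge, hge', hgz, hgz',
      tu_apply hfr.ee, H.add_left, H.smul_left, hfr.fe hF, hfr.ee, hfr.ze hF, mul_zero, mul_one,
      zero_smul, add_zero]
    match_scalars <;> ring
  · simp only [map_mul, LinearEquiv.mul_apply, map_add, map_smul, hgz, hgz', hge, hge',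
      tu_apply hfr.ee, H.add_left, H.smul_left, hfr.ze hF, hfr.ee, mul_zero, zero_smul, add_zero]
    abel

/-- All shifts give a centre. -/
theorem centre_of_shifts {M : Subgroup (GL (Fin 3) F)} (hMK : M ≤ suGL 3 F q) {e z : V}
    (he0 : e ≠ 0) (hee : hh e e = 0) (hez : hh e z = 0) (hzz : hh z z ≠ 0)
    (hall : ∀ α, Shift M e z α) : e ∈ centres q M := by
  obtain ⟨f, hfr⟩ := exists_frame_point hF he0 hee hzz hez
  refine (mem_centres_iff hF).2 ⟨hee, fun c hc => ?_⟩
  obtain ⟨t, ht⟩ := exists_trace_eq hF (one_pow q : (1 : F) ^ q = 1)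
  set s := c * hh z z with hs
  have hsq : s ^ q = -s := by
    rw [hs, mul_pow, (hermForm_isHerm hF 3).self_fixed, eq_neg_of_add_eq_zero_right hc, neg_mul]
  have h := tu_of_shifts hF hMK hfr (hall 1) (hall (s * t))
  convert h using 2
  rw [one_pow, one_mul, one_mul, mul_pow, hsq,
    show s * t - -s * t ^ q = s * (t + t ^ q) by ring, ht, mul_one, hs,
    mul_div_cancel_right₀ _ hzz]

/-- All multiples of one shift by the span of a generator. -/
theorem centre_of_rotations {M : Subgroup (GL (Fin 3) F)} (hMK : M ≤ suGL 3 F q) {e z : V}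
    (he0 : e ≠ 0) (hee : hh e e = 0) (hez : hh e z = 0) (hzz : hh z z ≠ 0)
    {t : GL (Fin 3) F} (ht : t ∈ M) {a b : F} (ha : a ≠ 0) (hb : b ≠ 0) (hh' : Hom q t z a b)
    (hgen : ∀ E : Subfield F, b / a ∈ E → E = ⊤) {α : F} (hα : α ≠ 0) (h : Shift M e z α) :
    e ∈ centres q M := by
  refine centre_of_shifts hF hMK he0 hee hez hzz fun β => ?_
  suffices ∀ x ∈ AddSubgroup.closure (Set.range fun i : ℕ => (b / a) ^ i), Shift M e z (x * α) by
    simpa [div_mul_cancel₀ _ hα] using this (β / α) (span_powers hgen _)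
  intro x hx
  induction hx using AddSubgroup.closure_induction with
  | mem y hy =>
    obtain ⟨i, rfl⟩ := hy
    induction i with
    | zero => simpa using h
    | succ i ih =>
      show Shift M e z ((b / a) ^ (i + 1) * α)
      rw [pow_succ', mul_assoc]
      exact shift_conj hF hez ht ha hb hh' ih
  | zero => exact ⟨1, one_mem M, by simp, by simp⟩
  | add u v _ _ hu hv => rw [add_mul]; exact shift_add hF hu hv
  | neg u _ hu => rw [neg_mul]; exact shift_neg hF hu

/-- A `p`-subgroup fixing an anisotropic point consists of root elements at one isotropic point. -/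
theorem exists_axis_point {M P : Subgroup (GL (Fin 3) F)} (hMK : M ≤ suGL 3 F q) (hPM : P ≤ M)
    {p : ℕ} [Fact p.Prime] [CharP F p] (hP : IsPGroup p P) (hne : P ≠ ⊥)
    {z : V} (hzz : hh z z ≠ 0) (hfix : ∀ g ∈ P, app g z ∈ F ∙ z) :
    ∃ w : V, w ≠ 0 ∧ hh w w = 0 ∧ hh w z = 0 ∧
      ∀ g ∈ P, ∃ c : F, c + c ^ q = 0 ∧ g = tu q w c := by
  classical
  have H := hermForm_isHerm hF 3
  have hz0 : z ≠ 0 := fun e => hzz (by rw [e, H.zero_left])
  have hgz : ∀ g ∈ P, app g z = z := by
    intro g hg
    obtain ⟨c, hc⟩ := Submodule.mem_span_singleton.1 (hfix g hg)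
    obtain ⟨k, hk⟩ := hP ⟨g, hg⟩
    have hk' : g ^ p ^ k = 1 := by simpa using congrArg Subtype.val hk
    have hpow : ∀ n : ℕ, app (g ^ n) z = c ^ n • z := by
      intro n
      induction n with
      | zero => simp
      | succ n ih => rw [pow_succ', map_mul, LinearEquiv.mul_apply, ih, map_smul, ← hc, smul_smul,
          pow_succ]
    have h1 := hpow (p ^ k)
    rw [hk', map_one] at h1
    have hc1 : c ^ p ^ k = 1 := by
      have : (1 : F) • z = c ^ p ^ k • z := by rw [one_smul]; exact h1
      exact (smul_left_injective F hz0 this).symm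
    haveI : ExpChar F p := ExpChar.prime Fact.out
    have : c = 1 := by
      have h2 : (c - 1) ^ p ^ k = 0 := by rw [sub_pow_expChar_pow, hc1, one_pow, sub_self]
      exact sub_eq_zero.1 (pow_eq_zero_iff'.1 h2).1
    rw [← hc, this, one_smul]
  -- a fixed vector on the polar line
  let W := {x : V // hh x z = 0}
  letI : MulAction P W :=
    { smul := fun g x => ⟨app (g : GL (Fin 3) F) x.1, by
        have h1 := herm_app hF (hMK (hPM g.2)).1 x.1 z
        rw [hgz _ g.2] at h1
        exact h1.trans x.2⟩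
      one_smul := fun x => Subtype.ext (by show app (1 : GL (Fin 3) F) x.1 = x.1; simp)
      mul_smul := fun g h x => Subtype.ext (by
        show app ((g : GL (Fin 3) F) * (h : GL (Fin 3) F)) x.1 = app (g : GL (Fin 3) F) (app (h : GL (Fin 3) F) x.1)
        rw [map_mul, LinearEquiv.mul_apply]) }
  have hWp : p ∣ Nat.card W := by
    have hW : Nat.card W = Nat.card (LinearMap.ker (hlin q z)) :=
      Nat.card_congr (Equiv.subtypeEquivRight fun x => by simp)
    rw [hW, Module.natCard_eq_pow_finrank (K := F), Nat.card_eq_fintype_card]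
    refine dvd_pow ?_ ?_
    · obtain ⟨n, hn, hcF⟩ := FiniteField.card F p
      rw [hcF]; exact dvd_pow_self p n.ne_zero
    · have hr := LinearMap.finrank_range_add_finrank_ker (hlin q z)
      have hle : Module.finrank F (LinearMap.range (hlin q z)) ≤ 1 :=
        (Submodule.finrank_le _).trans (by simp)
      simp at hr
      omega
  obtain ⟨⟨w, hw⟩, hwfix, hne'⟩ := hP.exists_fixed_point_of_prime_dvd_card_of_fixed_point W hWp
    (a := ⟨0, H.zero_left z⟩) (fun g => Subtype.ext (map_zero _))
  have hw0 : w ≠ 0 := fun e => hne' (Subtype.ext e.symm)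
  have hgw : ∀ g ∈ P, app g w = w := fun g hg => congrArg Subtype.val (hwfix ⟨g, hg⟩)
  by_cases hww : hh w w = 0
  · obtain ⟨f, hfr⟩ := exists_frame_point hF hw0 hww hzz hw
    exact ⟨w, hw0, hww, hw, fun g hg =>
      ⟨_, (hfr.eq_tu hF (hMK (hPM hg)).1 (hgw _ hg) (hgz _ hg)).2,
        (hfr.eq_tu hF (hMK (hPM hg)).1 (hgw _ hg) (hgz _ hg)).1⟩⟩
  · exfalso
    -- everything is fixed
    let φ : V →ₗ[F] (Fin 2 → F) := LinearMap.pi ![hlin q z, hlin q w]
    obtain ⟨u, hu, hu0⟩ := Submodule.exists_mem_ne_zero_of_ne_bot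
      (LinearMap.ker_ne_bot_of_finrank_lt (f := φ) (by simp))
    have huz : hh u z = 0 := by simpa [φ] using congrFun hu 0
    have huw : hh u w = 0 := by simpa [φ] using congrFun hu 1
    have hbot : ∀ g ∈ P, g = 1 := by
      intro g hg
      have hgU := (hMK (hPM hg)).1
      have hzero : ∀ y, hh y z = 0 → hh y w = 0 → hh y u = 0 → y = 0 := by
        intro y h1 h2 h3
        by_cases huu : hh u u = 0
        · exfalso
          obtain ⟨f, hfr⟩ := exists_frame_point hF hu0 huu hzz huz
          have e1 := congrArg (fun x => hh w x) (hfr.expand hF w)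
          simp only [H.add_right hF, H.smul_right, (H.eq_zero_symm hF).1 huw, hw, mul_zero,
            add_zero, zero_div, zero_pow_q hF, zero_mul, zero_add] at e1
          exact hww e1
        · refine hermForm_nondeg hF 3 y fun x => ?_
          have hli : LinearIndependent F ![z, w, u] := by
            rw [Fintype.linearIndependent_iff]
            intro c hc
            simp only [Fin.sum_univ_three, Matrix.cons_val_zero, Matrix.cons_val_one,
              Matrix.cons_val_two, Matrix.tail_cons, Matrix.head_cons] at hc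
            have e1 := congrArg (fun x => hh x z) hc
            have e2 := congrArg (fun x => hh x w) hc
            have e3 := congrArg (fun x => hh x u) hc
            simp [H.add_left, H.smul_left, H.zero_left, hw, huz, huw, hzz, hww, huu,
              (H.eq_zero_symm hF).1 hw, (H.eq_zero_symm hF).1 huz, (H.eq_zero_symm hF).1 huw]
              at e1 e2 e3
            intro i
            fin_cases i
            exacts [e1, e2, e3]
          have hx : x ∈ Submodule.span F (Set.range ![z, w, u]) := by
            rw [hli.span_eq_top_of_card_eq_finrank' (by simp)]; trivial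
          obtain ⟨c, rfl⟩ := (Submodule.mem_span_range_iff_exists_fun F).1 hx
          simp [Fin.sum_univ_three, H.add_right hF, H.smul_right, h1, h2, h3]
      obtain ⟨k, hk⟩ := hP ⟨g, hg⟩
      have hk' : g ^ p ^ k = 1 := by simpa using congrArg Subtype.val hk
      have huu : hh u u ≠ 0 := fun e => hu0 (hzero u huz huw e)
      have hgu : app g u ∈ F ∙ u := by
        refine Submodule.mem_span_singleton.2 ⟨hh (app g u) u / hh u u, sub_eq_zero.1
          (hzero _ ?_ ?_ ?_)⟩
        · rw [H.sub_left, H.smul_left, huz]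
          conv_lhs => arg 2; rw [← hgz g hg, herm_app hF hgU, huz]
          ring
        · rw [H.sub_left, H.smul_left, huw]
          conv_lhs => arg 2; rw [← hgw g hg, herm_app hF hgU, huw]
          ring
        · rw [H.sub_left, H.smul_left, div_mul_cancel₀ _ huu, sub_self]
      obtain ⟨c, hc⟩ := Submodule.mem_span_singleton.1 hgu
      have hpow : ∀ n : ℕ, app (g ^ n) u = c ^ n • u := by
        intro n
        induction n with
        | zero => simp
        | succ n ih => rw [pow_succ', map_mul, LinearEquiv.mul_apply, ih, map_smul, ← hc, smul_smul,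
            pow_succ]
      have h1 := hpow (p ^ k)
      rw [hk', map_one] at h1
      have hc1 : c ^ p ^ k = 1 :=
        (smul_left_injective F hu0 (show (1 : F) • u = c ^ p ^ k • u by rw [one_smul]; exact h1)).symm
      haveI : ExpChar F p := ExpChar.prime Fact.out
      have hc' : c = 1 := by
        have h2 : (c - 1) ^ p ^ k = 0 := by rw [sub_pow_expChar_pow, hc1, one_pow, sub_self]
        exact sub_eq_zero.1 (pow_eq_zero_iff'.1 h2).1
      refine gl_ext fun x => ?_
      rw [map_one]
      show app g x = x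
      refine sub_eq_zero.1 (hzero _ ?_ ?_ ?_)
      · rw [H.sub_left]; nth_rewrite 1 [← hgz g hg]; rw [herm_app hF hgU, sub_self]
      · rw [H.sub_left]; nth_rewrite 1 [← hgw g hg]; rw [herm_app hF hgU, sub_self]
      · rw [H.sub_left]
        nth_rewrite 1 [show u = app g u by rw [← hc, hc', one_smul]]
        rw [herm_app hF hgU, sub_self]
    exact hne ((Subgroup.eq_bot_iff_forall P).2 hbot)

/-- A `p`-subgroup of order at least `q` fixing an anisotropic point contains a root group. -/
theorem centre_of_card {M P : Subgroup (GL (Fin 3) F)} (hMK : M ≤ suGL 3 F q) (hPM : P ≤ M)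
    {p : ℕ} [Fact p.Prime] [CharP F p] (hP : IsPGroup p P) (hcard : q ≤ Nat.card P) (hq : 2 ≤ q)
    {z : V} (hzz : hh z z ≠ 0) (hfix : ∀ g ∈ P, app g z ∈ F ∙ z) :
    ∃ v : V, v ≠ 0 ∧ v ∈ centres q M := by
  obtain ⟨w, hw0, hww, -, hall⟩ := exists_axis_point hF hMK hPM hP
    (fun e => by rw [e, Subgroup.card_bot] at hcard; omega) hzz hfix
  choose φ hφ hφg using fun g : P => hall g g.2
  have hinj : Function.Injective fun g : P => (⟨φ g, hφ g⟩ : {c : F // c + c ^ q = 0}) :=
    fun g g' h => Subtype.ext (by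
      rw [hφg g, hφg g', show φ g = φ g' from congrArg Subtype.val h])
  have hsurj := hinj.bijective_of_nat_card_le (le_trans (le_of_eq (card_trace_zero hF)) hcard)
  refine ⟨w, hw0, (mem_centres_iff hF).2 ⟨hww, fun c hc => ?_⟩⟩
  obtain ⟨g, hg⟩ := hsurj.2 ⟨c, hc⟩
  have := hφg g
  rw [show φ g = c from congrArg Subtype.val hg] at this
  exact this ▸ hPM g.2

end

end Cfsg.Agent.SU3Max
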