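import Cfsg.Agent.Lib.SU3Max.Elts
import Cfsg.Agent.Lib.SU3Max.Tangent

/-!
# An overgroup of `SO₃(q)` in `SU₃(q)`: the stabiliser of a point of the conic

Main results:
* `RL`, `Good` : real vectors, elements of the orthogonal group times scalars
* `OSetup.fix_e` : what fixes a conic point is good
-/

set_option autoImplicit false
set_option linter.unusedSectionVars false

namespace Cfsg.Agent.SU3Max

open Matrix Cfsg.Agent.Transvect Cfsg.Agent.Unitary Cfsg.Agent.C5.Uni
open scoped MatrixGroups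

variable {F : Type*} [Field F] [Fintype F] {q : ℕ}

local notation "V" => (Fin 3 → F)
local notation "hh" => Cfsg.hermForm 3 F q

/-- Real coordinates on the frame. -/
def RL (q : ℕ) (e f z x : Fin 3 → F) : Prop :=
  (Cfsg.hermForm 3 F q x e) ^ q = Cfsg.hermForm 3 F q x e ∧
    (Cfsg.hermForm 3 F q x f) ^ q = Cfsg.hermForm 3 F q x f ∧
      (Cfsg.hermForm 3 F q x z) ^ q = Cfsg.hermForm 3 F q x z

/-- Up to a scalar the element preserves the real vectors. -/
def Good (q : ℕ) (e f z : Fin 3 → F) (g : GL (Fin 3) F) : Prop :=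
  ∃ c : F, c ≠ 0 ∧ ∀ x, RL q e f z x → RL q e f z (c • app g x)

/-- An overgroup of the orthogonal group without centres. -/
structure OSetup (q : ℕ) (e f z : Fin 3 → F) (M : Subgroup (GL (Fin 3) F)) : Prop where
  hF : Fintype.card F = q ^ 2
  two : (2 : F) ≠ 0
  hq : 7 ≤ q
  fr : Frame q e f z
  hMK : M ≤ suGL 3 F q
  real : ∀ g ∈ suGL 3 F q, (∀ x, RL q e f z x → RL q e f z (app g x)) → g ∈ M
  scal : ∀ g ∈ suGL 3 F q, (∃ c : F, ∀ x, app g x = c • x) → g ∈ M
  nc : ∀ v : Fin 3 → F, v ≠ 0 → v ∉ centres q M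

lemma finite_GL3 : Finite (GL (Fin 3) F) := by
  haveI : Finite (Matrix (Fin 3) (Fin 3) F) := inferInstanceAs (Finite (Fin 3 → Fin 3 → F))
  exact Finite.of_injective Units.val Units.val_injective

section

variable (hF : Fintype.card F = q ^ 2) {e f z : Fin 3 → F}
include hF

lemma RL.add {x y : V} (hx : RL q e f z x) (hy : RL q e f z y) : RL q e f z (x + y) := by
  have H := hermForm_isHerm hF 3
  refine ⟨?_, ?_, ?_⟩ <;> rw [H.add_left, add_pow_q hF]
  exacts [by rw [hx.1, hy.1], by rw [hx.2.1, hy.2.1], by rw [hx.2.2, hy.2.2]]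

lemma RL.smul {x : V} {r : F} (hr : r ^ q = r) (hx : RL q e f z x) : RL q e f z (r • x) := by
  have H := hermForm_isHerm hF 3
  refine ⟨?_, ?_, ?_⟩ <;> rw [H.smul_left, mul_pow, hr]
  exacts [by rw [hx.1], by rw [hx.2.1], by rw [hx.2.2]]

lemma rl_basis (h : Frame q e f z) : RL q e f z e ∧ RL q e f z f ∧ RL q e f z z := by
  have H := hermForm_isHerm hF 3
  refine ⟨⟨?_, ?_, ?_⟩, ⟨?_, ?_, ?_⟩, ⟨?_, ?_, ?_⟩⟩ <;>
    first
      | exact H.self_fixed z
      | simp [h.ee, h.ef, h.ez, h.fe hF, h.ff, h.fz, h.ze hF, h.zf hF, zero_pow_q hF]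

/-- Real images of the frame suffice. -/
lemma rl_of_images (h : Frame q e f z) {g : GL (Fin 3) F} (he : RL q e f z (app g e))
    (hf : RL q e f z (app g f)) (hz : RL q e f z (app g z)) {x : V} (hx : RL q e f z x) :
    RL q e f z (app g x) := by
  have H := hermForm_isHerm hF 3
  rw [h.expand hF x, map_add, map_add, map_smul, map_smul, map_smul]
  refine ((he.smul hF hx.2.1).add hF (hf.smul hF hx.1)).add hF (hz.smul hF ?_)
  rw [div_pow, hx.2.2, H.self_fixed z]

lemma Good.mul {g k : GL (Fin 3) F} (hg : Good q e f z g) (hk : Good q e f z k) :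
    Good q e f z (g * k) := by
  obtain ⟨c, hc, hgc⟩ := hg
  obtain ⟨d, hd, hkd⟩ := hk
  refine ⟨c * d, mul_ne_zero hc hd, fun x hx => ?_⟩
  have := hgc _ (hkd x hx)
  rwa [map_smul, smul_smul, ← LinearEquiv.mul_apply, ← map_mul] at this

lemma Good.of_real {g : GL (Fin 3) F} (h : ∀ x, RL q e f z x → RL q e f z (app g x)) :
    Good q e f z g := ⟨1, one_ne_zero, fun x hx => by rw [one_smul]; exact h x hx⟩

lemma Good.one : Good q e f z (1 : GL (Fin 3) F) :=
  Good.of_real hF fun x hx => by simpa using hx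

lemma Good.inv {g : GL (Fin 3) F} (hg : Good q e f z g) : Good q e f z g⁻¹ := by
  haveI : Finite (GL (Fin 3) F) := by
    haveI : Finite (Matrix (Fin 3) (Fin 3) F) := inferInstanceAs (Finite (Fin 3 → Fin 3 → F))
    exact Finite.of_injective Units.val Units.val_injective
  have hpow : ∀ n : ℕ, Good q e f z (g ^ n) := fun n => by
    induction n with
    | zero => rw [pow_zero]; exact Good.one hF
    | succ n ih => rw [pow_succ]; exact ih.mul hF hg
  have h0 := orderOf_pos g
  have : g⁻¹ = g ^ (orderOf g - 1) := by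
    refine inv_eq_of_mul_eq_one_right ?_
    rw [← pow_succ', show orderOf g - 1 + 1 = orderOf g by omega, pow_orderOf_eq_one]
  rw [this]
  exact hpow _

end

namespace OSetup

variable {e f z : Fin 3 → F} {M : Subgroup (GL (Fin 3) F)} (S : OSetup q e f z M)
include S

lemma odd : q % 2 = 1 := by
  by_contra h
  obtain ⟨p, n, hp, hc, hqp, -⟩ := exists_char S.hF
  have hd : 2 ∣ q := by omega
  have hp2 : p = 2 := ((Nat.prime_dvd_prime_iff_eq Nat.prime_two hp).1
    (Nat.prime_two.dvd_of_dvd_pow (hqp ▸ hd))).symm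
  subst hp2
  exact S.two (by exact_mod_cast CharP.cast_eq_zero F 2)

lemma two_fix : (2 : F) ^ q = 2 := by
  rw [show (2 : F) = 1 + 1 by norm_num, add_pow_q S.hF, one_pow]

/-- The unipotent elements. -/
lemma sh_mem {β : F} (hβ : β ^ q = β) : ∃ g ∈ M, app g e = e ∧
    app g f = f + (-(β ^ 2) / (2 * hh z z)) • e + (-β / hh z z) • z ∧
      app g z = z + β • e ∧ Good q e f z g := by
  have hF := S.hF
  have H := hermForm_isHerm hF 3
  have h2 := S.two
  have hzz := S.fr.zz
  have hζ := H.self_fixed z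
  set δ := -β / hh z z with hδ
  set γ := -(β ^ 2) / (2 * hh z z) with hγ
  have hδq : δ ^ q = δ := by rw [hδ, div_pow, neg_pow_q hF, hβ, hζ]
  have hγq : γ ^ q = γ := by
    rw [hγ, div_pow, neg_pow_q hF, ← pow_mul, mul_comm 2 q, pow_mul, hβ, mul_pow, S.two_fix, hζ]
  obtain ⟨g, hg, hge, hgf, hgz⟩ := exists_sh3 hF S.fr (β := β) (δ := δ) (γ := γ)
    (by rw [hβ, hδ]; field_simp; ring)
    (by rw [hγq, pow_succ, hδq, hδ, hγ]; field_simp; ring)
  obtain ⟨re, rf, rz⟩ := rl_basis hF S.fr
  have hR : ∀ x, RL q e f z x → RL q e f z (app g x) := fun x hx =>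
    rl_of_images hF S.fr (by rwa [hge])
      (by rw [hgf]; exact (rf.add hF (re.smul hF hγq)).add hF (rz.smul hF hδq))
      (by rw [hgz]; exact rz.add hF (re.smul hF hβ)) hx
  exact ⟨g, S.real g hg hR, hge, hgf, hgz, Good.of_real hF hR⟩

/-- The torus. -/
lemma tor_mem {a : F} (ha : a ^ q = a) (ha0 : a ≠ 0) : ∃ g ∈ M, app g e = a • e ∧
    app g f = a⁻¹ • f ∧ app g z = z ∧ Good q e f z g := by
  have hF := S.hF
  obtain ⟨g, hg, hge, hgf, hgz⟩ := exists_diag hF S.fr (a := a) (b := a⁻¹) (c := 1)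
    (by rw [inv_pow, ha, mul_inv_cancel₀ ha0]) (one_pow _) (by rw [mul_inv_cancel₀ ha0, one_mul])
  rw [one_smul] at hgz
  obtain ⟨re, rf, rz⟩ := rl_basis hF S.fr
  have hR : ∀ x, RL q e f z x → RL q e f z (app g x) := fun x hx =>
    rl_of_images hF S.fr (by rw [hge]; exact re.smul hF ha)
      (by rw [hgf]; exact rf.smul hF (by rw [inv_pow, ha])) (by rwa [hgz]) hx
  exact ⟨g, S.real g hg hR, hge, hgf, hgz, Good.of_real hF hR⟩

/-- The reversal. -/
lemma flip_mem : ∃ g ∈ M, app g e = f ∧ app g f = e ∧ app g z = (-1 : F) • z ∧ Good q e f z g := by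
  have hF := S.hF
  obtain ⟨g, hg, hge, hgf, hgz⟩ := exists_flip hF S.fr
  obtain ⟨re, rf, rz⟩ := rl_basis hF S.fr
  have hR : ∀ x, RL q e f z x → RL q e f z (app g x) := fun x hx =>
    rl_of_images hF S.fr (by rwa [hge]) (by rwa [hgf])
      (by rw [hgz]; exact rz.smul hF (by rw [neg_pow_q hF, one_pow])) hx
  exact ⟨g, S.real g hg hR, hge, hgf, hgz, Good.of_real hF hR⟩

/-- The scalars. -/
lemma scal_mem {c : F} (h3 : c ^ 3 = 1) (hc : c ^ (q + 1) = 1) :
    ∃ g ∈ M, (∀ x, app g x = c • x) ∧ Good q e f z g := by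
  have hF := S.hF
  obtain ⟨g, hg, hge, hgf, hgz⟩ := exists_diag hF S.fr (a := c) (b := c) (c := c)
    (by rw [← pow_succ', hc]) hc (by rw [← h3]; ring)
  have hall : ∀ x, app g x = c • x := fun x => by
    rw [S.fr.expand hF x]
    simp only [map_add, map_smul, hge, hgf, hgz, smul_add]
    simp only [smul_comm c]
  have hc0 : c ≠ 0 := fun e => by simp [e] at hc
  refine ⟨g, S.scal g hg ⟨c, hall⟩, hall, c⁻¹, inv_ne_zero hc0, fun x hx => ?_⟩
  rwa [hall, smul_smul, inv_mul_cancel₀ hc0, one_smul]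

/-- A generator of the real torus. -/
lemma exists_gen : ∃ a : F, a ^ q = a ∧ a ≠ 0 ∧ orderOf a = q - 1 := by
  classical
  haveI : Fintype (fixedField S.hF) := Fintype.ofFinite _
  obtain ⟨u, hu⟩ := IsCyclic.exists_ofOrder_eq_natCard (α := (fixedField S.hF)ˣ)
  refine ⟨((u : fixedField S.hF) : F), (u : fixedField S.hF).2, fun e => u.ne_zero (Subtype.ext e), ?_⟩
  have h1 : orderOf ((u : fixedField S.hF) : F) = orderOf (u : fixedField S.hF) :=
    orderOf_injective (fixedField S.hF).subtype.toMonoidHom Subtype.val_injective _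
  rw [h1, orderOf_units, hu, Nat.card_units, card_fixedField S.hF]

/-- No transvection at the conic point. -/
lemma no_tu {c : F} (hc : c + c ^ q = 0) (h : tu q e c ∈ M) : c = 0 := by
  by_contra hc0
  have hF := S.hF
  have hq := S.hq
  obtain ⟨a, ha, ha0, hao⟩ := S.exists_gen
  obtain ⟨g, hg, hge, -, -, -⟩ := S.tor_mem ha ha0
  refine S.nc e (S.fr.e_ne hF) (centre_of_scale hF S.hMK S.fr.ee hc hc0 h hg hge fun x hx => ?_)
  have hν : a ^ (q + 1) = a ^ 2 := by rw [pow_succ, ha, pow_two]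
  let ρ : fixedField hF := ⟨a ^ 2, by
    show (a ^ 2) ^ q = a ^ 2
    rw [← pow_mul, mul_comm, pow_mul, ha]⟩
  have hρ0 : ρ ≠ 0 := fun e => pow_ne_zero 2 ha0 (congrArg Subtype.val e)
  haveI : Fintype (fixedField hF) := Fintype.ofFinite _
  have hρo : orderOf ρ = orderOf a / Nat.gcd (orderOf a) 2 := by
    rw [← orderOf_injective (fixedField hF).subtype.toMonoidHom Subtype.val_injective ρ]
    exact orderOf_pow' a two_ne_zero
  have hgen : ∀ E : Subfield (fixedField hF), ρ ∈ E → E = ⊤ := by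
    intro E hE
    obtain ⟨r, k, hr, hk, hdvd, htop⟩ := exists_card_of_mem hE hρ0
    refine htop ?_
    by_contra! hk2
    have hqr : q = r ^ k := by
      rw [← card_fixedField hF, Nat.card_eq_fintype_card]; exact hk
    have hrr : r * r ≤ q := by
      rw [hqr, ← pow_two]; exact Nat.pow_le_pow_right (by omega) (by omega)
    have h1 : orderOf ρ ≤ r - 1 := Nat.le_of_dvd (by omega) hdvd
    have h2 : q - 1 ≤ 2 * orderOf ρ := by
      rw [hρo, hao]
      have hg2 : Nat.gcd (q - 1) 2 ≤ 2 := Nat.le_of_dvd (by norm_num) (Nat.gcd_dvd_right _ _)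
      calc q - 1 = (q - 1) / Nat.gcd (q - 1) 2 * Nat.gcd (q - 1) 2 :=
            (Nat.div_mul_cancel (Nat.gcd_dvd_left _ _)).symm
        _ ≤ (q - 1) / Nat.gcd (q - 1) 2 * 2 := Nat.mul_le_mul_left _ hg2
        _ = _ := mul_comm _ _
    rcases Nat.lt_or_ge r 3 with h3 | h3
    · omega
    · nlinarith [show r - 1 + 1 = r by omega, show q - 1 + 1 = q by omega]
  have hmem := span_powers hgen (⟨x, hx⟩ : fixedField hF)
  have := AddMonoidHom.map_closure (fixedField hF).subtype.toAddMonoidHom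
    (Set.range fun i : ℕ => ρ ^ i)
  have hx' : x ∈ (AddSubgroup.closure (Set.range fun i : ℕ => ρ ^ i)).map
      (fixedField hF).subtype.toAddMonoidHom := ⟨_, hmem, rfl⟩
  rw [this, ← Set.range_comp] at hx'
  rw [hν]
  exact hx'

/-- Two elements with the same `e` and `z` images agree. -/
lemma eq_of_ez {g k : GL (Fin 3) F} (hg : g ∈ M) (hk : k ∈ M) (he : app g e = app k e)
    (hz : app g z = app k z) : g = k := by
  have hF := S.hF
  have hm : k⁻¹ * g ∈ M := mul_mem (inv_mem hk) hg
  have h1 : app (k⁻¹ * g) e = e := by rw [map_mul, LinearEquiv.mul_apply, he, app_inv_app]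
  have h2 : app (k⁻¹ * g) z = z := by rw [map_mul, LinearEquiv.mul_apply, hz, app_inv_app]
  obtain ⟨h, hc⟩ := S.fr.eq_tu hF (S.hMK hm).1 h1 h2
  have := S.no_tu hc (h ▸ hm)
  rw [this, tu_zero S.fr.ee] at h
  exact (inv_mul_eq_one.1 h).symm

/-- A shift in `M` is real. -/
lemma shift_real {k : GL (Fin 3) F} (hk : k ∈ M) {α : F} (he : app k e = e)
    (hz : app k z = z + α • e) : α ^ q = α := by
  have hF := S.hF
  have H := hermForm_isHerm hF 3
  have hzz := S.fr.zz
  obtain ⟨s, hs, hse, hsf, hsz, -⟩ := S.sh_mem (β := 1) (one_pow q)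
  -- they commute
  have hcomm : k * s = s * k := S.eq_of_ez (mul_mem hk hs) (mul_mem hs hk)
    (by simp only [map_mul, LinearEquiv.mul_apply, hse, he])
    (by simp only [map_mul, LinearEquiv.mul_apply, hsz, hz, map_add, map_smul, hse, he, one_smul]
        abel)
  set δ := hh (app k f) z / hh z z
  have hkU := (S.hMK hk).1
  have h1 : hh (app k f) e = 1 := by rw [← S.fr.fe hF]; conv_rhs => rw [← herm_app hF hkU, he]
  have hkf : app k f = f + hh (app k f) f • e + δ • z := by
    conv_lhs => rw [S.fr.expand hF (app k f), h1, one_smul]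
    abel
  have hδ : δ * hh z z + α ^ q = 0 := by
    have e1 := herm_app hF hkU f z
    rw [hkf, hz] at e1
    simp [H.add_left, H.add_right hF, H.smul_left, H.smul_right, S.fr.ee, S.fr.ez, S.fr.fz,
      S.fr.fe hF, S.fr.ze hF] at e1
    linear_combination e1
  have e2 := congrArg (fun m => hh (app m f) f) hcomm
  simp only [map_mul, LinearEquiv.mul_apply] at e2
  rw [hsf, map_add, map_add, map_smul, map_smul, he, hz, hkf, map_add, map_add, map_smul, map_smul,
    hse, hsz, hsf] at e2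
  simp [H.add_left, H.smul_left, S.fr.ef, S.fr.ff, S.fr.zf hF] at e2
  field_simp at e2
  have hδ' : δ * hh z z = -α ^ q := by linear_combination hδ
  linear_combination e2 + hδ

/-- What fixes the conic point is a scalar times a real element. -/
theorem fix_e {g : GL (Fin 3) F} (hg : g ∈ M) {a : F} (hga : app g e = a • e) :
    ∃ c r β : F, c ^ 3 = 1 ∧ c ^ (q + 1) = 1 ∧ r ^ q = r ∧ r ≠ 0 ∧ β ^ q = β ∧
      app g e = (c * r) • e ∧ app g z = c • z + (c * r * β) • e ∧ Good q e f z g := by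
  have hF := S.hF
  have H := hermForm_isHerm hF 3
  have hgU := (S.hMK hg).1
  have hzz := S.fr.zz
  have ha0 : a ≠ 0 := fun h => S.fr.e_ne hF ((app g).map_eq_zero_iff.1 (by rw [hga, h, zero_smul]))
  have hz1 : hh (app g z) e = 0 := by
    have := herm_app hF hgU z e
    rw [hga, H.smul_right, S.fr.ze hF] at this
    exact (mul_eq_zero.1 this).resolve_left (pow_ne_zero _ ha0)
  obtain ⟨μ, α, hgz⟩ : ∃ μ α : F, app g z = μ • z + α • e := by
    refine ⟨hh (app g z) z / hh z z, hh (app g z) f, ?_⟩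
    conv_lhs => rw [S.fr.expand hF (app g z), hz1]
    rw [zero_smul, add_zero, add_comm]
  have hμ : μ ^ (q + 1) = 1 := by
    have := herm_app hF hgU z z
    rw [hgz] at this
    simp [H.add_left, H.add_right hF, H.smul_left, H.smul_right, S.fr.ee, S.fr.ez,
      S.fr.ze hF] at this
    refine mul_right_cancel₀ hzz ?_
    linear_combination this
  have hμ0 : μ ≠ 0 := fun h => by simp [h] at hμ
  set b := hh (app g f) e
  have hab : a * b ^ q = 1 := by
    have := herm_app hF hgU e f
    rw [hga, H.smul_left, S.fr.ef, H.conj_symm (app g f) e] at this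
    exact this
  have hdet : a * b * μ = 1 := by
    obtain ⟨B, hB⟩ := S.fr.exists_basis hF
    have hgf : app g f = hh (app g f) f • e + b • f + (hh (app g f) z / hh z z) • z :=
      S.fr.expand hF _
    set N := B⁻¹ * g * B
    have hN : ∀ x : V, app B (app N x) = app g (app B x) := fun x => by
      simp only [N, map_mul, LinearEquiv.mul_apply, app_app_inv]
    have hcol : ∀ (x y : V), app g (app B x) = app B y → app N x = y := fun x y h =>
      (app B).injective (by rw [hN, h])
    have n0 : app N ![1, 0, 0] = ![a, 0, 0] := hcol _ _ (by rw [hB, hB]; simp [hga])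
    have n1 : app N ![0, 1, 0] = ![hh (app g f) f, b, hh (app g f) z / hh z z] :=
      hcol _ _ (by rw [hB, hB]; simpa using hgf)
    have n2 : app N ![0, 0, 1] = ![α, 0, μ] := hcol _ _ (by rw [hB, hB]; simp [hgz, add_comm])
    have hd : (N : Matrix (Fin 3) (Fin 3) F).det = 1 := by
      have hgd : (g : Matrix (Fin 3) (Fin 3) F).det = 1 := Transvect.mem_sl_iff.1 (S.hMK hg).2
      simp only [N, Units.val_mul]
      rw [Matrix.det_units_conj', hgd]
    have hent : ∀ i j : Fin 3, (N : Matrix (Fin 3) (Fin 3) F) i j = app N (Pi.single j 1) i :=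
      fun i j => by rw [app_apply, Matrix.mulVec_single_one]; rfl
    have s0 : (Pi.single 0 1 : V) = ![1, 0, 0] := by ext i; fin_cases i <;> simp
    have s1 : (Pi.single 1 1 : V) = ![0, 1, 0] := by ext i; fin_cases i <;> simp
    have s2 : (Pi.single 2 1 : V) = ![0, 0, 1] := by ext i; fin_cases i <;> simp
    rw [det_fin_three] at hd
    simp only [hent, s0, s1, s2, n0, n1, n2] at hd
    simpa using hd
  have hbq : b ^ q = a⁻¹ := eq_inv_of_mul_eq_one_right hab
  have hb : b = (a ^ q)⁻¹ := by rw [← pow_q_pow_q hF b, hbq, inv_pow]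
  have haμ : a ^ q = a * μ := by
    rw [hb] at hdet
    field_simp at hdet
    linear_combination -hdet
  -- the image of a unipotent element
  obtain ⟨s, hs, hse, -, hsz, -⟩ := S.sh_mem (β := 1) (one_pow q)
  have hgi : app g⁻¹ e = a⁻¹ • e := by
    apply (app g).injective
    rw [app_app_inv, map_smul, hga, smul_smul, inv_mul_cancel₀ ha0, one_smul]
  have hsh : app (g * s * g⁻¹) z = z + (a / μ) • e := by
    have h1 : app g⁻¹ z = μ⁻¹ • z - (μ⁻¹ * α / a) • e := by
      apply (app g).injective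
      rw [app_app_inv, map_sub, map_smul, map_smul, hgz, hga, smul_add, smul_smul, smul_smul,
        smul_smul, inv_mul_cancel₀ hμ0, one_smul, div_mul_cancel₀ _ ha0, add_sub_cancel_right]
    rw [map_mul, map_mul, LinearEquiv.mul_apply, LinearEquiv.mul_apply, h1, map_sub, map_smul,
      map_smul, hse, hsz, map_sub, map_smul, map_smul, map_add, map_smul, hgz, hga]
    simp only [smul_add, smul_smul, one_mul, inv_mul_cancel₀ hμ0, one_smul,
      div_mul_cancel₀ _ ha0, div_eq_inv_mul a μ]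
    abel
  have hr := S.shift_real (mul_mem (mul_mem hg hs) (inv_mem hg))
    (by rw [map_mul, map_mul, LinearEquiv.mul_apply, LinearEquiv.mul_apply, hgi, map_smul, hse,
      map_smul, hga, smul_smul, inv_mul_cancel₀ ha0, one_smul]) hsh
  have hμq : μ ^ q = μ⁻¹ := eq_inv_of_mul_eq_one_right (by rw [← pow_succ', hμ])
  have hμ3 : μ ^ 3 = 1 := by
    rw [div_pow, haμ, hμq, div_inv_eq_mul, eq_div_iff hμ0] at hr
    exact mul_left_cancel₀ ha0 (by rw [mul_one]; linear_combination hr)
  have hrq : (a / μ) ^ q = a / μ := hr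
  have hr0 : a / μ ≠ 0 := div_ne_zero ha0 hμ0
  set r := a / μ with hrdef
  obtain ⟨zc, hzc, hzcx, hzG⟩ := S.scal_mem hμ3 hμ
  obtain ⟨t, ht, hte, -, htz, htG⟩ := S.tor_mem hrq hr0
  set k := (zc * t)⁻¹ * g
  have hk : k ∈ M := mul_mem (inv_mem (mul_mem hzc ht)) hg
  have hcr : μ * r = a := mul_div_cancel₀ _ hμ0
  have hzte : app (zc * t) e = a • e := by
    rw [map_mul, LinearEquiv.mul_apply, hte, map_smul, hzcx, smul_smul, mul_comm, hcr]
  have hztz : app (zc * t) z = μ • z := by rw [map_mul, LinearEquiv.mul_apply, htz, hzcx]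
  have hke : app k e = e := by
    rw [map_mul, LinearEquiv.mul_apply, hga, ← hzte, app_inv_app]
  have hkz : app k z = z + (α / a) • e := by
    apply (app (zc * t)).injective
    rw [← LinearEquiv.mul_apply, ← map_mul, show zc * t * k = g from mul_inv_cancel_left _ _, hgz,
      map_add, map_smul, hzte, hztz,
      smul_smul, div_mul_cancel₀ _ ha0]
  have hα := S.shift_real hk hke hkz
  obtain ⟨s', hs', hse', -, hsz', hsG⟩ := S.sh_mem hα
  have hks : k = s' := S.eq_of_ez hk hs' (hke.trans hse'.symm) (hkz.trans hsz'.symm)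
  refine ⟨μ, r, α / a, hμ3, hμ, hrq, hr0, hα, by rw [hcr, hga], ?_, ?_⟩
  · rw [hgz, hcr, mul_div_cancel₀ _ ha0]
  · rw [show g = zc * t * s' by rw [← hks]; exact (mul_inv_cancel_left _ _).symm]
    exact (hzG.mul hF htG).mul hF hsG

end OSetup

end Cfsg.Agent.SU3Max
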