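import Cfsg.Agent.Lib.SU3Max.OrthOrbit
import Cfsg.Agent.Lib.SL3Max.C6.Groups

/-!
# An overgroup of `SO₃(q)` in `SU₃(q)`: the group on a line

Main results:
* `OSetup.all_good` : every element is good
-/

set_option autoImplicit false
set_option linter.unusedSectionVars false
set_option maxRecDepth 4000

namespace Cfsg.Agent.SU3Max

open Matrix Cfsg.Agent.Transvect Cfsg.Agent.Unitary Cfsg.Agent.C5.Uni
open scoped MatrixGroups

variable {F : Type*} [Field F] [Fintype F] {q : ℕ}

local notation "V" => (Fin 3 → F)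
local notation "hh" => Cfsg.hermForm 3 F q

theorem alt_five_four : ∀ g : alternatingGroup (Fin 5), g ^ 4 = 1 → g ^ 2 = 1 := by decide +kernel

theorem dihedral_rot {n : ℕ} {x : DihedralGroup n} (hx : x * x ≠ 1) (y : DihedralGroup n) :
    y * x * y⁻¹ = x ∨ y * x * y⁻¹ = x⁻¹ := by
  rcases x with i | i
  · rcases y with j | j
    · exact Or.inl (by simp [DihedralGroup.r_mul_r, add_comm])
    · exact Or.inr (by simp [DihedralGroup.sr_mul_r, DihedralGroup.sr_mul_sr])
  · exact absurd (DihedralGroup.sr_mul_self i) hx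

namespace OSetup

variable {e f z : Fin 3 → F} {M : Subgroup (GL (Fin 3) F)} (S : OSetup q e f z M)
include S

/-- Vectors orthogonal to `z`. -/
lemma line_expand {x : V} (hx : hh x z = 0) : x = hh x f • e + hh x e • f := by
  conv_lhs => rw [S.fr.expand S.hF x, hx]
  rw [zero_div, zero_smul, add_zero]

lemma line_image {g : GL (Fin 3) F} (hg : g ∈ ptFix M z) {x : V} (hx : hh x z = 0) :
    hh (app g x) z = 0 := by
  have H := hermForm_isHerm S.hF 3
  obtain ⟨μ, hμ⟩ := Submodule.mem_span_singleton.1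
    (show app g z ∈ F ∙ z from hg.2 ▸ Submodule.mem_span_singleton_self _)
  have hμ0 : μ ≠ 0 := fun h => S.fr.z_ne S.hF
    ((app g).map_eq_zero_iff.1 (by rw [← hμ, h, zero_smul]))
  have := herm_app S.hF (S.hMK hg.1).1 x z
  rw [← hμ, H.smul_right, hx] at this
  exact (mul_eq_zero.1 this).resolve_left (pow_ne_zero _ hμ0)

/-- The matrix on the line orthogonal to `z`. -/
noncomputable def lineMap : ptFix M z →* Matrix (Fin 2) (Fin 2) F where
  toFun g := !![hh (app (g : GL (Fin 3) F) e) f, hh (app (g : GL (Fin 3) F) f) f;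
    hh (app (g : GL (Fin 3) F) e) e, hh (app (g : GL (Fin 3) F) f) e]
  map_one' := by
    ext i j
    fin_cases i <;> fin_cases j <;> simp [S.fr.ef, S.fr.ff, S.fr.ee, S.fr.fe S.hF]
  map_mul' g k := by
    have H := hermForm_isHerm S.hF 3
    have key : ∀ x y : V, hh x z = 0 → hh (app ((g : GL (Fin 3) F) * (k : GL (Fin 3) F)) x) y =
        hh (app (k : GL (Fin 3) F) x) f * hh (app (g : GL (Fin 3) F) e) y +
          hh (app (k : GL (Fin 3) F) x) e * hh (app (g : GL (Fin 3) F) f) y := by
      intro x y hx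
      rw [map_mul, LinearEquiv.mul_apply]
      conv_lhs => rw [S.line_expand (S.line_image k.2 hx)]
      rw [map_add, map_smul, map_smul, H.add_left, H.smul_left, H.smul_left]
    simp only [map_mul, LinearEquiv.mul_apply] at key
    ext i j
    fin_cases i <;> fin_cases j <;>
      simp [Matrix.mul_apply, Fin.sum_univ_two, key _ _ S.fr.ez, key _ _ S.fr.fz, mul_comm,
        -app_apply]

/-- The action on the projective line. -/
noncomputable def lineProj : ptFix M z →* PSL2.PGL2 F :=
  ProjGenLinGroup.mk.comp S.lineMap.toHomUnits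

lemma lineProj_eq_one {g : ptFix M z} (h : S.lineProj g = 1) :
    hh (app (g : GL (Fin 3) F) e) e = 0 ∧ hh (app (g : GL (Fin 3) F) f) f = 0 ∧
      hh (app (g : GL (Fin 3) F) e) f = hh (app (g : GL (Fin 3) F) f) e := by
  rw [lineProj, MonoidHom.comp_apply, ProjGenLinGroup.mk_eq_one,
    GeneralLinearGroup.center_eq_range_scalar] at h
  obtain ⟨c, hc⟩ := h
  have key : ∀ i j : Fin 2, S.lineMap g i j = if i = j then (c : F) else 0 := fun i j => by
    rw [show S.lineMap g = (S.lineMap.toHomUnits g : Matrix (Fin 2) (Fin 2) F) from rfl, ← hc]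
    simp [Matrix.GeneralLinearGroup.scalar, Matrix.diagonal_apply]
  exact ⟨key 1 0, key 0 1, (key 0 0).trans (key 1 1).symm⟩

/-- The stabiliser in `ptFix M z` of the conic point has no element of order `p`. -/
lemma line_stab_coprime {p : ℕ} [Fact p.Prime] [CharP F p] :
    ¬ p ∣ Nat.card (ptFix (ptFix M z) e) := by
  intro hd
  haveI : Finite (GL (Fin 3) F) := finite_GL3
  obtain ⟨⟨g, hg⟩, hgo⟩ := exists_prime_orderOf_dvd_card' (G := ptFix (ptFix M z) e) p hd
  have ho : orderOf g = p := (Subgroup.orderOf_coe (⟨g, hg⟩ : ptFix (ptFix M z) e)).trans hgo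
  have hgp : g ^ p ^ 1 = 1 := by rw [pow_one, ← ho]; exact pow_orderOf_eq_one g
  obtain ⟨a, ha⟩ := Submodule.mem_span_singleton.1
    (show app g e ∈ F ∙ e from hg.2 ▸ Submodule.mem_span_singleton_self _)
  obtain ⟨μ, hμ⟩ := Submodule.mem_span_singleton.1
    (show app g z ∈ F ∙ z from hg.1.2 ▸ Submodule.mem_span_singleton_self _)
  have ha1 := eigen_one hgp (S.fr.e_ne S.hF) ha.symm
  have hμ1 := eigen_one hgp (S.fr.z_ne S.hF) hμ.symm
  have := S.eq_of_ez hg.1.1 (one_mem M) (by rw [← ha, ha1, one_smul, map_one]; rfl)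
    (by rw [← hμ, hμ1, one_smul, map_one]; rfl)
  rw [this, orderOf_one] at ho
  exact (Fact.out : p.Prime).one_lt.ne ho

section

variable (hfull : (ptOrb M e).ncard = q ^ 3 + 1)
include hfull

/-- The stabiliser of `z` is transitive on the line. -/
lemma line_trans {x : V} (hx0 : x ≠ 0) (hxx : hh x x = 0) (hxz : hh x z = 0) :
    ∃ m ∈ ptFix M z, (F ∙ app m e) = F ∙ x := by
  have hF := S.hF
  have H := hermForm_isHerm hF 3
  obtain ⟨g, hg, hW⟩ := mem_ptOrb_of_full hF S.hMK (S.fr.e_ne hF) S.fr.ee hfull hx0 hxx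
  obtain ⟨c, hc⟩ := Submodule.mem_span_singleton.1
    (show app g e ∈ F ∙ x from hW.symm ▸ Submodule.mem_span_singleton_self _)
  obtain ⟨t, ht, hte, htf, htz, -⟩ := S.tor_mem (a := (-1 : F))
    (by rw [neg_pow_q hF, one_pow]) (neg_ne_zero.2 one_ne_zero)
  have hinv : ((-1 : F))⁻¹ = -1 := by norm_num
  rw [hinv] at htf
  have htline : ∀ y : V, hh y z = 0 → app t y = (-1 : F) • y := fun y hy => by
    rw [S.line_expand hy, map_add, map_smul, map_smul, hte, htf, smul_add, smul_comm, smul_comm (hh y e)]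
  have htt : t * t = 1 := S.eq_of_ez (mul_mem ht ht) (one_mem M)
    (by rw [map_mul, LinearEquiv.mul_apply, hte, map_smul, hte, smul_smul]; simp)
    (by rw [map_mul, LinearEquiv.mul_apply, htz, htz]; simp)
  set j := g⁻¹ * t * g with hj
  have hjM : j ∈ M := mul_mem (mul_mem (inv_mem hg) ht) hg
  have hje : app j e = (-1 : F) • e := by
    rw [hj, map_mul, map_mul, LinearEquiv.mul_apply, LinearEquiv.mul_apply,
      htline _ (by rw [← hc, H.smul_left, hxz, mul_zero]), map_smul, app_inv_app]
  obtain ⟨c', r, β, h3, -, -, -, hβ, hje', hjz, -⟩ := S.fix_e hjM hje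
  have hcr : c' * r = -1 := smul_left_injective F (S.fr.e_ne hF) (hje'.symm.trans hje)
  have hjj : j * j = 1 := by
    rw [hj, show g⁻¹ * t * g * (g⁻¹ * t * g) = g⁻¹ * (t * t) * g by group, htt]; group
  have hc1 : c' = 1 := by
    have h := congrArg (fun m => hh (app m z) z) hjj
    simp only [map_mul, LinearEquiv.mul_apply] at h
    rw [hjz, map_add, map_smul, map_smul, hjz, hje] at h
    rw [H.add_left, H.smul_left, H.add_left, H.smul_left, H.smul_left, H.smul_left, H.smul_left,
      S.fr.ez] at h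
    simp [← mul_assoc, S.fr.zz, -app_apply] at h
    have h2 : c' ^ 2 = 1 := by linear_combination h
    calc c' = c' ^ 3 / c' ^ 2 := by rw [pow_succ' c' 2, mul_div_assoc, div_self (by rw [h2]; exact one_ne_zero), mul_one]
      _ = 1 := by rw [h3, h2, div_one]
  rw [hc1, one_smul, one_mul] at hjz
  rw [hc1, one_mul] at hcr
  rw [hcr, neg_one_mul] at hjz
  have h2 := S.two
  obtain ⟨s, hs, hse, -, hsz, -⟩ := S.sh_mem (β := -(β / 2))
    (by rw [neg_pow_q hF, div_pow, hβ, S.two_fix])
  have hu : s⁻¹ * j * s = t := by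
    refine S.eq_of_ez (mul_mem (mul_mem (inv_mem hs) hjM) hs) ht ?_ ?_
    · rw [map_mul, map_mul, LinearEquiv.mul_apply, LinearEquiv.mul_apply, hse, hje, map_smul, hte]
      congr 1
      conv_lhs => rw [← hse]
      rw [app_inv_app]
    · rw [htz, map_mul, map_mul, LinearEquiv.mul_apply, LinearEquiv.mul_apply, hsz, map_add,
        map_smul, hjz, hje, smul_smul, add_assoc, ← add_smul,
        show -β + -(β / 2) * -1 = -(β / 2) by field_simp; ring, ← hsz, app_inv_app]
  set m := g * s
  have hcomm : t * m = m * t := by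
    calc t * m = g * (g⁻¹ * t * g) * s := by simp only [m]; group
      _ = g * s * (s⁻¹ * j * s) := by rw [← hj]; group
      _ = m * t := by rw [hu]
  refine ⟨m, ⟨mul_mem hg hs, ?_⟩, by rw [map_mul, LinearEquiv.mul_apply, hse, ← hW]⟩
  have hfx : app t (app m z) = app m z := by
    rw [← LinearEquiv.mul_apply, ← map_mul, hcomm, map_mul, LinearEquiv.mul_apply, htz]
  have key : ∀ v : V, app t v = (-1 : F) • v → hh (app m z) v = 0 := fun v hv => by
    have h := herm_app hF (S.hMK ht).1 (app m z) v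
    rw [hfx, hv, H.smul_right, neg_pow_q hF, one_pow, neg_one_mul, neg_eq_iff_add_eq_zero,
      ← two_mul, mul_eq_zero] at h
    exact h.resolve_left h2
  obtain ⟨d, hd⟩ := Submodule.mem_span_singleton.1 (S.fr.mem_pole hF (key e hte) (key f htf))
  have hd0 : d ≠ 0 := fun h => S.fr.z_ne hF ((app m).map_eq_zero_iff.1 (by rw [← hd, h, zero_smul]))
  rw [← hd, Submodule.span_singleton_smul_eq (IsUnit.mk0 d hd0)]

/-- The line has `q + 1` isotropic points. -/
lemma line_orbit : (ptOrb (ptFix M z) e).ncard = q + 1 := by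
  classical
  have hF := S.hF
  have H := hermForm_isHerm hF 3
  let Φ : Option {s : F // s + s ^ q = 0} → Submodule F V :=
    fun o => o.elim (F ∙ e) fun s => F ∙ (f + (s : F) • e)
  have hinj : Function.Injective Φ := by
    rintro (_ | s) (_ | s') h
    · rfl
    · obtain ⟨c, hc⟩ := Submodule.mem_span_singleton.1 (show f + (s' : F) • e ∈ F ∙ e from
        (show F ∙ e = F ∙ (f + (s' : F) • e) from h) ▸ Submodule.mem_span_singleton_self _)
      have := congrArg (fun y => hh y e) hc
      simp [H.add_left, H.smul_left, S.fr.ee, S.fr.fe hF] at this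
    · obtain ⟨c, hc⟩ := Submodule.mem_span_singleton.1 (show f + (s : F) • e ∈ F ∙ e from
        (show F ∙ (f + (s : F) • e) = F ∙ e from h) ▸ Submodule.mem_span_singleton_self _)
      have := congrArg (fun y => hh y e) hc
      simp [H.add_left, H.smul_left, S.fr.ee, S.fr.fe hF] at this
    · obtain ⟨c, hc⟩ := Submodule.mem_span_singleton.1 (show f + (s' : F) • e ∈ F ∙ (f + (s : F) • e) from
        (show F ∙ (f + (s : F) • e) = F ∙ (f + (s' : F) • e) from h) ▸ Submodule.mem_span_singleton_self _)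
      have h1 := congrArg (fun y => hh y e) hc
      simp [H.add_left, H.smul_left, S.fr.ee, S.fr.fe hF] at h1
      subst h1
      have h2 := congrArg (fun y => hh y f) hc
      simp [H.add_left, H.smul_left, S.fr.ef, S.fr.ff] at h2
      exact congrArg some (Subtype.ext h2)
  have hrange : ptOrb (ptFix M z) e = Set.range Φ := by
    apply Set.Subset.antisymm
    · rintro W ⟨g, hg, rfl⟩
      have hyz := S.line_image hg S.fr.ez
      have hy0 : app g e ≠ 0 := fun h => S.fr.e_ne hF ((app g).map_eq_zero_iff.1 h)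
      have hyy : hh (app g e) (app g e) = 0 := (herm_app hF (S.hMK hg.1).1 e e).trans S.fr.ee
      have hexp := S.line_expand hyz
      set a := hh (app g e) f
      set b := hh (app g e) e
      rcases eq_or_ne b 0 with hb | hb
      · refine ⟨none, ?_⟩
        rw [hexp, hb, zero_smul, add_zero, Submodule.span_singleton_smul_eq
          (IsUnit.mk0 a fun h => hy0 (by rw [hexp, hb, h]; simp))]
        rfl
      · have hab : a * b ^ q + b * a ^ q = 0 := by
          rw [hexp] at hyy
          simp [H.add_left, H.add_right hF, H.smul_left, H.smul_right, S.fr.ee, S.fr.ef,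
            S.fr.fe hF, S.fr.ff] at hyy
          linear_combination hyy
        refine ⟨some ⟨a / b, ?_⟩, ?_⟩
        · have := pow_ne_zero q hb
          rw [div_pow]; field_simp; linear_combination hab
        · show F ∙ (f + (a / b) • e) = _
          rw [hexp, ← Submodule.span_singleton_smul_eq (IsUnit.mk0 b hb) (f + (a / b) • e), smul_add,
            smul_smul, mul_div_cancel₀ _ hb, add_comm]
    · rintro W ⟨(_ | s), rfl⟩
      · exact ⟨1, one_mem _, by rw [map_one]; rfl⟩
      · obtain ⟨m, hm, hme⟩ := S.line_trans hfull (x := f + (s : F) • e)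
          (fun h => by
            have := congrArg (fun y => hh y e) h
            simp [H.add_left, H.smul_left, H.zero_left, S.fr.ee, S.fr.fe hF] at this)
          (by
            simp [H.add_left, H.add_right hF, H.smul_left, H.smul_right, S.fr.ee, S.fr.ef,
              S.fr.fe hF, S.fr.ff]
            linear_combination s.2)
          (by simp [H.add_left, H.smul_left, S.fr.ez, S.fr.fz])
        exact ⟨m, hm, hme.symm⟩
  rw [hrange, ← Nat.card_coe_set_eq, Nat.card_range_of_injective hinj, Finite.card_option,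
    card_trace_zero hF]

/-- An element of order `43` is impossible. -/
lemma not_seven (h7 : q = 7) : False := by
  classical
  have hF := S.hF
  subst h7
  haveI : Finite (GL (Fin 3) F) := finite_GL3
  obtain ⟨p, n, hp, hchar, hqp, hn⟩ := exists_char hF
  obtain rfl : p = 7 :=
    (Nat.prime_dvd_prime_iff_eq hp (by norm_num)).1 (hqp ▸ dvd_pow_self p hn)
  haveI : Fact (Nat.Prime 7) := ⟨hp⟩
  haveI := hchar
  -- the stabiliser of a point has order `42`
  have hfix : Nat.card (ptFix M e) = 42 := by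
    have hle : ptFix M e ≤ S.realStab := fun g hg => by
      obtain ⟨a, ha⟩ := Submodule.mem_span_singleton.1
        (show app g e ∈ F ∙ e from hg.2 ▸ Submodule.mem_span_singleton_self _)
      obtain ⟨c, r, β, h3, h8, hr, hr0, hβ, hge, hgz, -⟩ := S.fix_e hg.1 ha.symm
      have hc1 : c = 1 := by
        have h9 : c ^ 9 = 1 := by rw [show 9 = 3 * 3 from rfl, pow_mul, h3, one_pow]
        rw [show 9 = 7 + 1 + 1 from rfl, pow_succ, h8, one_mul] at h9
        exact h9
      rw [hc1, one_mul] at hge hgz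
      rw [one_smul] at hgz
      exact ⟨hg.1, r, r * β, hr, hr0, by rw [mul_pow, hr, hβ], hge, hgz⟩
    rw [le_antisymm hle S.realStab_le, S.card_realStab]
  have hcard : Nat.card M = 14448 := by
    rw [← card_ptOrb_mul M e, hfull, hfix]; norm_num
  haveI : Fact (Nat.Prime 43) := ⟨by norm_num⟩
  obtain ⟨P, hP⟩ := Sylow.exists_subgroup_card_pow_prime 43 (G := M) (n := 1) (by rw [hcard]; norm_num)
  rw [pow_one] at hP
  let SP : Sylow 43 M := Sylow.ofCard P (by
    rw [hP, hcard]
    have : Nat.factorization 14448 43 = 1 := by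
      rw [show (14448 : ℕ) = 43 * 336 from rfl, Nat.factorization_mul (by norm_num) (by norm_num)]
      simp [Nat.Prime.factorization_self (show Nat.Prime 43 by norm_num),
        Nat.factorization_eq_zero_of_not_dvd (show ¬ 43 ∣ 336 by norm_num)]
    rw [this, pow_one])
  have hone : Nat.card (Sylow 43 M) = 1 := by
    have h1 := SP.card_dvd_index
    have h2 := card_sylow_modEq_one 43 M
    have hidx : (SP : Subgroup M).index = 336 := by
      have h3 := (SP : Subgroup M).card_mul_index
      rw [show Nat.card (SP : Subgroup M) = 43 from hP, hcard] at h3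
      omega
    rw [hidx] at h1
    have hle := Nat.le_of_dvd (by norm_num) h1
    have key : ∀ n : Fin 337, (n : ℕ) ∣ 336 → (n : ℕ) % 43 = 1 → (n : ℕ) = 1 := by decide +kernel
    exact key ⟨_, Nat.lt_succ_of_le hle⟩ h1 h2
  haveI : Subsingleton (Sylow 43 M) := (Nat.card_eq_one_iff_unique.1 hone).1
  have hnorm : (SP : Subgroup M).Normal := Sylow.normal_of_subsingleton SP
  obtain ⟨⟨T, hTP⟩, hT43⟩ := exists_prime_orderOf_dvd_card' (G := (SP : Subgroup M)) 43
    (show 43 ∣ Nat.card (SP : Subgroup M) from hP.symm ▸ dvd_rfl)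
  have hTo : orderOf T = 43 := (Subgroup.orderOf_coe (⟨T, hTP⟩ : (SP : Subgroup M))).trans hT43
  have hzp : (SP : Subgroup M) = Subgroup.zpowers T := by
    refine (Subgroup.eq_of_le_of_card_ge (Subgroup.zpowers_le.2 hTP) ?_).symm
    rw [show Nat.card (SP : Subgroup M) = 43 from hP, Nat.card_zpowers, hTo]
  have hconj : ∀ x : M, ∃ i : ℤ, x * T * x⁻¹ = T ^ i := fun x => by
    have := hnorm.conj_mem T hTP x
    rw [hzp] at this
    obtain ⟨i, hi⟩ := Subgroup.mem_zpowers_iff.1 this
    exact ⟨i, hi.symm⟩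
  -- a commutator in the unipotent part centralises it
  obtain ⟨a, ha, ha0, hao⟩ := S.exists_gen
  obtain ⟨t, ht, hte, -, htz, -⟩ := S.tor_mem ha ha0
  obtain ⟨s, hs, hse, -, hsz, -⟩ := S.sh_mem (β := 1) (one_pow 7)
  set u := t * s * t⁻¹ * s⁻¹
  have hu : u ∈ M := mul_mem (mul_mem (mul_mem ht hs) (inv_mem ht)) (inv_mem hs)
  have hsie : app s⁻¹ e = e := by conv_lhs => rw [← hse]; rw [app_inv_app]
  have hsiz : app s⁻¹ z = z - e := by
    apply (app s).injective
    rw [app_app_inv, map_sub, hsz, hse, one_smul, add_sub_cancel_right]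
  have htie : app t⁻¹ e = a⁻¹ • e := by
    apply (app t).injective
    rw [app_app_inv, map_smul, hte, smul_smul, inv_mul_cancel₀ ha0, one_smul]
  have htiz : app t⁻¹ z = z := by conv_lhs => rw [← htz]; rw [app_inv_app]
  have hue : app u e = e := by
    simp only [u, map_mul, LinearEquiv.mul_apply, hsie, htie, map_smul, hse, hte, smul_smul,
      inv_mul_cancel₀ ha0, one_smul]
  have huz : app u z = z + (a - 1) • e := by
    simp only [u, map_mul, LinearEquiv.mul_apply, hsiz, map_sub, htiz, htie, map_smul, hsz, hse,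
      map_add, htz, hte, smul_smul, inv_mul_cancel₀ ha0, one_smul, one_mul]
    rw [sub_smul, one_smul]
    abel
  have hau : a ≠ 1 := fun h => by rw [h, orderOf_one] at hao; norm_num at hao
  have hu1 : u ≠ 1 := fun h => hau (by
    rw [h, map_one] at huz
    have h' : (a - 1) • e = 0 := add_left_cancel (huz.symm.trans (add_zero z).symm)
    exact sub_eq_zero.1 ((smul_eq_zero.1 h').resolve_right (S.fr.e_ne hF)))
  have hucard : (⟨u, hu⟩ : M) * T = T * ⟨u, hu⟩ := by
    set A : M := ⟨t, ht⟩
    set B : M := ⟨s, hs⟩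
    have h1 : ∀ (x : M) (i : ℤ), x * T * x⁻¹ = T ^ i → ∀ k : ℤ, x * T ^ k * x⁻¹ = T ^ (i * k) :=
      fun x i h k => by rw [← conj_zpow, h, ← _root_.zpow_mul]
    have h2 : ∀ x y : M, x * y * T * (x * y)⁻¹ = y * x * T * (y * x)⁻¹ := fun x y => by
      obtain ⟨i, hi⟩ := hconj x
      obtain ⟨j, hj⟩ := hconj y
      rw [show x * y * T * (x * y)⁻¹ = x * (y * T * y⁻¹) * x⁻¹ by group, hj, h1 x i hi,
        show y * x * T * (y * x)⁻¹ = y * (x * T * x⁻¹) * y⁻¹ by group, hi, h1 y j hj, mul_comm]
    -- conjugation by `A * B` and by `B * A` agree on the powers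
    obtain ⟨k, hk⟩ := hconj (B * A)⁻¹
    have h3 : A * B * T ^ k * (A * B)⁻¹ = B * A * T ^ k * (B * A)⁻¹ := by
      rw [← conj_zpow, h2, conj_zpow]
    rw [← hk, inv_inv] at h3
    show A * B * A⁻¹ * B⁻¹ * T = T * (A * B * A⁻¹ * B⁻¹)
    calc A * B * A⁻¹ * B⁻¹ * T
        = A * B * ((B * A)⁻¹ * T * (B * A)) * (A * B)⁻¹ * (A * B * A⁻¹ * B⁻¹) := by group
      _ = B * A * ((B * A)⁻¹ * T * (B * A)) * (B * A)⁻¹ * (A * B * A⁻¹ * B⁻¹) := by rw [h3]
      _ = T * (A * B * A⁻¹ * B⁻¹) := by group
  have hcomm : u * (T : GL (Fin 3) F) = (T : GL (Fin 3) F) * u := congrArg Subtype.val hucard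
  set y := app (T : GL (Fin 3) F) e
  have huy : app u y = y := by
    rw [← LinearEquiv.mul_apply, ← map_mul, hcomm, map_mul, LinearEquiv.mul_apply, hue]
  by_cases hy : y ∈ F ∙ e
  · obtain ⟨b, hb⟩ := Submodule.mem_span_singleton.1 hy
    have hb0 : b ≠ 0 := fun h => S.fr.e_ne hF
      ((app (T : GL (Fin 3) F)).map_eq_zero_iff.1 (hb.symm.trans (by rw [h, zero_smul])))
    have hT : (T : GL (Fin 3) F) ∈ ptFix M e :=
      ⟨T.2, by rw [show app (T : GL (Fin 3) F) e = b • e from hb.symm,
        Submodule.span_singleton_smul_eq (IsUnit.mk0 b hb0)]⟩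
    have := Subgroup.orderOf_dvd_natCard (ptFix M e) hT
    rw [Subgroup.orderOf_coe, hTo, hfix] at this
    norm_num at this
  · have hu7 : u ^ 7 ^ 1 = 1 := by
      have hmem : u ∈ S.uniStab := ⟨⟨hu, 1, a - 1, one_pow 7, one_ne_zero,
        by rw [sub_pow_q hF, ha, one_pow], by rw [one_smul]; exact hue, huz⟩, hue⟩
      have := Subgroup.orderOf_dvd_natCard _ hmem
      rw [S.card_uniStab] at this
      rw [pow_one]; exact orderOf_dvd_iff_pow_eq_one.1 this
    exact hu1 (eq_one_of_fix_two hF (S.hMK hu).1 hu7 (S.fr.e_ne hF) S.fr.ee hue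
      ((herm_app hF (S.hMK T.2).1 e e).trans S.fr.ee) hy (by rw [huy]; exact Submodule.mem_span_singleton_self _))

/-- Transitivity is impossible. -/
theorem not_full : False := by
  classical
  have hF := S.hF
  have hq := S.hq
  have H := hermForm_isHerm hF 3
  haveI : Finite (GL (Fin 3) F) := finite_GL3
  obtain ⟨p, n, hp, hchar, hqp, hn⟩ := exists_char hF
  haveI : Fact p.Prime := ⟨hp⟩
  haveI := hchar
  set C := ptFix M z
  set ψ := S.lineProj
  have hker : ∀ g : C, ψ g = 1 → (g : GL (Fin 3) F) ∈ ptFix C e := fun g hg => by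
    obtain ⟨h1, -, -⟩ := S.lineProj_eq_one hg
    refine ⟨g.2, ?_⟩
    have hexp := S.line_expand (S.line_image g.2 S.fr.ez)
    rw [h1, zero_smul, add_zero] at hexp
    have ha : hh (app (g : GL (Fin 3) F) e) f ≠ 0 := fun h => S.fr.e_ne hF
      ((app (g : GL (Fin 3) F)).map_eq_zero_iff.1 (by rw [hexp, h, zero_smul]))
    rw [hexp, Submodule.span_singleton_smul_eq (IsUnit.mk0 _ ha)]
  have hGq : q + 1 ∣ Nat.card ψ.range := by
    have h1 := card_ptOrb_mul C e
    rw [S.line_orbit hfull] at h1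
    have h2 := Subgroup.card_mul_index ψ.ker
    rw [Subgroup.index_ker] at h2
    have hle : ψ.ker.map C.subtype ≤ ptFix C e := by
      rintro _ ⟨g, hg, rfl⟩; exact hker g hg
    obtain ⟨k, hk⟩ := Subgroup.card_dvd_of_le hle
    rw [Subgroup.card_map_of_injective Subtype.val_injective] at hk
    refine ⟨k, Nat.eq_of_mul_eq_mul_left (Nat.card_pos (α := ψ.ker)) ?_⟩
    rw [h2, ← h1, hk]; ring
  have hpG : ¬ p ∣ Nat.card ψ.range := by
    intro h
    have h3 : p ∣ Nat.card C := h.trans (Subgroup.card_range_dvd ψ)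
    rw [← card_ptOrb_mul C e, S.line_orbit hfull] at h3
    rcases (Nat.Prime.dvd_mul hp).1 h3 with h4 | h4
    · have : p ∣ q := hqp ▸ dvd_pow_self p hn
      have := Nat.dvd_sub h4 this
      simp at this
      exact hp.one_lt.ne' this
    · exact S.line_stab_coprime h4
  obtain ⟨a, ha, ha0, hao⟩ := S.exists_gen
  obtain ⟨t, ht, hte, htf, htz, -⟩ := S.tor_mem ha ha0
  let tC : C := ⟨t, ht, by rw [htz]⟩
  let τ : ψ.range := ⟨ψ tC, tC, rfl⟩
  have hτ : ∀ k : ℕ, τ ^ k = 1 → q - 1 ∣ 2 * k := by
    intro k hk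
    have h1 : ψ (tC ^ k) = 1 := by rw [map_pow]; exact congrArg Subtype.val hk
    obtain ⟨-, -, h2⟩ := S.lineProj_eq_one h1
    simp only [SubgroupClass.coe_pow, tC, pow_app_smul hte, pow_app_smul htf, H.smul_left, S.fr.ef,
      S.fr.fe hF, mul_one] at h2
    rw [← hao]
    refine orderOf_dvd_of_pow_eq_one ?_
    rw [inv_pow] at h2
    rw [two_mul, pow_add]
    nth_rewrite 1 [h2]
    exact inv_mul_cancel₀ (pow_ne_zero k ha0)
  have hodd := S.odd
  have hτ2 : τ * τ ≠ 1 := fun h => by
    have := Nat.le_of_dvd (by norm_num) (hτ 2 (by rw [pow_two]; exact h))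
    omega
  -- an element moving `e` off the two fixed points
  obtain ⟨d, hd0, hd⟩ := exists_skew hF
  obtain ⟨m, hm, hme⟩ := S.line_trans hfull (x := f + d • e)
    (fun h => by
      have := congrArg (fun y => hh y e) h
      simp [H.add_left, H.smul_left, H.zero_left, S.fr.ee, S.fr.fe hF] at this)
    (by
      simp [H.add_left, H.add_right hF, H.smul_left, H.smul_right, S.fr.ee, S.fr.ef, S.fr.fe hF,
        S.fr.ff, hd])
    (by simp [H.add_left, H.smul_left, S.fr.ez, S.fr.fz])
  obtain ⟨c, hc⟩ := Submodule.mem_span_singleton.1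
    (show app m e ∈ F ∙ (f + d • e) from hme ▸ Submodule.mem_span_singleton_self _)
  have hc0 : c ≠ 0 := fun h => S.fr.e_ne hF ((app m).map_eq_zero_iff.1 (by rw [← hc, h, zero_smul]))
  let Y : ψ.range := ⟨ψ ⟨m, hm⟩, _, rfl⟩
  have hrot : ¬ (Y * τ * Y⁻¹ = τ ∨ Y * τ * Y⁻¹ = τ⁻¹) := by
    intro h
    have key : ∀ (g : C) (b : F), app (g : GL (Fin 3) F) e = b • e →
        app (g : GL (Fin 3) F) f = b⁻¹ • f → ψ ⟨m, hm⟩ * ψ tC = ψ g * ψ ⟨m, hm⟩ → b ^ 2 = 1 := by
      intro g b hge hgf e'
      rw [← map_mul, ← map_mul] at e'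
      obtain ⟨u, hu⟩ := ProjGenLinGroup.mk_eq_mk_iff.1 e'
      have hcol : ∀ i : Fin 2, S.lineMap (g * ⟨m, hm⟩) i 0 = S.lineMap (⟨m, hm⟩ * tC) i 0 * u := by
        intro i
        have := congrArg (fun X : GL (Fin 2) F => (X : Matrix (Fin 2) (Fin 2) F) i 0) hu
        rw [show S.lineMap (g * ⟨m, hm⟩) =
          (S.lineMap.toHomUnits (g * ⟨m, hm⟩) : Matrix (Fin 2) (Fin 2) F) from rfl]
        simp only [← this]
        simp [Matrix.GeneralLinearGroup.scalar, mul_comm]
      have hb0 : b ≠ 0 := fun h0 => S.fr.e_ne hF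
        ((app (g : GL (Fin 3) F)).map_eq_zero_iff.1 (by rw [hge, h0, zero_smul]))
      have r0 := hcol 0
      have r1 := hcol 1
      rw [map_mul, map_mul] at r0 r1
      simp [lineMap, tC, Matrix.mul_apply, Fin.sum_univ_two, -app_apply, hge, hgf, hte, ← hc, H.add_left,
        H.smul_left, S.fr.ee, S.fr.ef, S.fr.ff, S.fr.fe hF] at r0 r1
      have e3 : b = b⁻¹ :=
        mul_right_cancel₀ (mul_ne_zero hc0 hd0) (by linear_combination r0 - d * r1)
      rw [pow_two]
      nth_rewrite 2 [e3]
      exact mul_inv_cancel₀ hb0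
    have h2 : a ^ 2 = 1 := by
      rcases h with h | h
      · exact key tC a hte htf (congrArg Subtype.val (mul_inv_eq_iff_eq_mul.1 h))
      · have hie : app ((tC⁻¹ : C) : GL (Fin 3) F) e = a⁻¹ • e := by
          apply (app t).injective
          rw [show ((tC⁻¹ : C) : GL (Fin 3) F) = t⁻¹ from rfl, app_app_inv, map_smul, hte, smul_smul,
            inv_mul_cancel₀ ha0, one_smul]
        have hif : app ((tC⁻¹ : C) : GL (Fin 3) F) f = (a⁻¹)⁻¹ • f := by
          apply (app t).injective
          rw [show ((tC⁻¹ : C) : GL (Fin 3) F) = t⁻¹ from rfl, app_app_inv, map_smul, htf, smul_smul,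
            inv_mul_cancel₀ (inv_ne_zero ha0), one_smul]
        have := key tC⁻¹ a⁻¹ hie hif (by
          rw [map_inv]; exact congrArg Subtype.val (mul_inv_eq_iff_eq_mul.1 h))
        rwa [inv_pow, inv_eq_one] at this
    have := Nat.le_of_dvd (by norm_num) (hao ▸ orderOf_dvd_of_pow_eq_one h2)
    omega
  rcases SL3Max.C6.pgl_cases p ψ.range hpG with hcyc | ⟨k, ⟨ε⟩⟩ | hexc
  · haveI := hcyc
    letI := IsCyclic.commGroup (α := ψ.range)
    exact hrot (Or.inl (mul_inv_eq_iff_eq_mul.2 (mul_comm Y τ)))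
  · refine hrot ?_
    rcases dihedral_rot (x := ε τ) (fun h => hτ2 (ε.injective (by rw [map_mul, h, map_one]))) (ε Y)
      with h | h
    · exact Or.inl (ε.injective (by rw [map_mul, map_mul, map_inv, h]))
    · exact Or.inr (ε.injective (by rw [map_mul, map_mul, map_inv, map_inv, h]))
  -- an exceptional image
  have hA5 : 5 ∣ Nat.card ψ.range → Nonempty (ψ.range ≃* alternatingGroup (Fin 5)) := by
    intro h5
    rcases hexc with ⟨⟨ε⟩⟩ | ⟨⟨ε⟩⟩ | h
    · rw [Nat.card_congr ε.toEquiv, nat_card_alternatingGroup] at h5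
      norm_num [Nat.card_eq_fintype_card, Nat.factorial] at h5
    · rw [Nat.card_congr ε.toEquiv, Nat.card_eq_fintype_card, Fintype.card_perm] at h5
      norm_num [Nat.factorial] at h5
    · exact h
  have hq_cases : q = 7 ∨ q = 9 ∨ q = 11 := by
    rcases SL3Max.C6.Exc.small_order hexc τ with h | h | h | h <;>
      [have hd := Nat.le_of_dvd (by norm_num) (hτ 2 h);
       have hd := Nat.le_of_dvd (by norm_num) (hτ 3 h);
       have hd := Nat.le_of_dvd (by norm_num) (hτ 4 h);
       have hd := Nat.le_of_dvd (by norm_num) (hτ 5 h)] <;> omega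
  rcases hq_cases with h7 | h9 | h11
  · exact S.not_seven hfull h7
  · subst h9
    obtain ⟨ε⟩ := hA5 ((by norm_num : 5 ∣ 9 + 1).trans hGq)
    have h4 : τ ^ 4 = 1 := by
      rcases SL3Max.C6.Exc.small_order hexc τ with h | h | h | h
      · exact absurd (by rw [← pow_two]; exact h) hτ2
      · exact absurd (hτ 3 h) (by norm_num)
      · exact h
      · exact absurd (hτ 5 h) (by norm_num)
    refine hτ2 (ε.injective ?_)
    rw [map_one, ← pow_two, map_pow]
    exact alt_five_four _ (by rw [← map_pow, h4, map_one])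
  · have h5 : 5 ∣ Nat.card ψ.range := by
      rcases SL3Max.C6.Exc.small_order hexc τ with h | h | h | h
      · exact absurd (hτ 2 h) (by rw [h11]; norm_num)
      · exact absurd (hτ 3 h) (by rw [h11]; norm_num)
      · exact absurd (hτ 4 h) (by rw [h11]; norm_num)
      · haveI : Fact (Nat.Prime 5) := ⟨by norm_num⟩
        rw [← orderOf_eq_prime h fun h1 => hτ2 (by rw [h1, mul_one])]
        exact orderOf_dvd_natCard τ
    obtain ⟨ε⟩ := hA5 h5
    -- the eigenvalue at `z`
    let μ : C →* F :=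
      { toFun := fun g => hh (app (g : GL (Fin 3) F) z) z / hh z z
        map_one' := by simp [S.fr.zz]
        map_mul' := fun g k => by
          obtain ⟨b, hb⟩ := Submodule.mem_span_singleton.1
            (show app (k : GL (Fin 3) F) z ∈ F ∙ z from k.2.2 ▸ Submodule.mem_span_singleton_self _)
          show hh (app ((g : GL (Fin 3) F) * (k : GL (Fin 3) F)) z) z / hh z z = _
          rw [map_mul, LinearEquiv.mul_apply, ← hb, map_smul, H.smul_left, H.smul_left]
          field_simp [S.fr.zz] }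
    let χ : C →* Fˣ := μ.toHomUnits
    let χ3 : C →* Fˣ := (powMonoidHom 3).comp χ
    have hk3 : ψ.ker ≤ χ3.ker := by
      intro g hg
      have hgC := hker g hg
      obtain ⟨b, hb⟩ := Submodule.mem_span_singleton.1
        (show app (g : GL (Fin 3) F) e ∈ F ∙ e from hgC.2 ▸ Submodule.mem_span_singleton_self _)
      obtain ⟨c', r, β, h3, -, -, -, -, -, hgz, -⟩ := S.fix_e g.2.1 hb.symm
      refine Units.ext ?_
      show (hh (app (g : GL (Fin 3) F) z) z / hh z z) ^ 3 = 1
      rw [hgz, H.add_left, H.smul_left, H.smul_left, S.fr.ez, mul_zero, add_zero,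
        mul_div_assoc, div_self S.fr.zz, mul_one, h3]
    let φ : ψ.range →* Fˣ := (QuotientGroup.lift ψ.ker χ3 hk3).comp
      (QuotientGroup.quotientKerEquivRange ψ).symm.toMonoidHom
    have hφ : ∀ g : C, φ ⟨ψ g, g, rfl⟩ = χ3 g := fun g => by
      show QuotientGroup.lift ψ.ker χ3 hk3 ((QuotientGroup.quotientKerEquivRange ψ).symm ⟨ψ g, g, rfl⟩) = _
      rw [show (⟨ψ g, g, rfl⟩ : ψ.range) = QuotientGroup.quotientKerEquivRange ψ (g : C ⧸ ψ.ker) from rfl,
        MulEquiv.symm_apply_apply, QuotientGroup.lift_mk]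
    obtain ⟨w, hw, -, -, hwz, -⟩ := S.flip_mem
    let wC : C := ⟨w, hw, by
      rw [hwz, Submodule.span_singleton_smul_eq (IsUnit.mk0 (-1 : F) (neg_ne_zero.2 one_ne_zero))]⟩
    have h1 := hφ wC
    have htriv : φ = 1 := by
      have := SL3Max.C6.a5_hom (φ.comp ε.symm.toMonoidHom)
      refine MonoidHom.ext fun x => ?_
      have hx := DFunLike.congr_fun this (ε x)
      simpa using hx
    rw [htriv, MonoidHom.one_apply] at h1
    have h2 : (1 : F) = (hh (app w z) z / hh z z) ^ 3 := congrArg Units.val h1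
    rw [hwz, H.smul_left, mul_div_assoc, div_self S.fr.zz, mul_one] at h2
    exact S.two (by linear_combination h2)

end

/-- Every element is good. -/
theorem all_good {g : GL (Fin 3) F} (hg : g ∈ M) : Good q e f z g := by
  by_contra h
  exact S.not_full (S.transitive hg h)

end OSetup

end Cfsg.Agent.SU3Max
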