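import Cfsg.Agent.Lib.SU3Max.OrthBase
import Cfsg.Agent.Lib.Aschbacher.SU3NotLe

/-!
# An overgroup of `SO₃(q)` in `SU₃(q)`: the orbit of a conic point

Main results:
* `OSetup.good_of_rl` : what maps the conic point into the conic is good
* `OSetup.transitive` : otherwise the overgroup is transitive on the isotropic points
-/

set_option autoImplicit false
set_option linter.unusedSectionVars false

namespace Cfsg.Agent.SU3Max

open Matrix Cfsg.Agent.Transvect Cfsg.Agent.Unitary Cfsg.Agent.C5.Uni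
open scoped MatrixGroups

variable {F : Type*} [Field F] [Fintype F] {q : ℕ}

local notation "V" => (Fin 3 → F)
local notation "hh" => Cfsg.hermForm 3 F q

/-- The good elements. -/
def goodPart (hF : Fintype.card F = q ^ 2) (e f z : Fin 3 → F) (M : Subgroup (GL (Fin 3) F)) :
    Subgroup (GL (Fin 3) F) where
  carrier := {g | g ∈ M ∧ Good q e f z g}
  one_mem' := ⟨one_mem M, Good.one hF⟩
  mul_mem' := fun {_ _} ⟨hg, hg'⟩ ⟨hk, hk'⟩ => ⟨mul_mem hg hk, hg'.mul hF hk'⟩
  inv_mem' := fun {_} ⟨hg, hg'⟩ => ⟨inv_mem hg, hg'.inv hF⟩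

/-- Divisors of `q² (q³+1)` that are `1` modulo `q`. -/
lemma orth_numbers {q i : ℕ} (hq : 2 ≤ q) (hd : i ∣ q ^ 2 * (q ^ 3 + 1)) (hi : i % q = 1)
    (hle : i * (q + 1) ≤ q ^ 3 + 1) : i = 1 ∨ i = q + 1 ∨ i * (q + 1) = q ^ 3 + 1 := by
  have hcop : Nat.Coprime i q := by
    rw [Nat.coprime_comm, Nat.coprime_iff_gcd_eq_one, Nat.gcd_rec, hi, Nat.gcd_one_left]
  obtain ⟨j, hj⟩ := (hcop.pow_right 2).dvd_of_dvd_mul_left hd
  have hia := Nat.mod_add_div i q
  rw [hi] at hia
  have hj1 : j % q = 1 := by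
    have h1 := congrArg (· % q) hj
    simp only [Nat.mul_mod i j, hi, one_mul, Nat.mod_mod] at h1
    rw [← h1, show q ^ 3 + 1 = 1 + q * q ^ 2 by ring, Nat.add_mul_mod_self_left,
      Nat.mod_eq_of_lt (by omega)]
  have hjb := Nat.mod_add_div j q
  rw [hj1] at hjb
  generalize i / q = a at hia
  generalize j / q = b at hjb
  subst hia hjb
  have h2 : q ^ 2 = a + b + q * (a * b) := by
    have : q * q ^ 2 = q * (a + b + q * (a * b)) := by nlinarith [hj]
    exact Nat.eq_of_mul_eq_mul_left (by omega) this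
  rcases Nat.lt_or_ge a 2 with ha | ha
  · interval_cases a
    · exact Or.inl (by ring)
    · exact Or.inr (Or.inl (by ring))
  right; right
  have hb1 : b ≤ 1 := by
    by_contra! hb
    have hab : a + b ≤ a * b := by nlinarith
    obtain ⟨c, hc⟩ : q ∣ a + b :=
      (Nat.dvd_add_left (dvd_mul_right q (a * b))).1 (h2 ▸ dvd_pow_self q two_ne_zero)
    have hc1 : 1 ≤ c := by
      rcases c with _ | c
      · simp at hc; omega
      · omega
    have : q = c + a * b := by
      have : q * q = q * (c + a * b) := by rw [← pow_two, h2, hc]; ring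
      exact Nat.eq_of_mul_eq_mul_left (by omega) this
    nlinarith
  interval_cases b
  · -- then `i` is too large
    nlinarith
  · rw [hj]
    ring

namespace OSetup

variable {e f z : Fin 3 → F} {M : Subgroup (GL (Fin 3) F)} (S : OSetup q e f z M)
include S

/-- The real isotropic points. -/
lemma rl_iso {x : V} (hx : RL q e f z x) (hxx : hh x x = 0) (hx0 : x ≠ 0) :
    (∃ r : F, r ≠ 0 ∧ x = r • e) ∨ ∃ β r : F, β ^ q = β ∧ r ≠ 0 ∧
      x = r • (f + (-(β ^ 2) / (2 * hh z z)) • e + (-β / hh z z) • z) := by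
  have hF := S.hF
  have H := hermForm_isHerm hF 3
  have hzz := S.fr.zz
  have h2 := S.two
  have hζ := H.self_fixed z
  obtain ⟨hb, ha, hc⟩ := hx
  set a := hh x f
  set b := hh x e
  set c := hh x z / hh z z with hcdef
  have hexp : x = a • e + b • f + c • z := S.fr.expand hF x
  have hcq : c ^ q = c := by rw [hcdef, div_pow, hc, hζ]
  have hiso : 2 * (a * b) + c ^ 2 * hh z z = 0 := by
    rw [hexp] at hxx
    simp [H.add_left, H.add_right hF, H.smul_left, H.smul_right, S.fr.ee, S.fr.ef, S.fr.ez,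
      S.fr.fe hF, S.fr.ff, S.fr.fz, S.fr.ze hF, S.fr.zf hF, ha, hb, hcq] at hxx
    linear_combination hxx
  rcases eq_or_ne b 0 with hb0 | hb0
  · left
    rw [hb0, mul_zero, mul_zero, zero_add, mul_eq_zero] at hiso
    have hc0 : c = 0 := pow_eq_zero_iff two_ne_zero |>.1 (hiso.resolve_right hzz)
    rw [hb0, hc0, zero_smul, zero_smul, add_zero, add_zero] at hexp
    exact ⟨a, fun e' => hx0 (by rw [hexp, e', zero_smul]), hexp⟩
  · right
    refine ⟨-(c / b) * hh z z, b, by rw [mul_pow, neg_pow_q hF, div_pow, hcq, hb, hζ], hb0, ?_⟩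
    have e1 : -((-(c / b) * hh z z) ^ 2) / (2 * hh z z) = a / b := by
      field_simp
      linear_combination -hiso
    have e2 : -(-(c / b) * hh z z) / hh z z = c / b := by field_simp
    rw [e1, e2, smul_add, smul_add, smul_smul, smul_smul, mul_div_cancel₀ _ hb0, mul_div_cancel₀ _ hb0]
    conv_lhs => rw [hexp]
    abel

/-- A good element reaches each real isotropic point. -/
lemma exists_good_to {x : V} (hx : RL q e f z x) (hxx : hh x x = 0) (hx0 : x ≠ 0) :
    ∃ h ∈ M, Good q e f z h ∧ ∃ r : F, r ≠ 0 ∧ app h e = r • x := by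
  rcases S.rl_iso hx hxx hx0 with ⟨r, hr, rfl⟩ | ⟨β, r, hβ, hr, rfl⟩
  · exact ⟨1, one_mem M, Good.one S.hF, r⁻¹, inv_ne_zero hr, by
      rw [map_one, smul_smul, inv_mul_cancel₀ hr, one_smul]; rfl⟩
  · obtain ⟨s, hs, -, hsf, -, hsG⟩ := S.sh_mem hβ
    obtain ⟨w, hw, hwe, -, -, hwG⟩ := S.flip_mem
    exact ⟨s * w, mul_mem hs hw, hsG.mul S.hF hwG, r⁻¹, inv_ne_zero hr, by
      rw [map_mul, LinearEquiv.mul_apply, hwe, hsf, smul_smul, inv_mul_cancel₀ hr, one_smul]⟩

theorem good_of_rl {g : GL (Fin 3) F} (hg : g ∈ M) {x : V} {c : F} (hgx : app g e = c • x)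
    (hx : RL q e f z x) : Good q e f z g := by
  have hF := S.hF
  have H := hermForm_isHerm hF 3
  have hge0 : app g e ≠ 0 := fun h => S.fr.e_ne hF ((app g).map_eq_zero_iff.1 h)
  have hx0 : x ≠ 0 := fun h => hge0 (by rw [hgx, h, smul_zero])
  have hc0 : c ≠ 0 := fun h => hge0 (by rw [hgx, h, zero_smul])
  have hxx : hh x x = 0 := by
    have := herm_app hF (S.hMK hg).1 e e
    rw [hgx, H.smul_left, H.smul_right, S.fr.ee] at this
    simpa [hc0, pow_q_eq_zero hF] using this
  obtain ⟨h, hh', hG, r, hr, hhe⟩ := S.exists_good_to hx hxx hx0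
  have hfix : app (h⁻¹ * g) e = (c / r) • e := by
    rw [map_mul, LinearEquiv.mul_apply, hgx, map_smul]
    apply (app h).injective
    rw [map_smul, map_smul, app_app_inv, hhe, smul_smul, div_mul_cancel₀ _ hr]
  obtain ⟨-, -, -, -, -, -, -, -, -, -, hG'⟩ := S.fix_e (mul_mem (inv_mem hh') hg) hfix
  have := hG.mul hF hG'
  rwa [mul_inv_cancel_left] at this

/-- The good elements have `q + 1` images of the conic point. -/
lemma good_orbit : (ptOrb (goodPart S.hF e f z M) e).ncard = q + 1 := by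
  classical
  have hF := S.hF
  have H := hermForm_isHerm hF 3
  let P : fixedField hF → V := fun β =>
    f + (-((β : F) ^ 2) / (2 * hh z z)) • e + (-(β : F) / hh z z) • z
  let Φ : Option (fixedField hF) → Submodule F V := fun o => o.elim (F ∙ e) fun β => F ∙ P β
  have hPe : ∀ β, hh (P β) e = 1 := fun β => by
    simp [P, H.add_left, H.smul_left, S.fr.ee, S.fr.fe hF, S.fr.ze hF]
  have hinj : Function.Injective Φ := by
    rintro (_ | β) (_ | β') h
    · rfl
    · obtain ⟨c, hc⟩ := Submodule.mem_span_singleton.1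
        (show P β' ∈ F ∙ e from (show F ∙ e = F ∙ P β' from h) ▸ Submodule.mem_span_singleton_self _)
      have := congrArg (fun y => hh y e) hc
      simp [H.smul_left, S.fr.ee, hPe] at this
    · obtain ⟨c, hc⟩ := Submodule.mem_span_singleton.1
        (show P β ∈ F ∙ e from (show F ∙ P β = F ∙ e from h) ▸ Submodule.mem_span_singleton_self _)
      have := congrArg (fun y => hh y e) hc
      simp [H.smul_left, S.fr.ee, hPe] at this
    · obtain ⟨c, hc⟩ := Submodule.mem_span_singleton.1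
        (show P β' ∈ F ∙ P β from (show F ∙ P β = F ∙ P β' from h) ▸ Submodule.mem_span_singleton_self _)
      have h1 := congrArg (fun y => hh y e) hc
      simp only [H.smul_left, hPe, mul_one] at h1
      subst h1
      have h2 := congrArg (fun y => hh y z) hc
      simp [P, H.add_left, H.smul_left, S.fr.ez, S.fr.fz, S.fr.zz] at h2
      exact congrArg some h2
  have hrange : ptOrb (goodPart hF e f z M) e = Set.range Φ := by
    apply Set.Subset.antisymm
    · rintro W ⟨g, ⟨hg, c, hc, hR⟩, rfl⟩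
      have hy := hR e (rl_basis hF S.fr).1
      have hy0 : c • app g e ≠ 0 :=
        smul_ne_zero hc fun h => S.fr.e_ne hF ((app g).map_eq_zero_iff.1 h)
      have hyy : hh (c • app g e) (c • app g e) = 0 := by
        rw [H.smul_left, H.smul_right, herm_app hF (S.hMK hg).1, S.fr.ee, mul_zero, mul_zero]
      rw [← Submodule.span_singleton_smul_eq (IsUnit.mk0 c hc) (app g e)]
      rcases S.rl_iso hy hyy hy0 with ⟨r, hr, e'⟩ | ⟨β, r, hβ, hr, e'⟩
      · exact ⟨none, by rw [e', Submodule.span_singleton_smul_eq (IsUnit.mk0 r hr)]; rfl⟩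
      · exact ⟨some ⟨β, hβ⟩, by rw [e', Submodule.span_singleton_smul_eq (IsUnit.mk0 r hr)]; rfl⟩
    · rintro W ⟨(_ | β), rfl⟩
      · exact ⟨1, one_mem _, by rw [map_one]; rfl⟩
      · obtain ⟨s, hs, -, hsf, -, hsG⟩ := S.sh_mem β.2
        obtain ⟨w, hw, hwe, -, -, hwG⟩ := S.flip_mem
        exact ⟨s * w, ⟨mul_mem hs hw, hsG.mul hF hwG⟩, by
          rw [map_mul, LinearEquiv.mul_apply, hwe, hsf]; rfl⟩
  rw [hrange, ← Nat.card_coe_set_eq, Nat.card_range_of_injective hinj, Finite.card_option,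
    card_fixedField hF]

/-- The stabilisers in the good part and in `M` agree. -/
lemma ptFix_good : ptFix (goodPart S.hF e f z M) e = ptFix M e := by
  ext g
  refine ⟨fun h => ⟨h.1.1, h.2⟩, fun h => ⟨⟨h.1, ?_⟩, h.2⟩⟩
  obtain ⟨a, ha⟩ := Submodule.mem_span_singleton.1
    (show app g e ∈ F ∙ e from h.2 ▸ Submodule.mem_span_singleton_self _)
  obtain ⟨-, -, -, -, -, -, -, -, -, -, hG⟩ := S.fix_e h.1 ha.symm
  exact hG

/-- Elements with real eigenvalue at `e` and no scalar part at `z`. -/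
def realStab : Subgroup (GL (Fin 3) F) where
  carrier := {g | g ∈ M ∧ ∃ r β : F, r ^ q = r ∧ r ≠ 0 ∧ β ^ q = β ∧
    app g e = r • e ∧ app g z = z + β • e}
  one_mem' := ⟨one_mem M, 1, 0, one_pow q, one_ne_zero, zero_pow_q S.hF, by simp, by simp⟩
  mul_mem' := fun {g k} ⟨hg, r, β, hr, hr0, hβ, hge, hgz⟩ ⟨hk, r', β', hr', hr0', hβ', hke, hkz⟩ =>
    ⟨mul_mem hg hk, r * r', β + β' * r, by rw [mul_pow, hr, hr'], mul_ne_zero hr0 hr0',
      by rw [add_pow_q S.hF, mul_pow, hβ, hβ', hr],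
      by rw [map_mul, LinearEquiv.mul_apply, hke, map_smul, hge, smul_smul, mul_comm],
      by rw [map_mul, LinearEquiv.mul_apply, hkz, map_add, map_smul, hgz, hge, smul_smul, add_smul,
        add_assoc]⟩
  inv_mem' := fun {g} ⟨hg, r, β, hr, hr0, hβ, hge, hgz⟩ => ⟨inv_mem hg, r⁻¹, -(β / r),
    by rw [inv_pow, hr], inv_ne_zero hr0, by rw [neg_pow_q S.hF, div_pow, hr, hβ],
    (app g).injective (by rw [app_app_inv, map_smul, hge, smul_smul, inv_mul_cancel₀ hr0, one_smul]),
    (app g).injective (by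
      rw [app_app_inv, map_add, map_smul, hgz, hge, smul_smul, neg_mul, div_mul_cancel₀ _ hr0,
        neg_smul, add_neg_cancel_right])⟩

/-- The unipotent part. -/
def uniStab : Subgroup (GL (Fin 3) F) :=
  S.realStab ⊓
    { carrier := {g | app g e = e}
      one_mem' := by simp
      mul_mem' := fun {a b} (ha : app a e = e) (hb : app b e = e) => by
        show app (a * b) e = e
        rw [map_mul, LinearEquiv.mul_apply, hb, ha]
      inv_mem' := fun {a} (ha : app a e = e) => by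
        show app a⁻¹ e = e
        conv_lhs => rw [← ha]
        rw [app_inv_app] }

lemma card_uniStab : Nat.card S.uniStab = q := by
  have hF := S.hF
  refine Eq.trans ?_ (card_fixed hF)
  refine (Nat.card_eq_of_bijective (fun β : {x : F // x ^ q = x} =>
    (⟨(S.sh_mem β.2).choose, ⟨(S.sh_mem β.2).choose_spec.1, 1, β, one_pow q, one_ne_zero, β.2,
      by rw [one_smul]; exact (S.sh_mem β.2).choose_spec.2.1,
      (S.sh_mem β.2).choose_spec.2.2.2.1⟩, (S.sh_mem β.2).choose_spec.2.1⟩ : S.uniStab)) ⟨?_, ?_⟩).symm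
  · intro β β' h
    have h1 := congrArg (fun g : S.uniStab => app (g : GL (Fin 3) F) z) h
    rw [(S.sh_mem β.2).choose_spec.2.2.2.1, (S.sh_mem β'.2).choose_spec.2.2.2.1] at h1
    exact Subtype.ext (smul_left_injective F (S.fr.e_ne hF) (add_left_cancel h1))
  · rintro ⟨g, ⟨hg, r, β, hr, hr0, hβ, hge, hgz⟩, hge'⟩
    exact ⟨⟨β, hβ⟩, Subtype.ext (S.eq_of_ez (S.sh_mem hβ).choose_spec.1 hg
      ((S.sh_mem hβ).choose_spec.2.1.trans (show app g e = e from hge').symm)
      ((S.sh_mem hβ).choose_spec.2.2.2.1.trans hgz.symm))⟩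

lemma card_realStab : Nat.card S.realStab = (q - 1) * q := by
  classical
  have hF := S.hF
  have hq := S.hq
  have hcard : Nat.card ({a : F // a ^ (q - 1) = 1} × {x : F // x ^ q = x}) = (q - 1) * q := by
    rw [Nat.card_prod, card_fixed hF, card_pow_eq_one hF (by omega) ⟨q + 1, by
      rw [mul_comm, ← Nat.sq_sub_sq]⟩]
  have ha0 : ∀ a : {a : F // a ^ (q - 1) = 1}, (a : F) ≠ 0 := fun a e => by
    have := a.2; rw [e, zero_pow (by omega)] at this; exact zero_ne_one this
  have haq : ∀ a : {a : F // a ^ (q - 1) = 1}, (a : F) ^ q = a := fun a => by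
    have h := pow_succ (a : F) (q - 1)
    rw [Nat.sub_add_cancel (by omega : 1 ≤ q)] at h
    rw [h, a.2, one_mul]
  have hel : ∀ (a : {a : F // a ^ (q - 1) = 1}) (β : {x : F // x ^ q = x}),
      ∃ g : S.realStab, app (g : GL (Fin 3) F) e = (a : F) • e ∧
        app (g : GL (Fin 3) F) z = z + ((a : F) * (β : F)) • e := fun a β => by
    obtain ⟨t, ht, hte, -, htz, -⟩ := S.tor_mem (haq a) (ha0 a)
    obtain ⟨s, hs, hse, -, hsz, -⟩ := S.sh_mem β.2
    have h1 : app (t * s) e = (a : F) • e := by rw [map_mul, LinearEquiv.mul_apply, hse, hte]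
    have h2 : app (t * s) z = z + ((a : F) * (β : F)) • e := by
      rw [map_mul, LinearEquiv.mul_apply, hsz, map_add, map_smul, htz, hte, smul_smul, mul_comm]
    exact ⟨⟨t * s, mul_mem ht hs, a, (a : F) * β, haq a, ha0 a,
      by rw [mul_pow, haq a, β.2], h1, h2⟩, h1, h2⟩
  choose el he hz using hel
  rw [← hcard]
  refine (Nat.card_eq_of_bijective (fun p : _ × _ => el p.1 p.2) ⟨?_, ?_⟩).symm
  · rintro ⟨a, β⟩ ⟨a', β'⟩ h
    have h1 := congrArg (fun g : S.realStab => app (g : GL (Fin 3) F) e) h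
    simp only [he] at h1
    have haa : a = a' := Subtype.ext (smul_left_injective F (S.fr.e_ne hF) h1)
    subst haa
    have h2 := congrArg (fun g : S.realStab => app (g : GL (Fin 3) F) z) h
    simp only [hz] at h2
    have h3 := smul_left_injective F (S.fr.e_ne hF) (add_left_cancel h2)
    exact Prod.ext rfl (Subtype.ext (mul_left_cancel₀ (ha0 a) h3))
  · rintro ⟨g, hg, r, β, hr, hr0, hβ, hge, hgz⟩
    have hr1 : r ^ (q - 1) = 1 := mul_right_cancel₀ hr0 (by
      rw [← pow_succ, show q - 1 + 1 = q by omega, hr, one_mul])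
    refine ⟨(⟨r, hr1⟩, ⟨β / r, by rw [div_pow, hβ, hr]⟩), Subtype.ext (S.eq_of_ez (el _ _).2.1 hg
      (by rw [he, hge]) (by rw [hz, hgz, mul_div_cancel₀ _ hr0]))⟩

lemma realStab_le : S.realStab ≤ ptFix M e := fun g ⟨hg, r, _, _, hr0, _, hge, _⟩ =>
  ⟨hg, by rw [hge, Submodule.span_singleton_smul_eq (IsUnit.mk0 r hr0)]⟩

/-- Half of the torus order divides the number of further points. -/
lemma torus_dvd : ∃ c, (ptOrb M e).ncard = (q - 1) / 2 * c + 2 := by
  classical
  have hF := S.hF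
  have hq := S.hq
  have H := hermForm_isHerm hF 3
  haveI : Finite (GL (Fin 3) F) := finite_GL3
  obtain ⟨a, ha, ha0, hao⟩ := S.exists_gen
  obtain ⟨t, ht, hte, htf, htz, -⟩ := S.tor_mem ha ha0
  set T := Subgroup.zpowers t
  have hTM : T ≤ M := Subgroup.zpowers_le.2 ht
  have hpow : ∀ n : ℕ, app (t ^ n) e = a ^ n • e ∧ app (t ^ n) f = (a ^ n)⁻¹ • f ∧ app (t ^ n) z = z := by
    intro n
    refine ⟨pow_app_smul hte n, by rw [pow_app_smul htf n, inv_pow], ?_⟩
    have := pow_app_smul (c := (1 : F)) (by rw [one_smul]; exact htz) n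
    rwa [one_pow, one_smul] at this
  have hT : ∀ g ∈ T, ∃ b : F, b ^ q = b ∧ b ≠ 0 ∧ app g e = b • e ∧ app g f = b⁻¹ • f ∧ app g z = z := by
    intro g hg
    obtain ⟨n, -, rfl⟩ := Finset.mem_image.1 (mem_zpowers_iff_mem_range_orderOf.1 hg)
    exact ⟨a ^ n, by rw [← pow_mul, mul_comm, pow_mul, ha], pow_ne_zero _ ha0, hpow n⟩
  have hto : orderOf t = q - 1 := by
    refine Eq.trans (Nat.dvd_antisymm ?_ ?_) hao
    · refine orderOf_dvd_of_pow_eq_one (S.eq_of_ez (pow_mem ht _) (one_mem M) ?_ ?_)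
      · rw [(hpow _).1, pow_orderOf_eq_one, one_smul, map_one]; rfl
      · rw [(hpow _).2.2, map_one]; rfl
    · refine orderOf_dvd_of_pow_eq_one (smul_left_injective F (S.fr.e_ne hF) ?_)
      show a ^ orderOf t • e = (1 : F) • e
      rw [← (hpow _).1, pow_orderOf_eq_one, map_one, one_smul]; rfl
  let _ := spaceAct T
  let Y := {W : Submodule F V // W ∈ ptOrb M e ∧ W ≠ F ∙ e ∧ W ≠ F ∙ f}
  have hline : ∀ g ∈ T, (F ∙ e).map (app g).toLinearMap = F ∙ e ∧
      (F ∙ f).map (app g).toLinearMap = F ∙ f := fun g hg => by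
    obtain ⟨b, -, hb, h1, h2, -⟩ := hT g hg
    rw [map_span_point, map_span_point, h1, h2, Submodule.span_singleton_smul_eq (IsUnit.mk0 b hb),
      Submodule.span_singleton_smul_eq (IsUnit.mk0 _ (inv_ne_zero hb))]
    exact ⟨rfl, rfl⟩
  let act : MulAction T Y :=
    { smul := fun g W => ⟨g • W.1, by
        obtain ⟨k, hk, hW⟩ := W.2.1
        refine ⟨⟨(g : GL (Fin 3) F) * k, mul_mem (hTM g.2) hk, ?_⟩, fun e' => W.2.2.1 ?_,
          fun e' => W.2.2.2 ?_⟩
        · show W.1.map (app (g : GL (Fin 3) F)).toLinearMap = _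
          rw [hW, map_span_point, map_mul, LinearEquiv.mul_apply]
        · refine smul_left_cancel g (?_ : g • W.1 = g • (F ∙ e))
          rw [e']; exact (hline g g.2).1.symm
        · refine smul_left_cancel g (?_ : g • W.1 = g • (F ∙ f))
          rw [e']; exact (hline g g.2).2.symm⟩
      one_smul := fun W => Subtype.ext (one_smul T W.1)
      mul_smul := fun g h W => Subtype.ext (mul_smul g h W.1) }
  have hstab : ∀ W : Y, Nat.card (MulAction.stabilizer T W) ≤ 2 := by
    intro W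
    have hb : ∀ g : MulAction.stabilizer T W, ∃ b : F, b ^ 2 = 1 ∧
        app ((g : T) : GL (Fin 3) F) e = b • e := by
      rintro ⟨g, hg⟩
      obtain ⟨b, hbq, hb0, h1, h2, h3⟩ := hT g g.2
      refine ⟨b, ?_, h1⟩
      obtain ⟨k, hk, hW⟩ := W.2.1
      set x := app k e
      have hx0 : x ≠ 0 := fun h => S.fr.e_ne hF ((app k).map_eq_zero_iff.1 h)
      have hxx : hh x x = 0 := (herm_app hF (S.hMK hk).1 e e).trans S.fr.ee
      have e' : W.1.map (app (g : GL (Fin 3) F)).toLinearMap = W.1 := congrArg Subtype.val hg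
      rw [hW, map_span_point] at e'
      obtain ⟨μ, hμ⟩ := Submodule.mem_span_singleton.1
        (show app (g : GL (Fin 3) F) x ∈ F ∙ x from e' ▸ Submodule.mem_span_singleton_self _)
      have hgU := (S.hMK (hTM g.2)).1
      have hnot : ∀ v : V, v ≠ 0 → hh v v = 0 → W.1 ≠ F ∙ v → hh x v ≠ 0 := by
        intro v hv0 hvv hne
        refine herm_ne_zero hF hx0 hxx hvv fun hmem => hne ?_
        obtain ⟨c, rfl⟩ := Submodule.mem_span_singleton.1 hmem
        rw [hW, Submodule.span_singleton_smul_eq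
          (IsUnit.mk0 c fun h => hv0 (by rw [h, zero_smul]))]
      have hxe := hnot e (S.fr.e_ne hF) S.fr.ee W.2.2.1
      have hxf := hnot f (S.fr.f_ne hF) S.fr.ff W.2.2.2
      have e1 := herm_app hF hgU x e
      have e2 := herm_app hF hgU x f
      rw [← hμ, h1, H.smul_left, H.smul_right, hbq, ← mul_assoc] at e1
      rw [← hμ, h2, H.smul_left, H.smul_right, inv_pow, hbq, ← mul_assoc] at e2
      have m1 : μ * b = 1 := mul_right_cancel₀ hxe (by rw [one_mul]; exact e1)
      have m2 : μ * b⁻¹ = 1 := mul_right_cancel₀ hxf (by rw [one_mul]; exact e2)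
      rw [← div_eq_mul_inv, div_eq_one_iff_eq hb0] at m2
      rw [pow_two, ← m1, m2]
    choose b hb2 hbe using hb
    have hz : ∀ g : MulAction.stabilizer T W, app ((g : T) : GL (Fin 3) F) z = z := fun g => by
      obtain ⟨-, -, -, -, -, h⟩ := hT _ (g : T).2; exact h
    refine (Nat.card_le_card_of_injective (fun g => (⟨b g, hb2 g⟩ : {x : F // x ^ 2 = 1}))
      fun g g' h => ?_).trans (le_of_eq ?_)
    · refine Subtype.ext (Subtype.ext (S.eq_of_ez (hTM (g : T).2) (hTM (g' : T).2) ?_ ?_))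
      · rw [hbe, hbe, show b g = b g' from congrArg Subtype.val h]
      · rw [hz, hz]
    · refine card_pow_eq_one hF two_ne_zero ?_
      have h4 : (q ^ 2) % 2 = 1 := by rw [Nat.pow_mod, S.odd]
      omega
  have horb : ∀ W : Y, (q - 1) / 2 ∣ Nat.card (MulAction.orbit T W) := by
    intro W
    have h := Nat.card_congr (MulAction.orbitProdStabilizerEquivGroup T W)
    rw [Nat.card_prod, show Nat.card T = q - 1 from (Nat.card_zpowers t).trans hto] at h
    have hs := hstab W
    have hs0 := Nat.card_pos (α := MulAction.stabilizer T W)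
    have := S.odd
    rcases (show Nat.card (MulAction.stabilizer T W) = 1 ∨ Nat.card (MulAction.stabilizer T W) = 2
      by omega) with h' | h' <;> rw [h'] at h
    · exact ⟨2, by omega⟩
    · exact ⟨1, by omega⟩
  haveI : Fintype (Quotient (MulAction.orbitRel T Y)) := Fintype.ofFinite _
  have hY : (q - 1) / 2 ∣ Nat.card Y := by
    rw [Nat.card_congr (MulAction.selfEquivSigmaOrbits T Y), Nat.card_sigma]
    exact Finset.dvd_sum fun ω _ => horb _
  obtain ⟨c, hc⟩ := hY
  refine ⟨c, ?_⟩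
  obtain ⟨w, hw, hwe, -, -, -⟩ := S.flip_mem
  have me : (F ∙ e) ∈ ptOrb M e := ⟨1, one_mem M, by rw [map_one]; rfl⟩
  have mf : (F ∙ f) ∈ ptOrb M e := ⟨w, hw, by rw [hwe]⟩
  have hne : (F ∙ f) ≠ F ∙ e := fun h => by
    obtain ⟨c, hc⟩ := Submodule.mem_span_singleton.1
      (show f ∈ F ∙ e from h ▸ Submodule.mem_span_singleton_self _)
    have h' := congrArg (fun y => hh y e) hc
    simp [H.smul_left, S.fr.ee, S.fr.fe hF] at h'
  have hd : (ptOrb M e).ncard = Nat.card Y + 2 := by
    rw [← Set.ncard_diff_singleton_add_one me,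
      ← Set.ncard_diff_singleton_add_one (s := ptOrb M e \ {F ∙ e}) ⟨mf, hne⟩, ← Nat.card_coe_set_eq]
    have hset : (ptOrb M e \ {F ∙ e}) \ {F ∙ f} =
        {W : Submodule F V | W ∈ ptOrb M e ∧ W ≠ F ∙ e ∧ W ≠ F ∙ f} := by
      ext W; simp only [Set.mem_diff, Set.mem_singleton_iff, Set.mem_setOf_eq, and_assoc, ne_eq]
    rw [Nat.card_congr (Equiv.setCongr hset), add_assoc]
    rfl
  rw [hd, hc]

/-- An overgroup with an element outside the good ones is transitive on isotropic points. -/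
theorem transitive {g : GL (Fin 3) F} (hg : g ∈ M) (hgood : ¬ Good q e f z g) :
    (ptOrb M e).ncard = q ^ 3 + 1 := by
  classical
  have hF := S.hF
  have hq := S.hq
  haveI : Finite (GL (Fin 3) F) := finite_GL3
  set G := goodPart hF e f z M
  have hGM : G ≤ M := fun x hx => hx.1
  obtain ⟨i, hi⟩ := Subgroup.card_dvd_of_le hGM
  have hcG := card_ptOrb_mul G e
  rw [S.good_orbit, S.ptFix_good] at hcG
  have hcM := card_ptOrb_mul M e
  have hsize : (ptOrb M e).ncard = (q + 1) * i := by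
    refine Nat.eq_of_mul_eq_mul_right (Nat.card_pos (α := ptFix M e)) ?_
    rw [hcM, hi, ← hcG]; ring
  -- a p-group fixing the conic point
  obtain ⟨p, n, hp, hchar, hqp, hn⟩ := exists_char hF
  haveI : Fact p.Prime := ⟨hp⟩
  haveI := hchar
  obtain ⟨c, hc⟩ := point_orbit hF S.hMK (P := S.uniStab) (fun x hx => hx.1.1)
    (IsPGroup.of_card (n := n) (S.card_uniStab.trans hqp)) (S.fr.e_ne hF) S.fr.ee fun x hx => hx.2
  rw [S.card_uniStab] at hc
  have hi1 : i % q = 1 := by
    have h1 : ((q + 1) * i) % q = 1 := by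
      rw [← hsize, hc, Nat.mul_add_mod, Nat.mod_eq_of_lt (by omega)]
    rwa [add_mul, one_mul, Nat.mul_add_mod] at h1
  have hd : i ∣ q ^ 2 * (q ^ 3 + 1) := by
    obtain ⟨w, hw⟩ := Subgroup.card_dvd_of_le (show M ≤ suGL 3 F q from S.hMK)
    obtain ⟨u, hu⟩ := Subgroup.card_dvd_of_le S.realStab_le
    rw [S.card_realStab] at hu
    rw [Aschbacher.SU3.card_su3 hF, ← hcM, hsize, hu] at hw
    refine ⟨u * w, ?_⟩
    have h1 : 0 < (q + 1) * ((q - 1) * q) := by
      have : 0 < q - 1 := by omega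
      positivity
    refine Nat.eq_of_mul_eq_mul_left h1 ?_
    have h2 : q ^ 2 - 1 = (q + 1) * (q - 1) := by rw [← Nat.sq_sub_sq, one_pow]
    rw [h2] at hw
    calc (q + 1) * ((q - 1) * q) * (q ^ 2 * (q ^ 3 + 1))
        = q ^ 3 * ((q + 1) * (q - 1)) * (q ^ 3 + 1) := by ring
      _ = (q + 1) * i * ((q - 1) * q * u) * w := hw
      _ = _ := by ring
  have hle := ptOrb_le hF S.hMK (S.fr.e_ne hF) S.fr.ee
  rw [hsize] at hle
  rcases orth_numbers (by omega) hd hi1 (by rwa [mul_comm]) with rfl | rfl | h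
  · exfalso
    rw [mul_one] at hi
    have hMG : G = M := Subgroup.eq_of_le_of_card_ge hGM (le_of_eq hi)
    exact hgood ((hMG.symm ▸ hg : g ∈ G).2)
  · exfalso
    obtain ⟨c, hc⟩ := S.torus_dvd
    rw [hsize] at hc
    -- `(q + 1)² ≡ 4`
    have hodd := S.odd
    obtain ⟨m, rfl⟩ : ∃ m, q = 2 * m + 1 := ⟨q / 2, by omega⟩
    rw [show (2 * m + 1 - 1) / 2 = m by omega] at hc
    have h2 : m ∣ 2 := by
      refine (Nat.dvd_add_right (Dvd.intro (4 * m + 8) rfl)).1 (?_ : m ∣ m * (4 * m + 8) + 2)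
      exact ⟨c, by nlinarith⟩
    have := Nat.le_of_dvd (by norm_num) h2
    omega
  · rw [hsize, mul_comm]; exact h

end OSetup

end Cfsg.Agent.SU3Max
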