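import Cfsg.Agent.Lib.SU3Max.Basic

/-!
# The stabiliser of a non-degenerate point of `SU₃(q)` is maximal

Main results: `noFix_of_line`, `point_maximal`.
-/

set_option autoImplicit false
set_option linter.unusedSectionVars false

namespace Cfsg.Agent.SU3Max

open Matrix Cfsg.Agent.Transvect Cfsg.Agent.Unitary Cfsg.Agent.C5.Uni
open scoped MatrixGroups

variable {F : Type*} [Field F] [Fintype F] {q : ℕ}

local notation "V" => (Fin 3 → F)
local notation "hh" => Cfsg.hermForm 3 F q

/-- The root groups of a line fix only its pole. -/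
theorem noFix_of_line (hF : Fintype.card F = q ^ 2) {M : Subgroup (GL (Fin 3) F)} {e f z : V}
    (h : Frame q e f z) (he : e ∈ centres q M) (hf : f ∈ centres q M)
    (hz : ∃ g ∈ M, app g z ∉ F ∙ z) : NoFix M := by
  have H := hermForm_isHerm hF 3
  obtain ⟨δ, hδ0, hδ⟩ := exists_skew hF
  have hδ' : δ + δ ^ q = 0 := by rw [hδ, add_neg_cancel]
  intro x hx
  by_contra! hall
  -- what `tu v δ` fixes is orthogonal to `v` or on it
  have step : ∀ v : V, v ∈ centres q M → hh x v ≠ 0 → v ∈ F ∙ x := by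
    intro v hv hxv
    have h1 := hall _ (((mem_centres_iff hF).1 hv).2 δ hδ')
    rw [tu_apply hv.1, Submodule.add_mem_iff_right _ (Submodule.mem_span_singleton_self x),
      Submodule.smul_mem_iff _ (mul_ne_zero hδ0 hxv)] at h1
    exact h1
  by_cases hxe : hh x e = 0
  · by_cases hxf : hh x f = 0
    · obtain ⟨a, ha⟩ := Submodule.mem_span_singleton.1 (h.mem_pole hF hxe hxf)
      have ha0 : a ≠ 0 := fun e' => hx (by rw [← ha, e', zero_smul])
      obtain ⟨g, hg, hgz⟩ := hz
      have := hall g hg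
      rw [← ha, map_smul, Submodule.span_singleton_smul_eq (IsUnit.mk0 a ha0)] at this
      exact hgz ((Submodule.smul_mem_iff _ ha0).1 this)
    · obtain ⟨a, ha⟩ := Submodule.mem_span_singleton.1 (step f hf hxf)
      have ha0 : a ≠ 0 := fun e' => h.f_ne hF (by rw [← ha, e', zero_smul])
      have := h.fe hF
      rw [← ha, H.smul_left, hxe, mul_zero] at this
      exact zero_ne_one this
  · obtain ⟨a, ha⟩ := Submodule.mem_span_singleton.1 (step e he hxe)
    have ha0 : a ≠ 0 := fun e' => h.e_ne hF (by rw [← ha, e', zero_smul])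
    have := h.ee
    rw [← ha, H.smul_right, H.smul_left] at this
    refine hxe ?_
    have hxx : hh x x = 0 := by
      simpa [ha0, pow_q_eq_zero hF] using this
    rw [← ha, H.smul_right, hxx, mul_zero]

/-- The stabiliser of a non-degenerate point is maximal. -/
theorem point_maximal (hF : Fintype.card F = q ^ 2) (hq : 3 ≤ q) (W : Submodule F V) (hW0 : W ≠ ⊥)
    (hnd : Cfsg.Geo.IsNondegenerateOn hh W) (hdim : 2 * Module.finrank F W < 3) :
    Cfsg.Geo.IsMaximalIn (suGL 3 F q) (Cfsg.Geo.subspaceStabilizer W ⊓ suGL 3 F q) := by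
  have H := hermForm_isHerm hF 3
  obtain ⟨z, hzW, hz0⟩ := Submodule.exists_mem_ne_zero_of_ne_bot hW0
  have hW : W = F ∙ z := by
    refine (Submodule.eq_of_le_of_finrank_le ((Submodule.span_singleton_le_iff_mem _ _).2 hzW) ?_).symm
    rw [finrank_span_singleton hz0]
    omega
  have hzz : hh z z ≠ 0 := by
    obtain ⟨⟨x, hx, hxz⟩, -⟩ := hnd z hzW hz0
    obtain ⟨a, rfl⟩ := Submodule.mem_span_singleton.1 (hW ▸ hx)
    intro e
    exact hxz (by rw [H.smul_left, e, mul_zero])
  obtain ⟨e, he0, -, hez, hee⟩ := exists_iso_perp hF (le_refl 3) hzz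
  obtain ⟨f, hfr⟩ := exists_frame_point hF he0 hee hzz hez
  refine Unitary.isMaximalIn_of_forall inf_le_right ?_ fun M hHM hMK g hg hgH => ?_
  · obtain ⟨a, ha⟩ := exists_trace_eq hF (c := -hh z z) (by rw [neg_pow_q hF, H.self_fixed])
    set p := a • e + f + z with hp
    have hpp : hh p p = 0 := by
      simp only [hp, H.add_left, H.add_right hF, H.smul_left, H.smul_right, hfr.ee, hfr.ef,
        hfr.fe hF, hfr.ff, hfr.ez, hfr.fz, hfr.ze hF, hfr.zf hF]
      linear_combination ha
    have hzp : hh z p = hh z z := by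
      simp [hp, H.add_right hF, H.smul_right, hfr.ze hF, hfr.zf hF]
    obtain ⟨δ, hδ0, hδ⟩ := exists_skew hF
    refine ⟨tu q p δ, tu_mem_suGL hF hpp (by rw [hδ, add_neg_cancel]), fun hmem => ?_⟩
    have h1 := ((hmem.1 z).1 hzW)
    change app (tu q p δ) z ∈ W at h1
    rw [hW, tu_apply hpp, Submodule.add_mem_iff_right _ (Submodule.mem_span_singleton_self z),
      Submodule.smul_mem_iff _ (mul_ne_zero hδ0 (hzp ▸ hzz))] at h1
    obtain ⟨c, hc⟩ := Submodule.mem_span_singleton.1 h1
    have h2 := congrArg (fun y => hh y e) hc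
    simp [hp, H.add_left, H.smul_left, hfr.ee, hfr.fe hF, hfr.ze hF] at h2
  have hcen : ∀ v, hh v v = 0 → hh v z = 0 → v ∈ centres q M := fun v hv hvz =>
    centres_of_stabilizer hF hHM hv (Or.inr fun x hx => by
      obtain ⟨a, rfl⟩ := Submodule.mem_span_singleton.1 (hW ▸ hx)
      rw [H.smul_left, (H.eq_zero_symm hF).1 hvz, mul_zero])
  refine le_of_centre hF hq hMK ?_ (hfr.e_ne hF) (hcen e hfr.ee hfr.ez)
  refine noFix_of_line hF hfr (hcen e hfr.ee hfr.ez) (hcen f hfr.ff hfr.fz) ⟨g, hg, fun hgz => ?_⟩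
  refine hgH ⟨mem_subspaceStabilizer_of_le fun x hx => ?_, hMK hg⟩
  obtain ⟨a, rfl⟩ := Submodule.mem_span_singleton.1 (hW ▸ hx)
  rw [← app_apply, map_smul]
  exact W.smul_mem _ (hW ▸ hgz)

end Cfsg.Agent.SU3Max
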