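import Cfsg.Agent.Lib.SU3Max.SingerSmall
import Cfsg.Agent.Lib.PrimeDim.UnitaryBasic

/-!
# The Singer normaliser is maximal in `SU₃(q)`

Main results: `singer_maximal`.
-/

set_option autoImplicit false
set_option linter.unusedSectionVars false

namespace Cfsg.Agent.SU3Max.Singer

open Matrix Module Cfsg.Agent.Transvect Cfsg.Agent.Unitary Cfsg.Agent.C5.Uni
open Cfsg.Agent.SL3Max.Singer (IsMulg Semi)

variable {F : Type*} [Field F] [Fintype F] {q : ℕ}

lemma num_four : ∀ s < 66, s ∣ 1560 → s % 8 = 1 → s ≠ 1 → 3 ∣ 1560 ∧ ¬ 3 ∣ s := by decide +kernel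

lemma num_eight_a : ∀ s < 514, s ∣ 5472 → s % 32 = 1 → s ≠ 1 → 7 ∣ 16416 ∧ ¬ 7 ∣ s := by
  decide +kernel

lemma num_eight_b : ∀ s < 514, s ∣ 57456 → s % 16 = 1 → s ≠ 1 → 7 ∣ 172368 ∧ ¬ 7 ∣ s := by
  decide +kernel

lemma charTwo_of (hF : Fintype.card F = q ^ 2) {e : ℕ} (hq : q = 2 ^ e) : CharP F 2 := by
  obtain ⟨p, m, hp, hc, hqp, hm⟩ := Cfsg.Agent.Unitary.exists_prime_pow hF
  have : p ∣ 2 ^ e := by rw [← hq, hqp]; exact dvd_pow_self p (by omega)
  rwa [(Nat.prime_dvd_prime_iff_eq hp Nat.prime_two).1 (hp.dvd_of_dvd_pow this)] at hc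

/-- The statement for an embedded extension. -/
theorem singer_aux {L : Type*} [Field L] [Fintype L] [Algebra F L] (hdeg : finrank F L = 3)
    (hF : Fintype.card F = q ^ 2) (hq : 3 ≤ q) (h3 : q ≠ 3) (h5 : q ≠ 5)
    (j : L →ₐ[F] Matrix (Fin 3) (Fin 3) F) {K : Subalgebra F (Matrix (Fin 3) (Fin 3) F)}
    (hjK : ∀ x, x ∈ K ↔ ∃ l, j l = x)
    (hac : Cfsg.Geo.IsAdjointClosedFor (Cfsg.hermForm 3 F q) K)
    (M : Subgroup (GL (Fin 3) F))
    (hHM : Cfsg.Geo.subalgebraNormalizer K ⊓ suGL 3 F q ≤ M) (hMK : M ≤ suGL 3 F q) :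
    M ≤ Cfsg.Geo.subalgebraNormalizer K ⊓ suGL 3 F q ∨ suGL 3 F q ≤ M := by
  obtain ⟨Φ, S, hN⟩ := exists_ssetup hF hdeg j hjK hac
  rcases S.overgroup_cases hN hq h3 h5 hHM hMK with h | h | ⟨h4, hc⟩ | ⟨h8, hc⟩
  · exact Or.inl h
  · exact Or.inr h
  · refine Or.inr (Classical.byContradiction fun hpr => ?_)
    haveI : CharP F 2 := charTwo_of hF (e := 2) h4
    refine small_false hF Nat.prime_three (by norm_num) h4 hMK
      (S.noFix hq ((S.torus_le_H hN).trans hHM)) hpr (e := 3) (c := 1) (by norm_num)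
      (by rw [hc]; norm_num) one_ne_zero (fun _ => one_dvd _) ?_
    intro s hs hd hmod h1
    rw [hc] at hd ⊢
    rw [h4] at hs
    exact num_four s (by norm_num at hs; omega) (by simpa using hd) hmod h1
  · refine Or.inr (Classical.byContradiction fun hpr => ?_)
    haveI : CharP F 2 := charTwo_of hF (e := 3) h8
    have hTM := (S.torus_le_H hN).trans hHM
    obtain ⟨ω, hω⟩ : ∃ ω : F, orderOf ω = 3 := by
      haveI : Fact (Nat.Prime 3) := ⟨Nat.prime_three⟩
      obtain ⟨u, hu⟩ := exists_prime_orderOf_dvd_card' (G := Fˣ) 3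
        (by rw [Nat.card_units, Nat.card_eq_fintype_card, hF, h8]; norm_num)
      exact ⟨(u : F), by rw [orderOf_units, hu]⟩
    have hω3 : algebraMap F L ω ^ 3 = 1 := by
      rw [← map_pow, ← hω, pow_orderOf_eq_one, map_one]
    obtain ⟨z, hz, hzu⟩ := S.exists_torus (u := algebraMap F L ω) (by
      rw [h8, show 8 * 8 - 8 + 1 = 3 * 19 from rfl, pow_mul, hω3, one_pow])
    have hzw : ∀ w : Fin 3 → F, app z w = ω • w := fun w => by
      obtain ⟨y, rfl⟩ := Φ.surjective w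
      rw [hzu, ← Algebra.smul_def, map_smul]
    have hω0 : ω ≠ 0 := fun h => by rw [h, orderOf_zero] at hω; norm_num at hω
    have hzo : orderOf z = 3 := by
      refine orderOf_eq_prime (hp := ⟨Nat.prime_three⟩) ?_ ?_
      · have h := hzu.pow 3
        rw [hω3] at h
        exact h.unique SL3Max.Singer.isMulg_one
      · intro h1
        have h := hzw (Pi.single 0 1)
        rw [h1, map_one] at h
        have h2 := congrFun h 0
        simp at h2
        rw [← h2, orderOf_one] at hω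
        norm_num at hω
    have hstab : ∀ w : Fin 3 → F, 3 ∣ Nat.card (ptFix M w) := fun w => by
      have hmem : z ∈ ptFix M w :=
        ⟨hTM hz, by rw [hzw, Submodule.span_singleton_smul_eq (IsUnit.mk0 ω hω0)]⟩
      have h := orderOf_dvd_natCard (⟨z, hmem⟩ : ptFix M w)
      rwa [← Subgroup.orderOf_coe, hzo] at h
    have hql : q = 7 + 1 := h8
    rcases hc with hc | hc
    · refine small_false hF (by norm_num : Nat.Prime 7) (by norm_num) hql hMK (S.noFix hq hTM) hpr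
        (e := 5) (c := 3) (by norm_num) (by rw [hc]; norm_num) (by norm_num) hstab ?_
      intro s hs hd hmod h1
      rw [hc] at hd ⊢
      rw [h8] at hs
      exact num_eight_a s (by norm_num at hs; omega) (by norm_num at hd; exact hd) hmod h1
    · refine small_false hF (by norm_num : Nat.Prime 7) (by norm_num) hql hMK (S.noFix hq hTM) hpr
        (e := 4) (c := 3) (by norm_num) (by rw [hc]; norm_num) (by norm_num) hstab ?_
      intro s hs hd hmod h1
      rw [hc] at hd ⊢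
      rw [h8] at hs
      exact num_eight_b s (by norm_num at hs; omega) (by norm_num at hd; exact hd) hmod h1

/-- Clause 4: the normaliser of a cubic field subalgebra is maximal. -/
theorem singer_maximal (hF : Fintype.card F = q ^ 2) (hq : 3 ≤ q) (h3 : q ≠ 3) (h5 : q ≠ 5)
    {K : Subalgebra F (Matrix (Fin 3) (Fin 3) F)} (hK : Cfsg.Geo.IsFieldSubalgebra 3 K)
    (hac : Cfsg.Geo.IsAdjointClosedFor (Cfsg.hermForm 3 F q) K) :
    Cfsg.Geo.IsMaximalIn (Cfsg.GU 3 F q ⊓ Cfsg.Geo.specialLinear (Fin 3) F)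
      (Cfsg.Geo.subalgebraNormalizer K ⊓ (Cfsg.GU 3 F q ⊓ Cfsg.Geo.specialLinear (Fin 3) F)) := by
  classical
  have hnle := PrimeDim.not_su_le_subalgebraNormalizer hF (le_refl 3) (by norm_num) hK
  refine ⟨lt_of_le_of_ne inf_le_right fun h => hnle (inf_eq_right.1 h), fun M hM₁ hM₂ => ?_⟩
  haveI : Finite (Matrix (Fin 3) (Fin 3) F) := inferInstanceAs (Finite (Fin 3 → Fin 3 → F))
  have hA : IsField K := ⟨exists_pair_ne _, fun x y => Subtype.ext (hK.comm _ x.2 _ y.2),
    fun {x} hx => by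
      obtain ⟨y, hy, h⟩ := hK.inv _ x.2 (fun h => hx (Subtype.ext h))
      exact ⟨⟨y, hy⟩, Subtype.ext h⟩⟩
  letI : Field K := hA.toField
  haveI : Finite K := Subtype.finite
  letI : Fintype K := Fintype.ofFinite K
  rcases singer_aux (L := K) hK.finrank_eq hF hq h3 h5 K.val
    (fun x => ⟨fun h => ⟨⟨x, h⟩, rfl⟩, fun ⟨l, hl⟩ => hl ▸ l.2⟩) hac M hM₁ hM₂ with h | h
  · exact Or.inl (le_antisymm h hM₁)
  · exact Or.inr (le_antisymm hM₂ h)

end Cfsg.Agent.SU3Max.Singer
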