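import Mathlib
import Cfsg.Agent.EqLemmas

/-!
# Factorisations of the index of a Singer normaliser of `SU₃(q)`

Main results: `no_split`.
-/

set_option autoImplicit false

namespace Cfsg.Agent.SU3Max.Singer

/-- Whether `(q, t)` gives a factorisation outside the known list. -/
def bad (q t : ℕ) : Bool :=
  let n := q * q - q + 1
  let T := q ^ 3 * (q * q - 1) * (q + 1)
  decide (4 ≤ q ∧ 0 < t ∧ T % (3 + t * n) = 0 ∧ t * n % 3 = 0 ∧ (3 + t * n) ^ 2 ≤ 3 * T) &&
    !decide (q = 5 ∨ q = 6 ∨ q = 14 ∨ q = 35 ∨ (q = 4 ∧ t = 9) ∨ (q = 8 ∧ t = 5))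

/-- Whether some `t < k` is bad for `q`. -/
def anyBad (q : ℕ) : ℕ → Bool
  | 0 => false
  | k + 1 => bad q k || anyBad q k

/-- Whether some `q < k` has a bad `t`. -/
def anyBadQ : ℕ → Bool
  | 0 => false
  | k + 1 => anyBad k (3 * k) || anyBadQ k

set_option maxRecDepth 100000 in
lemma anyBadQ_eq : anyBadQ 181 = false := by decide +kernel

lemma anyBad_of {q k t : ℕ} (ht : t < k) (h : anyBad q k = false) : bad q t = false := by
  induction k with
  | zero => omega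
  | succ k ih =>
    rw [anyBad, Bool.or_eq_false_iff] at h
    rcases Nat.lt_or_eq_of_le (Nat.lt_succ_iff.1 ht) with h' | rfl
    exacts [ih h' h.2, h.1]

lemma anyBadQ_of {q k : ℕ} (hq : q < k) (h : anyBadQ k = false) : anyBad q (3 * q) = false := by
  induction k with
  | zero => omega
  | succ k ih =>
    rw [anyBadQ, Bool.or_eq_false_iff] at h
    rcases Nat.lt_or_eq_of_le (Nat.lt_succ_iff.1 hq) with h' | rfl
    exacts [ih h' h.2, h.1]

lemma small_check {q t : ℕ} (hq : q < 181) (ht : t < 3 * q)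
    (h1 : (3 + t * (q * q - q + 1)) ∣ q ^ 3 * (q * q - 1) * (q + 1))
    (h2 : 3 ∣ t * (q * q - q + 1))
    (h3 : (3 + t * (q * q - q + 1)) ^ 2 ≤ 3 * (q ^ 3 * (q * q - 1) * (q + 1))) :
    q < 4 ∨ t = 0 ∨ q = 5 ∨ q = 6 ∨ q = 14 ∨ q = 35 ∨ (q = 4 ∧ t = 9) ∨ (q = 8 ∧ t = 5) := by
  have h := anyBad_of ht (anyBadQ_of hq anyBadQ_eq)
  by_cases h4 : 4 ≤ q
  swap
  · exact Or.inl (by omega)
  by_cases h0 : 0 < t
  swap
  · exact Or.inr (Or.inl (by omega))
  simp only [bad, Bool.and_eq_false_iff, decide_eq_false_iff_not, Bool.not_eq_false',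
    decide_eq_true_eq] at h
  rcases h with h | h
  · exact absurd ⟨h4, h0, Nat.mod_eq_zero_of_dvd h1, Nat.mod_eq_zero_of_dvd h2, h3⟩ h
  · exact Or.inr (Or.inr h)

lemma not_isPrimePow_two {a b n : ℕ} (ha : a.Prime) (hb : b.Prime) (hne : a ≠ b) (hna : a ∣ n)
    (hnb : b ∣ n) : ¬ IsPrimePow n := by
  intro h
  obtain ⟨p, m, hp, -, rfl⟩ := (isPrimePow_nat_iff n).1 h
  exact hne (((Nat.prime_dvd_prime_iff_eq ha hp).1 (ha.dvd_of_dvd_pow hna)).trans
    ((Nat.prime_dvd_prime_iff_eq hb hp).1 (hb.dvd_of_dvd_pow hnb)).symm)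

/-- The product of the parts of `D` at `q` and at `q - 1`. -/
lemma parts_le {q t D : ℕ} (hpp : IsPrimePow q) (hq : 181 ≤ q) (ht0 : 0 < t) (ht : t < 2 * q)
    (hD : 3 * D = 3 + t * (q * q - q + 1)) :
    Nat.gcd D (q ^ 3) * Nat.gcd D (q - 1) ≤ 6 * t := by
  obtain ⟨p, m, hp, hm, rfl⟩ := (isPrimePow_nat_iff q).1 hpp
  set q := p ^ m with hqdef
  obtain ⟨r, hr⟩ : ∃ r, q = r + 1 := ⟨q - 1, by omega⟩
  have hn : q * q - q + 1 = q * r + 1 := by
    rw [hr]; have : (r + 1) * (r + 1) - (r + 1) = (r + 1) * r := by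
      rw [← Nat.mul_sub_one]; simp
    omega
  have hr' : q - 1 = r := by omega
  rw [hn] at hD
  rw [hr']
  set A := Nat.gcd D (q ^ 3)
  set B := Nat.gcd D r
  have hA3 : A ∣ 3 + t * (q * r + 1) := hD ▸ dvd_mul_of_dvd_right (Nat.gcd_dvd_left _ _) 3
  have hB : B ∣ 3 + t := by
    have h1 : B ∣ 3 + t * (q * r + 1) := hD ▸ dvd_mul_of_dvd_right (Nat.gcd_dvd_left _ _) 3
    rw [show 3 + t * (q * r + 1) = (3 + t) + t * q * r by ring] at h1
    exact (Nat.dvd_add_left ((Nat.gcd_dvd_right D r).mul_left _)).1 h1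
  have hcqr : Nat.Coprime q r := by
    rw [hr]; exact (Nat.coprime_self_add_left).2 (Nat.coprime_one_left r)
  have hcop : Nat.Coprime A B :=
    Nat.Coprime.coprime_dvd_left (Nat.gcd_dvd_right _ _)
      ((hcqr.pow_left 3).coprime_dvd_right (Nat.gcd_dvd_right _ _))
  obtain ⟨a, ha, hAa⟩ := (Nat.dvd_prime_pow hp).1
    (show A ∣ p ^ (m * 3) by rw [pow_mul]; exact Nat.gcd_dvd_right _ _)
  by_cases hlt : a ≤ m
  · have hAq : A ∣ q := by rw [hAa]; exact pow_dvd_pow p hlt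
    have hA : A ∣ 3 + t := by
      rw [show 3 + t * (q * r + 1) = (3 + t) + t * q * r by ring] at hA3
      exact (Nat.dvd_add_left ((hAq.mul_left t).mul_right r)).1 hA3
    have := Nat.le_of_dvd (by omega) (hcop.mul_dvd_of_dvd_of_dvd hA hB)
    omega
  have hqA : q ∣ A := by rw [hAa]; exact pow_dvd_pow p (by omega)
  have hq3t : q ∣ 3 + t := by
    have h1 := hqA.trans hA3
    rw [show 3 + t * (q * r + 1) = (3 + t) + t * r * q by ring] at h1
    exact (Nat.dvd_add_left (dvd_mul_left q (t * r))).1 h1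
  obtain ⟨j, hj⟩ := hq3t
  have hj2 : j = 1 ∨ j = 2 := by
    have h1 : 0 < j := Nat.pos_of_ne_zero fun h => by simp [h] at hj
    have h2 : j < 3 := by
      by_contra h
      have : q * 3 ≤ q * j := Nat.mul_le_mul_left q (Nat.not_lt.1 h)
      omega
    omega
  obtain ⟨A', hA'⟩ := hqA
  have hA'd : A' ∣ j + t * r := by
    refine Nat.dvd_of_mul_dvd_mul_left (show 0 < q by omega) ?_
    rw [← hA', show q * (j + t * r) = q * j + t * r * q by ring, ← hj]
    rwa [show 3 + t + t * r * q = 3 + t * (q * r + 1) by ring]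
  have hpA' : A' = p ^ (a - m) := by
    refine Nat.eq_of_mul_eq_mul_left (show 0 < q by omega) ?_
    rw [← hA', hAa, hqdef, ← pow_add]; congr 1; omega
  have hA'5 : A' ≤ j + 3 := by
    have key : ∀ k : ℕ, k ∣ q → k ∣ j + t * r → k ∣ j + 3 := by
      intro k hk1 hk2
      have h1 : (k : ℤ) ∣ (j : ℤ) + t * r := by exact_mod_cast hk2
      have h2 : (k : ℤ) ∣ (q : ℤ) := by exact_mod_cast hk1
      have h3 : (q : ℤ) * j = 3 + t := by exact_mod_cast hj.symm
      have h4 : (r : ℤ) + 1 = q := by exact_mod_cast hr.symm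
      have h5 : ((j + 3 : ℕ) : ℤ) = ((j : ℤ) + t * r) - q * (j * r - 3) := by
        push_cast
        linear_combination (r : ℤ) * h3 + 3 * h4
      have h6 : (k : ℤ) ∣ ((j + 3 : ℕ) : ℤ) := by
        rw [h5]; exact dvd_sub h1 (h2.mul_right _)
      exact_mod_cast h6
    rcases le_or_gt (a - m) m with h | h
    · exact Nat.le_of_dvd (by omega) (key A' (hpA' ▸ pow_dvd_pow p h) hA'd)
    · exfalso
      have h2 : q ∣ A' := hpA' ▸ pow_dvd_pow p h.le
      have := Nat.le_of_dvd (by omega) (key q dvd_rfl (h2.trans hA'd))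
      omega
  have hBj : B ∣ j := by
    rw [hj] at hB
    exact ((hcqr.symm).coprime_dvd_left (Nat.gcd_dvd_right _ _)).dvd_of_dvd_mul_left hB
  have hBle := Nat.le_of_dvd (by omega) hBj
  have hAle : A ≤ q * (j + 3) := hA'.trans_le (Nat.mul_le_mul_left q hA'5)
  have := Nat.mul_le_mul hAle hBle
  rcases hj2 with rfl | rfl <;> omega

/-- No proper factorisation of the index into factors congruent to one, but for two exceptions. -/
theorem no_split {q t D E : ℕ} (hpp : IsPrimePow q) (hq : 3 ≤ q) (h3 : q ≠ 3) (h5 : q ≠ 5)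
    (ht0 : 0 < t) (hD : 3 * D = 3 + t * (q * q - q + 1))
    (hDE : 3 * (D * E) = q ^ 3 * (q * q - 1) * (q + 1)) (hle : D ≤ E) :
    (q = 4 ∧ D = 40 ∧ E = 40) ∨ (q = 8 ∧ D = 96 ∧ E = 1008) := by
  have hsq : (3 + t * (q * q - q + 1)) ^ 2 ≤ 3 * (q ^ 3 * (q * q - 1) * (q + 1)) := by
    rw [← hD, ← hDE, show (3 * D) ^ 2 = 3 * (3 * (D * D)) by ring]
    exact Nat.mul_le_mul_left 3 (Nat.mul_le_mul_left 3 (Nat.mul_le_mul_left D hle))
  have hq1 : q ≤ q * q := Nat.le_mul_self q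
  have ht : t < 2 * q ∨ (q < 11 ∧ t < 3 * q) := by
    by_contra h
    push Not at h
    obtain ⟨h2, h'⟩ := h
    rcases le_or_gt 11 q with h11 | h11
    · obtain ⟨n, hn, hnZ⟩ : ∃ n, n = q * q - q + 1 ∧ (n : ℤ) = q * q - q + 1 :=
        ⟨_, rfl, by push_cast [Nat.cast_sub hq1]; ring⟩
      rw [← hn] at hsq
      have h1 : (2 * q * n) ^ 2 ≤ 3 * (q ^ 3 * (q * q) * (q + 1)) := by
        refine le_trans (Nat.pow_le_pow_left ?_ 2) (hsq.trans (Nat.mul_le_mul_left 3
          (Nat.mul_le_mul_right _ (Nat.mul_le_mul_left _ (Nat.sub_le _ _)))))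
        exact le_add_left (Nat.mul_le_mul_right n h2)
      have h1' : (2 * (q : ℤ) * n) ^ 2 ≤ 3 * ((q : ℤ) ^ 3 * (q * q) * (q + 1)) := by exact_mod_cast h1
      rw [hnZ] at h1'
      have hqz : (11 : ℤ) ≤ q := by exact_mod_cast h11
      nlinarith [pow_le_pow_left₀ (by norm_num : (0 : ℤ) ≤ 11) hqz 5,
        mul_le_mul_of_nonneg_left hqz (by positivity : (0 : ℤ) ≤ (q : ℤ) ^ 5)]
    · have h3t := h' h11
      interval_cases q <;> norm_num at hsq ⊢ <;> nlinarith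
  have hdT : 3 + t * (q * q - q + 1) ∣ q ^ 3 * (q * q - 1) * (q + 1) :=
    hD ▸ hDE ▸ ⟨E, by ring⟩
  rcases Nat.lt_or_ge q 181 with hs | hs
  · have := small_check hs (t := t) (by omega) hdT ⟨D - 1, by omega⟩ hsq
    rcases this with h | h | h | h | h | h | ⟨rfl, rfl⟩ | ⟨rfl, rfl⟩
    · omega
    · omega
    · omega
    · exact absurd hpp (not_isPrimePow_two Nat.prime_two Nat.prime_three (by norm_num)
        (by rw [h]; norm_num) (by rw [h]; norm_num))
    · exact absurd hpp (not_isPrimePow_two (a := 2) (b := 7) Nat.prime_two (by norm_num)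
        (by norm_num) (by rw [h]; norm_num) (by rw [h]; norm_num))
    · exact absurd hpp (not_isPrimePow_two (a := 5) (b := 7) (by norm_num) (by norm_num)
        (by norm_num) (by rw [h]; norm_num) (by rw [h]; norm_num))
    · norm_num at hD hDE
      obtain rfl : D = 40 := by omega
      exact Or.inl ⟨rfl, rfl, by omega⟩
    · norm_num at hD hDE
      obtain rfl : D = 96 := by omega
      exact Or.inr ⟨rfl, rfl, by omega⟩
  exfalso
  have ht' : t < 2 * q := by omega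
  have hAB := parts_le hpp hs ht0 ht' hD
  obtain ⟨r, hr⟩ : ∃ r, q = r + 1 := ⟨q - 1, by omega⟩
  have hfac : q * q - 1 = r * (q + 1) := by rw [hr]; ring_nf; omega
  rw [hfac] at hDE
  have hDd : D ∣ q ^ 3 * (r * ((q + 1) * (q + 1))) :=
    ⟨3 * E, by
      rw [show q ^ 3 * (r * ((q + 1) * (q + 1))) = q ^ 3 * (r * (q + 1)) * (q + 1) by ring, ← hDE]
      ring⟩
  set G := Nat.gcd D ((q + 1) * (q + 1)) with hG
  have hD0 : 0 < D := by omega
  have hDle : D ≤ Nat.gcd D (q ^ 3) * Nat.gcd D (q - 1) * G := by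
    rw [show q - 1 = r by omega]
    refine Nat.le_of_dvd (Nat.mul_pos (Nat.mul_pos (Nat.gcd_pos_of_pos_left _ hD0)
      (Nat.gcd_pos_of_pos_left _ hD0)) (Nat.gcd_pos_of_pos_left _ hD0)) ?_
    rw [mul_assoc]
    nth_rewrite 1 [← Nat.gcd_eq_left hDd]
    exact (Nat.gcd_mul_right_dvd_mul_gcd _ _ _).trans
      (Nat.mul_dvd_mul_left _ (Nat.gcd_mul_right_dvd_mul_gcd _ _ _))
  obtain ⟨k, hk⟩ := Nat.gcd_dvd_right D ((q + 1) * (q + 1))
  rw [← hG] at hk
  obtain ⟨g, hg⟩ := Nat.gcd_dvd_left D ((q + 1) * (q + 1))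
  rw [← hG] at hg
  have hn : ((q * q - q + 1 : ℕ) : ℤ) = (q : ℤ) * q - q + 1 := by push_cast [Nat.cast_sub hq1]; ring
  have hDz : 3 * (D : ℤ) = 3 + t * ((q : ℤ) * q - q + 1) := by rw [← hn]; exact_mod_cast hD
  have hkz : ((q : ℤ) + 1) * (q + 1) = G * k := by exact_mod_cast hk
  have hgz : (D : ℤ) = G * g := by exact_mod_cast hg
  -- `k` is small
  have hk18 : k ≤ 18 := by
    by_contra hc
    have hc' : (19 : ℤ) ≤ k := by exact_mod_cast Nat.not_le.1 hc
    have h1 : (D : ℤ) ≤ 6 * t * G := by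
      exact_mod_cast hDle.trans (Nat.mul_le_mul_right G hAB)
    have htz : (1 : ℤ) ≤ t := by exact_mod_cast ht0
    have hqz : (181 : ℤ) ≤ q := by exact_mod_cast hs
    have hGk : 19 * (G : ℤ) ≤ ((q : ℤ) + 1) * (q + 1) := by
      rw [hkz, mul_comm (19 : ℤ)]; exact mul_le_mul_of_nonneg_left hc' (by positivity)
    have h2 : (t : ℤ) * ((q : ℤ) * q - q + 1) < t * (18 * G) := by linarith
    have h3 := lt_of_mul_lt_mul_left h2 (by positivity)
    nlinarith
  have hdiv : ((q : ℤ) + 1) * (q + 1) ∣ 3 * k * (1 + t) - 3 * k * t * (q + 1) := by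
    refine ⟨3 * g - t * k, ?_⟩
    linear_combination (k : ℤ) * (hDz.symm) + 3 * (k : ℤ) * hgz - 3 * (g : ℤ) * hkz
  obtain ⟨c, hc⟩ := hdiv
  set l : ℤ := (q + 1) * c + 3 * k * t with hl
  have hlx : ((q : ℤ) + 1) * l = 3 * k * (1 + t) := by rw [hl]; linear_combination -hc
  have hdvd : ((q : ℤ) + 1) ∣ l + 3 * k := ⟨c + l, by rw [hl] at hlx ⊢; linear_combination -hlx⟩
  have hk1 : (1 : ℤ) ≤ k := by
    have : k ≠ 0 := fun h => by simp [h] at hk
    exact_mod_cast Nat.one_le_iff_ne_zero.2 this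
  have hk2 : (k : ℤ) ≤ 18 := by exact_mod_cast hk18
  have htz : (t : ℤ) + 1 ≤ 2 * (q + 1) := by exact_mod_cast (by omega : t + 1 ≤ 2 * (q + 1))
  have hxpos : (0 : ℤ) < q + 1 := by positivity
  have hl0 : 0 < l := by
    have : 0 < ((q : ℤ) + 1) * l := by rw [hlx]; positivity
    exact (mul_pos_iff_of_pos_left hxpos).1 this
  have hl1 : l ≤ 108 := by
    by_contra h
    have : ((q : ℤ) + 1) * 108 < ((q : ℤ) + 1) * l := mul_lt_mul_of_pos_left (not_le.1 h) hxpos
    nlinarith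
  have := Int.le_of_dvd (by linarith) hdvd
  have hqz : (181 : ℤ) ≤ q := by exact_mod_cast hs
  linarith

end Cfsg.Agent.SU3Max.Singer
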