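import Cfsg.Agent.Lib.SU3Max.Basic
import Cfsg.Agent.Lib.SL3Max.Singer.Semi
import Cfsg.Agent.Lib.FieldExtMax.Main
import Mathlib.FieldTheory.Galois.Basic

/-!
# The plane as a field of `q⁶` elements

Main results:
* `SSetup` : the plane as a cubic extension with adjoint the power `q³`
* `exists_ssetup` : an adjoint closed field subalgebra gives one
* `torus`, `card_torus`, `torus_stab` : the Singer torus and its intersections
-/

set_option autoImplicit false
set_option linter.unusedSectionVars false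

namespace Cfsg.Agent.SU3Max.Singer

open Matrix Module Cfsg.Agent.Transvect Cfsg.Agent.Unitary Cfsg.Agent.C5.Uni
open Cfsg.Agent.SL3Max.Singer (IsMulg Semi)

variable {F : Type*} [Field F] [Fintype F] {q : ℕ}

local notation "V" => (Fin 3 → F)
local notation "hh" => Cfsg.hermForm 3 F q

/-- The plane as a cubic extension with its adjoint. -/
structure SSetup (q : ℕ) {L : Type*} [Field L] [Fintype L] [Algebra F L]
    (Φ : L ≃ₗ[F] (Fin 3 → F)) : Prop where
  hF : Fintype.card F = q ^ 2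
  deg : finrank F L = 3
  adj : ∀ k x y : L, Cfsg.hermForm 3 F q (Φ (k * x)) (Φ y) =
    Cfsg.hermForm 3 F q (Φ x) (Φ (k ^ q ^ 3 * y))

section

variable {L : Type*} [Field L] [Fintype L] [Algebra F L] {Φ : LinearEquiv (RingHom.id F) L (Fin 3 → F)}

/-- The multiplications of `suGL`. -/
def torus (q : ℕ) (Φ : L ≃ₗ[F] (Fin 3 → F)) : Subgroup (GL (Fin 3) F) where
  carrier := {g | g ∈ suGL 3 F q ∧ ∃ u : L, IsMulg Φ g u}
  one_mem' := ⟨one_mem _, 1, SL3Max.Singer.isMulg_one⟩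
  mul_mem' := fun {_ _} ⟨hg, u, hu⟩ ⟨hh', v, hv⟩ => ⟨mul_mem hg hh', u * v, hu.mul hv⟩
  inv_mem' := fun {g} ⟨hg, u, hu⟩ => ⟨inv_mem hg, u⁻¹, fun y => (app g).injective (by
    have hu0 : u ≠ 0 := fun e => by
      have h1 := hu 1
      rw [e, zero_mul, map_zero] at h1
      exact one_ne_zero (Φ.map_eq_zero_iff.1 ((app g).map_eq_zero_iff.1 h1))
    rw [app_app_inv, hu, mul_inv_cancel_left₀ hu0])⟩

lemma torus_le : torus q Φ ≤ suGL 3 F q := fun _ h => h.1

lemma mulg_ne_zero {g : GL (Fin 3) F} {u : L} (hu : IsMulg Φ g u) : u ≠ 0 := fun e => by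
  have h1 := hu 1
  rw [e, zero_mul, map_zero] at h1
  exact one_ne_zero (Φ.map_eq_zero_iff.1 ((app g).map_eq_zero_iff.1 h1))

namespace SSetup

variable (S : SSetup q Φ)
include S

lemma card_L : Fintype.card L = q ^ 6 := by
  haveI : Module.Finite F L := Module.Finite.of_finite
  rw [Module.card_eq_pow_finrank (K := F), S.hF, S.deg, ← pow_mul]

lemma det_mulg {g : GL (Fin 3) F} {u : L} (hu : IsMulg Φ g u) :
    algebraMap F L (g : Matrix (Fin 3) (Fin 3) F).det = u ^ (q ^ 4 + q ^ 2 + 1) := by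
  haveI : Module.Finite F L := Module.Finite.of_finite
  have h1 : (g : Matrix (Fin 3) (Fin 3) F).det = Algebra.norm F u := by
    rw [Algebra.norm_apply, ← LinearMap.det_conj _ Φ, ← LinearMap.det_toLin']
    congr 1
    refine LinearMap.ext fun w => ?_
    obtain ⟨y, rfl⟩ := Φ.surjective w
    rw [Matrix.toLin'_apply, ← app_apply, hu]
    simp
  rw [h1, FiniteField.algebraMap_norm_eq_pow, Nat.card_eq_fintype_card, Nat.card_eq_fintype_card,
    S.card_L, S.hF]
  congr 1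
  have h4 : 4 ≤ q ^ 2 := Nat.pow_le_pow_left (two_le_q S.hF) 2
  refine Nat.div_eq_of_eq_mul_left (by omega) ?_
  obtain ⟨a, ha⟩ : ∃ a, q ^ 2 = a + 1 := ⟨q ^ 2 - 1, by omega⟩
  rw [show q ^ 6 = (q ^ 2) ^ 3 by ring, show q ^ 4 = (q ^ 2) ^ 2 by ring, ha]
  exact Nat.sub_eq_of_eq_add (by rw [Nat.add_sub_cancel]; ring)

lemma mulg_mem_GU_iff {g : GL (Fin 3) F} {u : L} (hu : IsMulg Φ g u) :
    g ∈ Cfsg.GU 3 F q ↔ u ^ (q ^ 3 + 1) = 1 := by
  have H := hermForm_isHerm S.hF 3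
  rw [mem_GU_iff]
  constructor
  · intro hg
    have h1 : Φ (u ^ (q ^ 3 + 1) * 1) - Φ 1 = 0 := by
      refine hermForm_nondeg S.hF 3 _ fun v => ?_
      obtain ⟨x, rfl⟩ := Φ.surjective v
      rw [H.eq_zero_symm S.hF, H.sub_right S.hF, sub_eq_zero, pow_succ, mul_assoc, ← S.adj,
        ← hu, ← hu]
      exact hg _ _
    rw [mul_one, sub_eq_zero] at h1
    exact Φ.injective h1
  · intro h x y
    obtain ⟨a, rfl⟩ := Φ.surjective x
    obtain ⟨b, rfl⟩ := Φ.surjective y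
    show hh (app g (Φ a)) (app g (Φ b)) = _
    rw [hu, hu, S.adj, ← mul_assoc, ← pow_succ, h, one_mul]

lemma mulg_mem_iff {g : GL (Fin 3) F} {u : L} (hu : IsMulg Φ g u) :
    g ∈ suGL 3 F q ↔ u ^ (q * q - q + 1) = 1 := by
  have hd : g ∈ Cfsg.Geo.specialLinear (Fin 3) F ↔ u ^ (q ^ 4 + q ^ 2 + 1) = 1 := by
    rw [← S.det_mulg hu, ← map_one (algebraMap F L), (algebraMap F L).injective.eq_iff]
    exact ⟨fun h => congrArg Units.val h, fun h => Units.ext h⟩
  show g ∈ Cfsg.GU 3 F q ∧ g ∈ Cfsg.Geo.specialLinear (Fin 3) F ↔ _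
  rw [S.mulg_mem_GU_iff hu, hd]
  have hq1 : q ≤ q * q := Nat.le_mul_self q
  set n := q * q - q + 1 with hn
  have hn' : n + q = q * q + 1 := by omega
  have e1 : q ^ 3 + 1 = n * (q + 1) := by
    zify at hn' ⊢
    linear_combination -((q : ℤ) + 1) * hn'
  have e2 : q ^ 4 + q ^ 2 + 1 = n * (q * q + q + 1) := by
    zify at hn' ⊢
    linear_combination -((q : ℤ) * q + q + 1) * hn'
  have hco : Nat.Coprime (q + 1) (q * q + q + 1) := by
    rw [show q * q + q + 1 = 1 + q * (q + 1) by ring]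
    exact (Nat.coprime_add_mul_right_right _ _ _).2 (Nat.coprime_one_right _)
  constructor
  · rintro ⟨h1, h2⟩
    have := pow_gcd_eq_one.2 ⟨h1, h2⟩
    rwa [e1, e2, Nat.gcd_mul_left, hco, mul_one] at this
  · intro h
    rw [e1, e2, pow_mul, pow_mul, h, one_pow, one_pow]
    exact ⟨rfl, rfl⟩

lemma exists_torus {u : L} (hu : u ^ (q * q - q + 1) = 1) :
    ∃ g ∈ torus q Φ, IsMulg Φ g u := by
  haveI : Finite L := inferInstance
  have hu0 : u ≠ 0 := fun e => by simp [e] at hu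
  obtain ⟨g, hg, -⟩ := SL3Max.Singer.exists_gl Φ (LinearEquiv.ofBijective (LinearMap.mulLeft F u)
    ⟨mul_right_injective₀ hu0, fun y => ⟨u⁻¹ * y, by simp [hu0]⟩⟩)
  have hg' : IsMulg Φ g u := fun y => hg y
  exact ⟨g, ⟨(S.mulg_mem_iff hg').2 hu, u, hg'⟩, hg'⟩

lemma n_dvd : q * q - q + 1 ∣ q ^ 6 - 1 := by
  have hq1 : q ≤ q * q := Nat.le_mul_self q
  have h6 : 1 ≤ q ^ 6 := Nat.one_le_pow _ _ (by have := two_le_q S.hF; omega)
  refine ⟨(q + 1) * (q ^ 3 - 1), ?_⟩
  have h3 : 1 ≤ q ^ 3 := Nat.one_le_pow _ _ (by have := two_le_q S.hF; omega)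
  zify [hq1, h6, h3]
  ring

theorem card_torus : Nat.card (torus q Φ) = q * q - q + 1 := by
  classical
  have key : ∀ g : torus q Φ, ∃ u : L, IsMulg Φ (g : GL (Fin 3) F) u := fun g => g.2.2
  choose u hu using key
  have hroot : ∀ g, u g ^ (q * q - q + 1) = 1 := fun g => (S.mulg_mem_iff (hu g)).1 g.2.1
  have e : Nat.card (torus q Φ) = Nat.card {x : L // x ^ (q * q - q + 1) = 1} := by
    refine Nat.card_congr (Equiv.ofBijective (fun g => ⟨u g, hroot g⟩) ⟨fun g g' h => ?_, fun x => ?_⟩)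
    · have h' : u g = u g' := congrArg Subtype.val h
      exact Subtype.ext ((hu g).unique (h' ▸ hu g'))
    · obtain ⟨g, hg, hgu⟩ := S.exists_torus x.2
      exact ⟨⟨g, hg⟩, Subtype.ext ((hu ⟨g, hg⟩).eq hgu)⟩
  rw [e]
  obtain ⟨g, hg⟩ := IsCyclic.exists_ofOrder_eq_natCard (α := Lˣ)
  obtain ⟨k, hk⟩ := S.n_dvd
  have h64 : 2 ≤ q ^ 6 := le_trans (two_le_q S.hF) (Nat.le_self_pow (by norm_num) q)
  rw [Nat.card_units, Nat.card_eq_fintype_card, S.card_L, hk] at hg
  have hk0 : k ≠ 0 := by rintro rfl; omega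
  have hω : orderOf ((g ^ k : Lˣ) : L) = q * q - q + 1 := by
    rw [orderOf_units, orderOf_pow_of_dvd hk0 (hg ▸ Dvd.intro_left _ rfl), hg,
      Nat.mul_div_cancel _ (Nat.pos_of_ne_zero hk0)]
  rw [← Nat.card_congr (Equiv.subtypeEquivRight (p := fun x => x ∈
      Polynomial.nthRootsFinset (q * q - q + 1) (1 : L)) (q := fun x => x ^ (q * q - q + 1) = 1)
      fun x => Polynomial.mem_nthRootsFinset (by omega) 1),
    Nat.card_eq_fintype_card, Fintype.card_coe]
  exact (hω ▸ IsPrimitiveRoot.orderOf _).card_nthRootsFinset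

/-- A scalar in the torus has order dividing `gcd(3, q + 1)`. -/
lemma scalar_pow {a : F} (h : algebraMap F L a ^ (q * q - q + 1) = 1) :
    algebraMap F L a ^ Nat.gcd 3 (q + 1) = 1 := by
  rw [← map_pow, ← map_one (algebraMap F L), (algebraMap F L).injective.eq_iff] at h
  rw [← map_pow, ← map_one (algebraMap F L)]
  congr 1
  have hq1 : q ≤ q * q := Nat.le_mul_self q
  have hq2 : 1 ≤ q * q := le_trans (by have := two_le_q S.hF; omega) hq1
  have hq0 := two_le_q S.hF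
  have ha : a ≠ 0 := fun e => by simp [e] at h
  have h1 := FiniteField.pow_card_sub_one_eq_one a ha
  rw [S.hF, pow_two] at h1
  have hG := pow_gcd_eq_one.2 ⟨h, h1⟩
  set e := Nat.gcd (q * q - q + 1) (q * q - 1) with he
  have hen : (e : ℤ) ∣ (q : ℤ) * q - q + 1 := by
    have : (e : ℤ) ∣ ((q * q - q + 1 : ℕ) : ℤ) := Int.natCast_dvd_natCast.2 (Nat.gcd_dvd_left _ _)
    push_cast [Nat.cast_sub hq1] at this
    exact this
  have hem : (e : ℤ) ∣ (q : ℤ) * q - 1 := by
    have : (e : ℤ) ∣ ((q * q - 1 : ℕ) : ℤ) := Int.natCast_dvd_natCast.2 (Nat.gcd_dvd_right _ _)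
    push_cast [Nat.cast_sub hq2] at this
    exact this
  have he2 : (e : ℤ) ∣ (q : ℤ) - 2 := by
    have := dvd_sub hem hen
    rwa [show (q : ℤ) * q - 1 - ((q : ℤ) * q - q + 1) = q - 2 by ring] at this
  have he3 : (e : ℤ) ∣ 3 := by
    have := dvd_sub hem (he2.mul_right ((q : ℤ) + 2))
    rwa [show (q : ℤ) * q - 1 - ((q : ℤ) - 2) * (q + 2) = 3 by ring] at this
  have he4 : (e : ℤ) ∣ (q : ℤ) + 1 := by
    have := dvd_add he2 he3
    rwa [show (q : ℤ) - 2 + 3 = q + 1 by ring] at this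
  obtain ⟨c, hc⟩ : e ∣ Nat.gcd 3 (q + 1) :=
    Nat.dvd_gcd (Int.natCast_dvd_natCast.1 he3) (by exact_mod_cast he4)
  rw [hc, pow_mul, hG, one_pow]

/-- Some element of the torus is not a scalar. -/
lemma exists_nonscalar (hq : 3 ≤ q) :
    ∃ g ∈ torus q Φ, ∃ u : L, IsMulg Φ g u ∧ u ∉ Set.range (algebraMap F L) := by
  classical
  by_contra hc
  push Not at hc
  have hc' : ∀ g : torus q Φ, ∃ u : L, IsMulg Φ (g : GL (Fin 3) F) u ∧
      u ^ Nat.gcd 3 (q + 1) = 1 := by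
    rintro ⟨g, hg⟩
    obtain ⟨hgs, u, hu⟩ := hg
    obtain ⟨a, ha⟩ := hc g ⟨hgs, u, hu⟩ u hu
    refine ⟨u, hu, ?_⟩
    rw [← ha] at hu ⊢
    exact S.scalar_pow ((S.mulg_mem_iff hu).1 hgs)
  choose u hu hud using hc'
  have hd0 : 0 < Nat.gcd 3 (q + 1) := Nat.gcd_pos_of_pos_left _ (by norm_num)
  have hle : Nat.card (torus q Φ) ≤ Nat.card
      (Polynomial.nthRootsFinset (Nat.gcd 3 (q + 1)) (1 : L)) :=
    Nat.card_le_card_of_injective
      (fun g => ⟨u g, (Polynomial.mem_nthRootsFinset hd0 1).2 (hud g)⟩) fun g g' h => by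
      have h' : u g = u g' := congrArg Subtype.val h
      exact Subtype.ext ((hu g).unique (h' ▸ hu g'))
  have h3 : Nat.card (Polynomial.nthRootsFinset (Nat.gcd 3 (q + 1)) (1 : L)) ≤ 3 := by
    rw [Nat.card_eq_fintype_card, Fintype.card_coe, Polynomial.nthRootsFinset_def]
    exact ((Multiset.toFinset_card_le _).trans (Polynomial.card_nthRoots _ _)).trans
      (Nat.le_of_dvd (by norm_num) (Nat.gcd_dvd_left _ _))
  rw [S.card_torus] at hle
  have : q * 3 ≤ q * q := Nat.mul_le_mul_left q hq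
  omega

/-- An overgroup of the torus fixes no point. -/
lemma noFix (hq : 3 ≤ q) {M : Subgroup (GL (Fin 3) F)} (hTM : torus q Φ ≤ M) : NoFix M := by
  obtain ⟨g, hg, u, hu, hur⟩ := S.exists_nonscalar hq
  intro x hx
  refine ⟨g, hTM hg, fun hmem => ?_⟩
  obtain ⟨a, ha⟩ := Submodule.mem_span_singleton.1 hmem
  obtain ⟨y, rfl⟩ := Φ.surjective x
  rw [hu, ← map_smul, Φ.injective.eq_iff, Algebra.smul_def] at ha
  exact hur ⟨a, mul_right_cancel₀ (fun e => hx (by rw [e, map_zero])) ha⟩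

/-- An element outside the normaliser meets the torus in scalars. -/
lemma stab_pow {g t : GL (Fin 3) F} (hg : ¬ Semi Φ g) (ht : t ∈ torus q Φ)
    (hs : g⁻¹ * t * g ∈ torus q Φ) : t ^ Nat.gcd 3 (q + 1) = 1 := by
  obtain ⟨hts, u, hu⟩ := ht
  obtain ⟨hss, v, hv⟩ := hs
  have hscal : u ∈ Set.range (algebraMap F L) := by
    by_contra hur
    refine hg (SL3Max.Singer.semi_of_conj S.deg hv ?_ (show IsMulg Φ (g * (g⁻¹ * t * g) * g⁻¹) u by
      rwa [show g * (g⁻¹ * t * g) * g⁻¹ = t by group]))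
    rintro ⟨b, rfl⟩
    refine hur ⟨b, ?_⟩
    have h1 : IsMulg Φ t (algebraMap F L b) := fun y => by
      obtain ⟨z, hz⟩ := Φ.surjective (app g⁻¹ (Φ y))
      have h2 := hv z
      rw [map_mul, map_mul, LinearEquiv.mul_apply, LinearEquiv.mul_apply, ← Algebra.smul_def,
        map_smul, hz, app_app_inv, ← map_smul] at h2
      rw [(app g⁻¹).injective h2, ← map_smul, Algebra.smul_def]
    exact h1.eq hu
  obtain ⟨a, rfl⟩ := hscal
  have h := S.scalar_pow ((S.mulg_mem_iff hu).1 hts)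
  have h2 := hu.pow (Nat.gcd 3 (q + 1))
  rw [h] at h2
  exact h2.unique SL3Max.Singer.isMulg_one

end SSetup

end

/-- An adjoint closed cubic field gives a setup. -/
theorem exists_ssetup (hF : Fintype.card F = q ^ 2) {L : Type*} [Field L] [Fintype L] [Algebra F L]
    (hdeg : finrank F L = 3) (j : L →ₐ[F] Matrix (Fin 3) (Fin 3) F)
    {K : Subalgebra F (Matrix (Fin 3) (Fin 3) F)} (hjK : ∀ x, x ∈ K ↔ ∃ l, j l = x)
    (hac : Cfsg.Geo.IsAdjointClosedFor (Cfsg.hermForm 3 F q) K) :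
    ∃ Φ : L ≃ₗ[F] (Fin 3 → F), SSetup q Φ ∧
      ∀ g : GL (Fin 3) F, g ∈ Cfsg.Geo.subalgebraNormalizer K ↔ Semi Φ g := by
  classical
  haveI : Module.Finite F L := Module.Finite.of_finite
  set e0 : V := Pi.single 0 1
  let f : L →ₗ[F] V :=
    { toFun := fun k => j k *ᵥ e0
      map_add' := fun a b => by rw [map_add, Matrix.add_mulVec]
      map_smul' := fun c a => by rw [map_smul, Matrix.smul_mulVec]; rfl }
  have hfinj : Function.Injective f := by
    rw [injective_iff_map_eq_zero]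
    intro k hk
    by_contra hk0
    have h1 : j k⁻¹ *ᵥ (j k *ᵥ e0) = 0 := by
      rw [show j k *ᵥ e0 = 0 from hk, Matrix.mulVec_zero]
    rw [Matrix.mulVec_mulVec, ← map_mul, inv_mul_cancel₀ hk0, map_one, Matrix.one_mulVec] at h1
    simpa [e0] using congrFun h1 0
  let Φ : L ≃ₗ[F] V := LinearEquiv.ofBijective f ⟨hfinj,
    (LinearMap.injective_iff_surjective_of_finrank_eq_finrank (by rw [hdeg]; simp)).1 hfinj⟩
  have hj : ∀ k y, Φ (k * y) = j k *ᵥ Φ y := fun k y => by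
    show j (k * y) *ᵥ e0 = j k *ᵥ (j y *ᵥ e0)
    rw [map_mul, Matrix.mulVec_mulVec]
  set Q := q ^ 3 with hQ
  have hL : Fintype.card L = Q ^ 2 := by
    rw [Module.card_eq_pow_finrank (K := F), hF, hdeg, hQ, ← pow_mul, ← pow_mul]
  have H := hermForm_isHerm hF 3
  have hnd := hermForm_nondeg hF 3
  have hcQ : ∀ c : F, c ^ Q = c ^ q := fun c => by
    rw [hQ, show q ^ 3 = q * q * q by ring, pow_mul, pow_mul, pow_q_pow_q hF]
  have hex : ∀ k : L, ∃ k' : L, ∀ x y : L, hh (Φ (k * x)) (Φ y) = hh (Φ x) (Φ (k' * y)) := by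
    intro k
    obtain ⟨x, hx, hxf⟩ := hac _ ((hjK _).2 ⟨k, rfl⟩)
    obtain ⟨k', rfl⟩ := (hjK _).1 hx
    exact ⟨k', fun x y => by rw [hj, hj]; exact hxf _ _⟩
  choose ad had using hex
  have huniq : ∀ a b : L, (∀ x y, hh (Φ x) (Φ (a * y)) = hh (Φ x) (Φ (b * y))) → a = b := by
    intro a b h
    have h1 : Φ (a * 1) - Φ (b * 1) = 0 := hnd _ fun w => by
      obtain ⟨x, rfl⟩ := Φ.surjective w
      rw [H.eq_zero_symm hF, H.sub_right hF, h, sub_self]
    rw [mul_one, mul_one, sub_eq_zero] at h1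
    exact Φ.injective h1
  have had_add : ∀ a b, ad (a + b) = ad a + ad b := fun a b => huniq _ _ fun x y => by
    rw [← had, add_mul, map_add, H.add_left, had, had, add_mul, map_add, H.add_right hF]
  have had_mul : ∀ a b, ad (a * b) = ad a * ad b := fun a b => huniq _ _ fun x y => by
    rw [← had, mul_assoc, had, had, ← mul_assoc, mul_comm (ad b)]
  have had_F : ∀ c : F, ad (algebraMap F L c) = algebraMap F L (c ^ q) := fun c =>
    huniq _ _ fun x y => by
      rw [← had, ← Algebra.smul_def, ← Algebra.smul_def, map_smul, map_smul, H.smul_left,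
        H.smul_right, pow_q_pow_q hF]
  have had_had : ∀ a, ad (ad a) = a := fun a => huniq _ _ fun x y => by
    rw [← had, H.conj_symm (Φ y), ← had, ← H.conj_symm]
  have had_one : ad 1 = 1 := by simpa using had_F 1
  have had_zero : ad 0 = 0 := by simpa [zero_pow_q hF] using had_F 0
  let adHom : L →+* L :=
    { toFun := ad, map_one' := had_one, map_mul' := had_mul, map_zero' := had_zero
      map_add' := had_add }
  have hQhom : ∀ a, ad (a ^ Q) = ad a ^ Q := fun a => map_pow adHom a Q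
  have hadQ : ∀ k, ad k = k ^ Q := by
    let φ : L →ₐ[F] L :=
      { adHom.comp (Cfsg.Agent.Unitary.conjHom hL) with
        commutes' := fun c => by
          show ad (algebraMap F L c ^ Q) = algebraMap F L c
          rw [← map_pow, had_F, hcQ, pow_q_pow_q hF] }
    have hφ : ∀ k, φ (φ k) = k := fun k => by
      show ad ((ad (k ^ Q)) ^ Q) = k
      rw [hQhom (ad (k ^ Q)), had_had, pow_q_pow_q hL]
    let e : L ≃ₐ[F] L := AlgEquiv.ofBijective φ
      ⟨fun a b h => by rw [← hφ a, h, hφ], fun b => ⟨φ b, hφ b⟩⟩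
    have he2 : e ^ 2 = 1 := AlgEquiv.ext fun k => by
      rw [pow_two]; exact hφ k
    have her : e ^ 3 = 1 := by
      rw [← hdeg, ← IsGalois.card_aut_eq_finrank F L]
      exact pow_card_eq_one'
    have he : e = 1 := by
      rw [pow_succ, he2, one_mul] at her; exact her
    intro k
    have h1 : φ (k ^ Q) = k ^ Q := by
      show e (k ^ Q) = k ^ Q
      rw [he]; rfl
    change ad ((k ^ Q) ^ Q) = k ^ Q at h1
    rwa [pow_q_pow_q hL] at h1
  refine ⟨Φ, ⟨hF, hdeg, fun k x y => by rw [← hadQ]; exact had k x y⟩, fun g => ?_⟩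
  letI : Module L V := Module.compHom _
    ((Matrix.toLinAlgEquiv' : Matrix (Fin 3) (Fin 3) F ≃ₐ[F] _).toAlgHom.toRingHom.comp j.toRingHom :
      L →+* (V →ₗ[F] V))
  have hsmul : ∀ (k : L) (x : V), k • x = j k *ᵥ x := fun k x => by
    show (Matrix.toLinAlgEquiv' (j k)) x = _
    simp
  haveI : IsScalarTower F L V := ⟨fun c k x => by
    rw [hsmul, hsmul, map_smul, Matrix.smul_mulVec]⟩
  rw [FieldExtMax.mem_normalizer_iff j hjK hsmul g]
  constructor
  · intro h k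
    obtain ⟨k', hk'⟩ := h k
    refine ⟨k', fun y => Φ.injective ?_⟩
    have := hk' (Φ y)
    rw [hsmul, hsmul, ← hj] at this
    rw [Φ.apply_symm_apply, this, hj, Φ.apply_symm_apply]
  · intro hg k
    obtain ⟨k', hk'⟩ := hg k
    refine ⟨k', fun x => ?_⟩
    obtain ⟨y, rfl⟩ := Φ.surjective x
    rw [hsmul, hsmul, ← hj, ← Φ.apply_symm_apply (app g (Φ (k * y))), hk', hj, Φ.apply_symm_apply]

end Cfsg.Agent.SU3Max.Singer
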