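import Cfsg.Agent.Lib.SU3Max.SingerBase
import Cfsg.Agent.Lib.SU3Max.SingerArith
import Cfsg.Agent.Lib.Aschbacher.SU3NotLe

/-!
# Counting conjugates of a Singer torus

Main results:
* `index_mod` : an index is one modulo a number dividing the other orbits
* `SSetup.overgroup_cases` : an overgroup is trivial or has one of three orders
-/

set_option autoImplicit false
set_option linter.unusedSectionVars false

namespace Cfsg.Agent.SU3Max.Singer

open Matrix Module Cfsg.Agent.Transvect Cfsg.Agent.Unitary Cfsg.Agent.C5.Uni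
open Cfsg.Agent.SL3Max.Singer (IsMulg Semi)

/-- The index is one modulo `m` if `m` divides all other orbits of `T`. -/
theorem index_mod {G : Type*} [Group G] [Finite G] {T H M : Subgroup G} (hTH : T ≤ H) (hHM : H ≤ M)
    (m : ℕ) (key : ∀ g ∈ M, g ∉ H → ∀ S : Subgroup G, S ≤ T → (∀ t ∈ S, g⁻¹ * t * g ∈ H) →
      m ∣ S.relIndex T) :
    (H.relIndex M : ZMod m) = 1 := by
  classical
  let act : MulAction T (M ⧸ H.subgroupOf M) :=
    MulAction.compHom _ (Subgroup.inclusion (hTH.trans hHM))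
  let _ := act
  set x0 : M ⧸ H.subgroupOf M := ((1 : M) : M ⧸ H.subgroupOf M) with hx0
  have hsmul : ∀ (t : T) (g : M), t • ((g : M) : M ⧸ H.subgroupOf M) =
      ((Subgroup.inclusion (hTH.trans hHM) t * g : M) : M ⧸ H.subgroupOf M) := fun t g => rfl
  have hfix : ∀ t : T, t • x0 = x0 := fun t => by
    rw [hx0, hsmul, mul_one, QuotientGroup.eq, mul_one]
    exact inv_mem (show (t : G) ∈ H from hTH t.2)
  have hdvd : ∀ x : M ⧸ H.subgroupOf M, x ≠ x0 → m ∣ Nat.card (MulAction.orbit T x) := by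
    intro x hx
    induction x using QuotientGroup.induction_on with
    | _ g =>
      have hgH : (g : G) ∉ H := fun h => hx (by
        rw [hx0, QuotientGroup.eq]
        show ((g⁻¹ * 1 : M) : G) ∈ H
        simpa using h)
      set S := MulAction.stabilizer T (g : M ⧸ H.subgroupOf M)
      have h1 := key g g.2 hgH (S.map T.subtype)
        (fun y hy => by obtain ⟨t, -, rfl⟩ := hy; exact t.2)
        (fun y hy => by
          obtain ⟨t, ht, rfl⟩ := hy
          have h2 : t • (g : M ⧸ H.subgroupOf M) = (g : M ⧸ H.subgroupOf M) := ht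
          rw [hsmul, eq_comm, QuotientGroup.eq] at h2
          have h3 : ((g⁻¹ * (Subgroup.inclusion (hTH.trans hHM) t * g) : M) : G) ∈ H := h2
          simpa [mul_assoc] using h3)
      rw [Subgroup.relIndex, Subgroup.subgroupOf,
        Subgroup.comap_map_eq_self_of_injective Subtype.val_injective] at h1
      rwa [Nat.card_coe_set_eq, ← MulAction.index_stabilizer]
  haveI := Fintype.ofFinite (Quotient (MulAction.orbitRel T (M ⧸ H.subgroupOf M)))
  rw [show H.relIndex M = Nat.card (M ⧸ H.subgroupOf M) from rfl,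
    Nat.card_congr (MulAction.selfEquivSigmaOrbits T (M ⧸ H.subgroupOf M)), Nat.card_sigma,
    Nat.cast_sum, Finset.sum_eq_single (Quotient.mk'' x0)]
  · have hout : (Quotient.mk'' x0 : Quotient (MulAction.orbitRel T (M ⧸ H.subgroupOf M))).out = x0 := by
      have h := MulAction.orbitRel_apply.1 (Quotient.mk_out (s := MulAction.orbitRel T _) x0)
      obtain ⟨t, ht⟩ := h
      have ht' : t • x0 = _ := ht
      rw [hfix] at ht'
      exact ht'.symm
    rw [hout, show MulAction.orbit T x0 = {x0} from Set.eq_singleton_iff_unique_mem.2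
      ⟨MulAction.mem_orbit_self _, fun y ⟨t, ht⟩ => ht ▸ hfix t⟩]
    simp
  · intro c _ hc
    refine (CharP.cast_eq_zero_iff (ZMod m) m _).2 (hdvd _ fun h => hc ?_)
    rw [← h]
    exact (Quotient.out_eq' c).symm
  · exact fun h => absurd (Finset.mem_univ _) h

variable {F : Type*} [Field F] [Fintype F] {q : ℕ}

local notation "hh" => Cfsg.hermForm 3 F q

namespace SSetup

section

variable {L : Type*} [Field L] [Fintype L] [Algebra F L]
  {Φ : LinearEquiv (RingHom.id F) L (Fin 3 → F)} (S : SSetup q Φ)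
  {N : Subgroup (GL (Fin 3) F)} (hN : ∀ g : GL (Fin 3) F, g ∈ N ↔ Semi Φ g)
include S hN

lemma torus_le_H : torus q Φ ≤ N ⊓ suGL 3 F q := fun g hg => by
  obtain ⟨hs, u, hu⟩ := hg
  refine ⟨(hN g).2 fun k => ⟨k, fun y => ?_⟩, hs⟩
  rw [hu, hu, Φ.symm_apply_apply, Φ.symm_apply_apply, mul_left_comm]

/-- The normaliser is the torus extended by at most the Galois group. -/
lemma card_H : (∀ h ∈ N ⊓ suGL 3 F q, h ^ 3 ∈ torus q Φ) ∧
    ∃ k : ℕ, (k = 1 ∨ k = 3) ∧ Nat.card ↥(N ⊓ suGL 3 F q) = k * (q * q - q + 1) := by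
  classical
  haveI : Module.Finite F L := Module.Finite.of_finite
  set H := N ⊓ suGL 3 F q with hH
  let am : GL (Fin 3) F → L → L := fun g k => Φ.symm (app g (Φ k)) / Φ.symm (app g (Φ 1))
  have hS1 : ∀ g : GL (Fin 3) F, Φ.symm (app g (Φ 1)) ≠ 0 := fun g h => by
    rw [LinearEquiv.map_eq_zero_iff, LinearEquiv.map_eq_zero_iff, LinearEquiv.map_eq_zero_iff] at h
    exact one_ne_zero h
  have hmul : ∀ g : H, ∀ k y : L, Φ.symm (app (g : GL (Fin 3) F) (Φ (k * y))) =
      am g k * Φ.symm (app (g : GL (Fin 3) F) (Φ y)) := by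
    intro g k y
    obtain ⟨k', hk'⟩ := (hN g).1 g.2.1 k
    have h1 := hk' 1
    rw [mul_one] at h1
    show _ = _ / _ * _
    rw [hk', h1, mul_div_cancel_right₀ _ (hS1 g)]
  have ham_add : ∀ (g : H) (a b : L), am g (a + b) = am g a + am g b := fun g a b => by
    show _ / _ = _ / _ + _ / _
    rw [map_add, map_add, map_add, add_div]
  have ham_one : ∀ g : H, am g 1 = 1 := fun g => div_self (hS1 g)
  have ham_mul : ∀ (g : H) (a b : L), am g (a * b) = am g a * am g b := fun g a b => by
    show _ / _ = am g a * (_ / _)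
    rw [hmul, mul_div_assoc]
  have ham_F : ∀ (g : H) (c : F), am g (algebraMap F L c) = algebraMap F L c := fun g c => by
    show _ / _ = _
    rw [show algebraMap F L c = c • (1 : L) by rw [Algebra.smul_def, mul_one], map_smul, map_smul,
      map_smul, Algebra.smul_def, mul_div_assoc, div_self (hS1 g)]
    rw [Algebra.smul_def]
  let ahom : H → (L →ₐ[F] L) := fun g =>
    { toFun := am g
      map_one' := ham_one g
      map_mul' := ham_mul g
      map_zero' := by show _ / _ = _; rw [map_zero, map_zero, map_zero, zero_div]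
      map_add' := ham_add g
      commutes' := ham_F g }
  let φ : H →* (L ≃ₐ[F] L) := MonoidHom.mk' (fun g => AlgEquiv.ofBijective (ahom g)
    ⟨(ahom g).toRingHom.injective, Finite.surjective_of_injective (ahom g).toRingHom.injective⟩)
    fun g g' => AlgEquiv.ext fun k => by
      show am ((g : GL (Fin 3) F) * (g' : GL (Fin 3) F)) k = am g (am g' k)
      have h1 : ∀ y : L, Φ.symm (app ((g : GL (Fin 3) F) * (g' : GL (Fin 3) F)) (Φ y)) =
          Φ.symm (app (g : GL (Fin 3) F) (Φ (Φ.symm (app (g' : GL (Fin 3) F) (Φ y))))) := fun y => by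
        rw [map_mul, LinearEquiv.mul_apply, Φ.apply_symm_apply]
      show _ / _ = _
      rw [h1, h1, show k = k * 1 from (mul_one k).symm, hmul g' k 1, hmul g, mul_one,
        mul_div_cancel_right₀ _ (fun h => hS1 g' ?_)]
      rw [LinearEquiv.map_eq_zero_iff, LinearEquiv.map_eq_zero_iff, LinearEquiv.map_eq_zero_iff] at h
      exact h
  have hker : ∀ g : H, φ g = 1 → (g : GL (Fin 3) F) ∈ torus q Φ := by
    intro g hg
    refine ⟨g.2.2, Φ.symm (app (g : GL (Fin 3) F) (Φ 1)), fun y => Φ.symm.injective ?_⟩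
    have h1 : am g y = y := AlgEquiv.congr_fun hg y
    rw [Φ.symm_apply_apply, show y = y * 1 from (mul_one y).symm, hmul, h1, mul_one]
    exact mul_comm _ _
  have hker' : ∀ g : H, (g : GL (Fin 3) F) ∈ torus q Φ → φ g = 1 := by
    intro g hg
    obtain ⟨-, u, hu⟩ := hg
    refine AlgEquiv.ext fun k => ?_
    show _ / _ = k
    rw [hu, hu, Φ.symm_apply_apply, Φ.symm_apply_apply, mul_one,
      mul_div_cancel_left₀ _ (mulg_ne_zero hu)]
  have hG : Nat.card (L ≃ₐ[F] L) = 3 := by rw [IsGalois.card_aut_eq_finrank, S.deg]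
  refine ⟨fun h hh' => ?_, Nat.card φ.range, ?_, ?_⟩
  · refine hker ((⟨h, hh'⟩ : H) ^ 3) ?_
    have h1 : φ (⟨h, hh'⟩ : H) ^ Nat.card (L ≃ₐ[F] L) = 1 := pow_card_eq_one'
    rw [hG] at h1
    rw [map_pow, h1]
  · exact (Nat.dvd_prime Nat.prime_three).1 (by
      have h1 := Subgroup.card_subgroup_dvd_card φ.range
      rwa [hG] at h1)
  · have e : φ.ker.map H.subtype = torus q Φ := by
      ext g
      constructor
      · rintro ⟨x, hx, rfl⟩
        exact hker x hx
      · exact fun hg => ⟨⟨g, S.torus_le_H hN hg⟩, hker' _ hg, rfl⟩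
    have h2 : Nat.card φ.ker = q * q - q + 1 := by
      rw [← S.card_torus, ← e, Subgroup.card_map_of_injective Subtype.val_injective]
    rw [← h2, ← Subgroup.index_ker, mul_comm]
    exact (Subgroup.card_mul_index φ.ker).symm

/-- A proper overgroup other than the normaliser has one of three orders. -/
theorem overgroup_cases (hq : 3 ≤ q) (h3 : q ≠ 3) (h5 : q ≠ 5) {M : Subgroup (GL (Fin 3) F)}
    (hHM : N ⊓ suGL 3 F q ≤ M) (hMK : M ≤ suGL 3 F q) :
    M ≤ N ⊓ suGL 3 F q ∨ suGL 3 F q ≤ M ∨ (q = 4 ∧ Nat.card M = 1560) ∨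
      (q = 8 ∧ (Nat.card M = 16416 ∨ Nat.card M = 172368)) := by
  classical
  haveI : Finite (Matrix (Fin 3) (Fin 3) F) := inferInstanceAs (Finite (Fin 3 → Fin 3 → F))
  haveI : Finite (GL (Fin 3) F) := Finite.of_injective Units.val Units.val_injective
  obtain ⟨hcube, k, hk, hkc⟩ := S.card_H hN
  have hpp : IsPrimePow q := by
    obtain ⟨p, e, hp, -, hqe, he⟩ := Cfsg.Agent.Unitary.exists_prime_pow S.hF
    exact (isPrimePow_nat_iff q).2 ⟨p, e, hp, by omega, hqe.symm⟩
  set n := q * q - q + 1 with hn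
  have hq1 : q ≤ q * q := Nat.le_mul_self q
  have hn' : n + q = q * q + 1 := by omega
  set d := Nat.gcd 3 (q + 1) with hd
  obtain ⟨m, hm⟩ : d ∣ n := by
    have h : d ∣ n + 3 * q := by
      refine (Nat.gcd_dvd_right _ _).trans ⟨q + 1, ?_⟩
      linarith [hn']
    exact (Nat.dvd_add_left ((Nat.gcd_dvd_left _ _).mul_right q)).1 h
  have hd13 : d = 1 ∨ d = 3 := (Nat.dvd_prime Nat.prime_three).1 (Nat.gcd_dvd_left _ _)
  have hn9 : ¬ 9 ∣ n := by
    intro h
    have h3' : q % 9 < 9 := Nat.mod_lt _ (by norm_num)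
    have h9 : (n + q) % 9 = (q * q + 1) % 9 := by rw [hn']
    rw [Nat.add_mod, Nat.mod_eq_zero_of_dvd h, Nat.add_mod (q * q), Nat.mul_mod] at h9
    interval_cases hr : q % 9 <;> omega
  have hd3 : 3 ∣ n → d = 3 := by
    intro h
    refine Nat.gcd_eq_left ?_
    have h' : (n + q) % 3 = (q * q + 1) % 3 := by rw [hn']
    rw [Nat.add_mod, Nat.mod_eq_zero_of_dvd h, Nat.add_mod (q * q), Nat.mul_mod] at h'
    have h3' : q % 3 < 3 := Nat.mod_lt _ (by norm_num)
    interval_cases hr : q % 3 <;> omega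
  have h12 : 12 ≤ q * q - q := by
    have : q * 4 ≤ q * q := Nat.mul_le_mul_left q (by omega)
    omega
  have hm4 : 4 ≤ m := by
    by_contra h
    have : d * m ≤ 3 * 3 := Nat.mul_le_mul (by omega) (by omega)
    omega
  haveI : NeZero m := ⟨by omega⟩
  have horb : ∀ g ∈ suGL 3 F q, g ∉ N ⊓ suGL 3 F q → ∀ R : Subgroup (GL (Fin 3) F),
      R ≤ torus q Φ → (∀ t ∈ R, g⁻¹ * t * g ∈ N ⊓ suGL 3 F q) → m ∣ R.relIndex (torus q Φ) := by
    intro g hg hgN R hR hconj
    have hnsemi : ¬ Semi Φ g := fun h => hgN ⟨(hN g).2 h, hg⟩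
    have hpow : ∀ t ∈ R, t ^ d = 1 := by
      intro t ht
      have h1 : g⁻¹ * t ^ 3 * g ∈ torus q Φ := by
        rw [show g⁻¹ * t ^ 3 * g = (g⁻¹ * t * g) ^ 3 by simp [pow_succ, mul_assoc]]
        exact hcube _ (hconj t ht)
      have h2 : (t ^ 3) ^ d = 1 := S.stab_pow hnsemi (pow_mem (hR ht) 3) h1
      have h3 : t ^ n = 1 := by
        have : (⟨t, hR ht⟩ : torus q Φ) ^ Nat.card (torus q Φ) = 1 := pow_card_eq_one'
        rw [S.card_torus] at this
        simpa using congrArg Subtype.val this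
      rw [← pow_mul] at h2
      have h4 := pow_gcd_eq_one.2 ⟨h2, h3⟩
      obtain ⟨c, hc⟩ : Nat.gcd (3 * d) n ∣ d := by
        rcases hd13 with e | e
        · rw [e, mul_one]
          rcases (Nat.dvd_prime Nat.prime_three).1 (Nat.gcd_dvd_left 3 n) with e' | e'
          · rw [e']
          · exact absurd (hd3 (e' ▸ Nat.gcd_dvd_right 3 n)) (by omega)
        · rw [e]
          have h9 : Nat.gcd (3 * 3) n ∣ 3 ^ 2 := Nat.gcd_dvd_left _ _
          obtain ⟨i, hi, hi'⟩ := (Nat.dvd_prime_pow Nat.prime_three).1 h9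
          rw [hi']
          interval_cases i
          · norm_num
          · norm_num
          · refine absurd ?_ hn9
            have h10 := Nat.gcd_dvd_right (3 * 3) n
            rwa [hi'] at h10
      rw [hc, pow_mul, h4, one_pow]
    have key : ∀ t : R, ∃ u : L, IsMulg Φ (t : GL (Fin 3) F) u := fun t => (hR t.2).2
    choose u hu using key
    have hd0 : 0 < d := by omega
    have hroot : ∀ t : R, u t ∈ Polynomial.nthRootsFinset d (1 : L) := fun t => by
      refine (Polynomial.mem_nthRootsFinset hd0 1).2 ?_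
      have h := (hu t).pow d
      rw [hpow t t.2] at h
      exact (SL3Max.Singer.isMulg_one.eq h).symm
    have hle : Nat.card R ≤ d := by
      refine le_trans (Nat.card_le_card_of_injective (fun t => (⟨u t, hroot t⟩ :
        Polynomial.nthRootsFinset d (1 : L))) fun t t' h => ?_) ?_
      · have h' : u t = u t' := congrArg Subtype.val h
        exact Subtype.ext ((hu t).unique (h' ▸ hu t'))
      · rw [Nat.card_eq_fintype_card, Fintype.card_coe, Polynomial.nthRootsFinset_def]
        exact (Multiset.toFinset_card_le _).trans (Polynomial.card_nthRoots _ _)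
    have hidx : R.relIndex (torus q Φ) * Nat.card R = n := by
      rw [hn, ← S.card_torus, Subgroup.relIndex,
        ← Nat.card_congr (Subgroup.subgroupOfEquivOfLe hR).toEquiv]
      exact (mul_comm _ _).trans (Subgroup.card_mul_index _)
    have hpos : 0 < Nat.card R := Nat.card_pos
    rcases hd13 with e | e
    · rw [e] at hle hm
      have : Nat.card R = 1 := by omega
      rw [this, mul_one] at hidx
      exact ⟨1, by omega⟩
    · rw [e] at hle hm
      obtain h | h | h : Nat.card R = 1 ∨ Nat.card R = 2 ∨ Nat.card R = 3 := by omega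
      · rw [h, mul_one] at hidx; exact ⟨3, by omega⟩
      · exfalso
        have hev : Even (q * q + q) := by
          rw [← Nat.mul_succ]; exact Nat.even_mul_succ_self q
        obtain ⟨r, hr⟩ := hev
        rw [h] at hidx
        omega
      · rw [h] at hidx; exact ⟨1, by omega⟩
  set H := N ⊓ suGL 3 F q with hHdef
  have hN1 : ((H.relIndex M : ℕ) : ZMod m) = 1 :=
    index_mod (S.torus_le_H hN) hHM m fun g hg => horb g (hMK hg)
  have hQ1 : ((H.relIndex (suGL 3 F q) : ℕ) : ZMod m) = 1 :=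
    index_mod (S.torus_le_H hN) inf_le_right m horb
  have hNi := Subgroup.relIndex_mul_relIndex H M (suGL 3 F q) hHM hMK
  have hi1 : ((M.relIndex (suGL 3 F q) : ℕ) : ZMod m) = 1 := by
    rw [← hNi, Nat.cast_mul, hN1, one_mul] at hQ1; exact hQ1
  have hcardsu : Nat.card H * H.relIndex (suGL 3 F q) = q ^ 3 * (q ^ 2 - 1) * (q ^ 3 + 1) := by
    rw [← Aschbacher.SU3.card_su3 S.hF, mul_comm, ← Nat.card_congr
      (Subgroup.subgroupOfEquivOfLe (show H ≤ suGL 3 F q from inf_le_right)).toEquiv]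
    exact (mul_comm _ _).trans (Subgroup.card_mul_index _)
  have hkQ : k * H.relIndex (suGL 3 F q) = q ^ 3 * (q * q - 1) * (q + 1) := by
    have e : q ^ 3 + 1 = n * (q + 1) := by
      zify at hn' ⊢; linear_combination -((q : ℤ) + 1) * hn'
    rw [hkc, e, pow_two] at hcardsu
    refine Nat.eq_of_mul_eq_mul_left (show 0 < n by omega) ?_
    linarith
  have hk3 : k = 3 := by
    refine hk.resolve_left fun h1 => ?_
    subst h1
    have hn0 : ((q : ZMod m)) * q - q + 1 = 0 := by
      have : ((n + q : ℕ) : ZMod m) = ((q * q + 1 : ℕ) : ZMod m) := by rw [hn']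
      push_cast at this
      rw [hm] at this
      push_cast [ZMod.natCast_self] at this
      linear_combination -this
    have h1 : (1 : ZMod m) = 3 := by
      have e := congrArg (Nat.cast : ℕ → ZMod m) hkQ
      rw [one_mul, hQ1] at e
      push_cast [Nat.cast_sub (show 1 ≤ q * q by omega)] at e
      rw [e]
      linear_combination ((q : ZMod m) ^ 4 + 2 * (q : ZMod m) ^ 3 - 3 * (q : ZMod m) - 3) * hn0
    have h2 : ((2 : ℕ) : ZMod m) = 0 := by push_cast; linear_combination -h1
    have := Nat.le_of_dvd (by norm_num) ((CharP.cast_eq_zero_iff (ZMod m) m 2).1 h2)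
    omega
  subst hk3
  rw [← hNi] at hkQ
  set A := H.relIndex M with hA
  set B := M.relIndex (suGL 3 F q) with hB
  have hT0 : 0 < q ^ 3 * (q * q - 1) * (q + 1) := by
    have : 0 < q * q - 1 := by omega
    positivity
  have hA0 : 0 < A := Nat.pos_of_ne_zero fun h => by simp [h] at hkQ; omega
  have hB0 : 0 < B := Nat.pos_of_ne_zero fun h => by simp [h] at hkQ; omega
  by_cases hA' : A = 1
  · exact Or.inl (Subgroup.relIndex_eq_one.1 hA')
  by_cases hB' : B = 1
  · exact Or.inr (Or.inl (Subgroup.relIndex_eq_one.1 hB'))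
  have hcardM : Nat.card M = A * (3 * n) := by
    rw [← hkc, hA, Subgroup.relIndex, ← Nat.card_congr (Subgroup.subgroupOfEquivOfLe hHM).toEquiv]
    exact ((mul_comm _ _).trans (Subgroup.card_mul_index _)).symm
  have main : ∀ D E : ℕ, 1 < D → D ≤ E → ((D : ℕ) : ZMod m) = 1 →
      3 * (D * E) = q ^ 3 * (q * q - 1) * (q + 1) →
      (q = 4 ∧ D = 40 ∧ E = 40) ∨ (q = 8 ∧ D = 96 ∧ E = 1008) := by
    intro D E hD hDE hD1 hmul
    obtain ⟨s, hs⟩ : m ∣ D - 1 := by
      refine (CharP.cast_eq_zero_iff (ZMod m) m _).1 ?_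
      rw [Nat.cast_sub hD.le, hD1, Nat.cast_one, sub_self]
    have hs0 : 0 < s := Nat.pos_of_ne_zero fun h => by rw [h, mul_zero] at hs; omega
    have hDs : D = m * s + 1 := by omega
    obtain ⟨t, ht0, ht⟩ : ∃ t, 0 < t ∧ t * n = 3 * (m * s) := by
      rcases hd13 with e | e <;> rw [e] at hm
      · exact ⟨3 * s, by omega, by rw [hm]; ring⟩
      · exact ⟨s, hs0, by rw [hm]; ring⟩
    exact no_split hpp hq h3 h5 ht0 (by rw [← hn, ht]; omega) hmul hDE
  rcases le_total A B with hle | hle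
  · rcases main A B (by omega) hle hN1 hkQ with ⟨h4, ha, -⟩ | ⟨h8, ha, -⟩
    · exact Or.inr (Or.inr (Or.inl ⟨h4, by rw [hcardM, ha, hn, h4]⟩))
    · exact Or.inr (Or.inr (Or.inr ⟨h8, Or.inl (by rw [hcardM, ha, hn, h8])⟩))
  · rcases main B A (by omega) hle hi1 (by rw [mul_comm B]; exact hkQ) with ⟨h4, -, ha⟩ | ⟨h8, -, ha⟩
    · exact Or.inr (Or.inr (Or.inl ⟨h4, by rw [hcardM, ha, hn, h4]⟩))
    · exact Or.inr (Or.inr (Or.inr ⟨h8, Or.inr (by rw [hcardM, ha, hn, h8])⟩))

end

end SSetup

end Cfsg.Agent.SU3Max.Singer
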