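import Cfsg.Agent.Lib.SU3Max.SingerCount
import Cfsg.Agent.Lib.SU3Max.Points

/-!
# Small overgroups of a Singer normaliser in characteristic two

Main results: `no_prime`, `small_false`.
-/

set_option autoImplicit false
set_option linter.unusedSectionVars false

namespace Cfsg.Agent.SU3Max.Singer

open Matrix Cfsg.Agent.Transvect Cfsg.Agent.Unitary Cfsg.Agent.C5.Uni

variable {F : Type*} [Field F] [Fintype F] {q : ℕ}

local notation "hh" => Cfsg.hermForm 3 F q

variable (hF : Fintype.card F = q ^ 2) {ℓ : ℕ} [CharP F 2] (hl : ℓ.Prime) (hlo : ℓ ≠ 2)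
  (hql : q = ℓ + 1) {M : Subgroup (GL (Fin 3) F)} (hMK : M ≤ suGL 3 F q) (hnf : NoFix M)
  (hproper : ¬ suGL 3 F q ≤ M)
include hF hl hlo hql hMK hnf hproper

/-- An element of order `q - 1` at the point of a `2`-group gives a centre. -/
lemma no_prime {P : Subgroup (GL (Fin 3) F)} (hPM : P ≤ M) (hP : IsPGroup 2 P) (hne : P ≠ ⊥)
    {w : Fin 3 → F} (hw0 : w ≠ 0) (hw : hh w w = 0) (hfix : ∀ g ∈ P, app g w = w) :
    ¬ ℓ ∣ Nat.card (ptFix M w) := by
  intro hdvd
  haveI : Finite (Matrix (Fin 3) (Fin 3) F) := inferInstanceAs (Finite (Fin 3 → Fin 3 → F))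
  haveI : Finite (GL (Fin 3) F) := Finite.of_injective Units.val Units.val_injective
  haveI : Fact (Nat.Prime 2) := ⟨Nat.prime_two⟩
  haveI : Fact ℓ.Prime := ⟨hl⟩
  have hl3 : 3 ≤ ℓ := by have := hl.two_le; omega
  have H := hermForm_isHerm hF 3
  haveI : Nontrivial P := (Subgroup.nontrivial_iff_ne_bot P).2 hne
  obtain ⟨n, hn⟩ := IsPGroup.iff_card.1 hP
  have hn0 : n ≠ 0 := by
    rintro rfl
    have := Finite.one_lt_card (α := P)
    rw [hn] at this
    simp at this
  obtain ⟨⟨u, hu⟩, hu2⟩ :=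
    exists_prime_orderOf_dvd_card' (G := P) 2 (by rw [hn]; exact dvd_pow_self 2 hn0)
  have huo : orderOf u = 2 := (Subgroup.orderOf_coe (⟨u, hu⟩ : P)).trans hu2
  obtain ⟨c, hc, huc⟩ := involution_tu hF (hMK (hPM hu)).1
    (by rw [← pow_two, ← huo, pow_orderOf_eq_one]) hw0 hw (hfix u hu)
  have hc0 : c ≠ 0 := by
    rintro rfl
    rw [huc, tu_zero hw, orderOf_one] at huo
    norm_num at huo
  obtain ⟨⟨g, hg⟩, hgl⟩ := exists_prime_orderOf_dvd_card' (G := ptFix M w) ℓ hdvd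
  have hgo : orderOf g = ℓ := (Subgroup.orderOf_coe (⟨g, hg⟩ : ptFix M w)).trans hgl
  have hgp : g ^ ℓ = 1 := hgo ▸ pow_orderOf_eq_one g
  obtain ⟨a, hga⟩ : ∃ a : F, app g w = a • w := by
    have : app g w ∈ F ∙ w := hg.2 ▸ Submodule.mem_span_singleton_self _
    obtain ⟨a, ha⟩ := Submodule.mem_span_singleton.1 this
    exact ⟨a, ha.symm⟩
  have hal : a ^ ℓ = 1 := by
    have h1 := pow_app_smul hga ℓ
    rw [hgp, map_one] at h1
    exact (smul_left_injective F hw0 (show (1 : F) • w = a ^ ℓ • w by rw [one_smul]; exact h1)).symm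
  have h20 : (2 : F) = 0 := by exact_mod_cast CharP.cast_eq_zero F 2
  by_cases ha1 : a = 1
  · rw [ha1, one_smul] at hga
    obtain ⟨y, hy, hwy⟩ := exists_iso_partner hF hw0 hw
    have hyw : y ∉ F ∙ w := fun h => by
      obtain ⟨b, rfl⟩ := Submodule.mem_span_singleton.1 h
      rw [H.smul_right, hw, mul_zero] at hwy
      exact zero_ne_one hwy
    obtain ⟨b, z, -, hfr⟩ := exists_frame hF hw0 hw hy hyw
    have hU := (hMK hg.1).1
    have h1 : hh (app g z) w = 0 := by
      rw [← hfr.ze hF]; conv_rhs => rw [← herm_app hF hU, hga]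
    obtain ⟨μ, α, hgz⟩ : ∃ μ α : F, app g z = μ • z + α • w := by
      refine ⟨hh (app g z) z / hh z z, hh (app g z) (b • y), ?_⟩
      conv_lhs => rw [hfr.expand hF (app g z), h1]
      rw [zero_smul, add_zero, add_comm]
    have hpow : ∀ k : ℕ, ∃ d : F, app (g ^ k) z = μ ^ k • z + d • w := by
      intro k
      induction k with
      | zero => exact ⟨0, by simp⟩
      | succ k ih =>
        obtain ⟨d, hd⟩ := ih
        refine ⟨μ ^ k * α + d, ?_⟩
        rw [pow_succ' g, map_mul, LinearEquiv.mul_apply, hd, map_add, map_smul, map_smul, hgz, hga,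
          smul_add, smul_smul, smul_smul, add_assoc, ← add_smul, pow_succ]
    obtain ⟨d, hd⟩ := hpow ℓ
    rw [hgp, map_one] at hd
    have e1 := congrArg (fun x => hh x z) hd
    simp [H.add_left, H.smul_left, hfr.ez] at e1
    have hμl : μ ^ ℓ = 1 := mul_right_cancel₀ hfr.zz (by rw [one_mul]; exact e1.symm)
    have hμq : μ * μ ^ q = 1 := by
      have e2 := herm_app hF hU z z
      rw [hgz] at e2
      simp [H.add_left, H.add_right hF, H.smul_left, H.smul_right, hfr.ez, hfr.ze hF, hw] at e2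
      refine mul_right_cancel₀ hfr.zz ?_
      rw [one_mul]
      linear_combination e2
    have hμ2 : μ ^ 2 = 1 := by
      rw [hql, pow_succ, hμl, one_mul] at hμq
      rw [pow_two]; exact hμq
    have hμ : μ = 1 := by
      obtain ⟨j, hj⟩ := hl.odd_of_ne_two hlo
      rw [hj, pow_succ, pow_mul, hμ2, one_pow, one_mul] at hμl
      exact hμl
    rw [hμ, one_smul] at hgz
    have hg2w : app (g * g) w = w := by rw [map_mul, LinearEquiv.mul_apply, hga, hga]
    have hg2z : app (g * g) z = z := by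
      rw [map_mul, LinearEquiv.mul_apply, hgz, map_add, map_smul, hga, hgz, add_assoc, ← add_smul]
      rw [show α + α = 0 by linear_combination α * h20, zero_smul, add_zero]
    obtain ⟨e, hs⟩ := hfr.eq_tu hF (mul_mem hU hU) hg2w hg2z
    have h4 : g ^ 4 = 1 := by
      rw [show g ^ 4 = (g * g) * (g * g) by simp [pow_succ, mul_assoc], e, tu_add hF hw]
      rw [show ∀ x : F, x + x = 0 from fun x => by linear_combination x * h20, tu_zero hw]
    have h5 : orderOf g ∣ 2 ^ 2 := orderOf_dvd_of_pow_eq_one h4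
    rw [hgo] at h5
    exact hlo ((Nat.prime_dvd_prime_iff_eq hl Nat.prime_two).1 (hl.dvd_of_dvd_pow h5))
  · refine hproper (le_of_centre hF (by omega) hMK hnf hw0
      (centre_of_scale hF hMK hw hc hc0 (huc ▸ hPM hu) hg.1 hga fun x hx => ?_))
    rcases eq_or_ne x 0 with rfl | hx0
    · exact zero_mem _
    have hν : a ^ (q + 1) = a ^ 2 := by
      rw [hql, show ℓ + 1 + 1 = ℓ + 2 by rfl, pow_add, hal, one_mul]
    have hoa : orderOf a = ℓ := orderOf_eq_prime hal ha1
    have hon : orderOf (a ^ 2) = ℓ := by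
      rw [orderOf_pow' a two_ne_zero, hoa,
        show Nat.gcd ℓ 2 = 1 from (Nat.coprime_primes hl Nat.prime_two).2 hlo, Nat.div_one]
    haveI : NeZero (orderOf (a ^ 2)) := ⟨by rw [hon]; exact hl.ne_zero⟩
    have hxl : x ^ ℓ = 1 := mul_left_cancel₀ hx0 (by rw [← pow_succ', ← hql, hx, mul_one])
    obtain ⟨i, -, rfl⟩ := (IsPrimitiveRoot.orderOf (a ^ 2)).eq_pow_of_pow_eq_one (ξ := x)
      (by rwa [hon])
    exact AddSubgroup.subset_closure ⟨i, by rw [← hν]⟩

/-- The orbit of the point of a Sylow group has no possible length. -/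
lemma small_false {e c : ℕ} (he : e ≠ 0) (hd : 2 ^ e ∣ Nat.card M) (hc0 : c ≠ 0)
    (hc : ∀ w : Fin 3 → F, c ∣ Nat.card (ptFix M w))
    (num : ∀ s ≤ q ^ 3 + 1, s ∣ Nat.card M / c → s % 2 ^ e = 1 → s ≠ 1 →
      ℓ ∣ Nat.card M ∧ ¬ ℓ ∣ s) : False := by
  haveI : Finite (Matrix (Fin 3) (Fin 3) F) := inferInstanceAs (Finite (Fin 3 → Fin 3 → F))
  haveI : Finite (GL (Fin 3) F) := Finite.of_injective Units.val Units.val_injective
  haveI : Fact (Nat.Prime 2) := ⟨Nat.prime_two⟩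
  obtain ⟨P, hP⟩ := Sylow.exists_subgroup_card_pow_prime 2 hd
  set Q := P.map M.subtype
  have hQc : Nat.card Q = 2 ^ e := by
    rw [Subgroup.card_map_of_injective Subtype.val_injective, hP]
  have hQM : Q ≤ M := fun x hx => by obtain ⟨y, -, rfl⟩ := hx; exact y.2
  have hQp : IsPGroup 2 Q := IsPGroup.of_card hQc
  have hQne : Q ≠ ⊥ := fun e' => by
    rw [e', Subgroup.card_bot] at hQc
    exact absurd hQc.symm (Nat.one_lt_two_pow he).ne'
  obtain ⟨w, hw0, hw, hfix⟩ := exists_fixed_iso hF hMK hQM hQp hQne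
  obtain ⟨r, hr⟩ := point_orbit hF hMK hQM hQp hw0 hw hfix
  have hne1 : (ptOrb M w).ncard ≠ 1 := by
    intro h1
    obtain ⟨g, hg, hgw⟩ := hnf w hw0
    obtain ⟨W, hW⟩ := Set.ncard_eq_one.1 h1
    have ha : (F ∙ app g w) ∈ ptOrb M w := ⟨g, hg, rfl⟩
    have hb : (F ∙ w) ∈ ptOrb M w := ⟨1, one_mem M, by simp⟩
    rw [hW, Set.mem_singleton_iff] at ha hb
    exact hgw ((ha.trans hb.symm) ▸ Submodule.mem_span_singleton_self _)
  have hmul := card_ptOrb_mul M w
  obtain ⟨j, hj⟩ := hc w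
  have hdiv : (ptOrb M w).ncard ∣ Nat.card M / c := by
    refine ⟨j, ?_⟩
    rw [← hmul, hj, show (ptOrb M w).ncard * (c * j) = (ptOrb M w).ncard * j * c by ring,
      Nat.mul_div_cancel _ (Nat.pos_of_ne_zero hc0)]
  obtain ⟨hlM, hls⟩ := num _ (ptOrb_le hF hMK hw0 hw) hdiv (by
    rw [hr, hQc, Nat.mul_add_mod, Nat.one_mod_eq_one.2 (Nat.one_lt_two_pow he).ne']) hne1
  rw [← hmul] at hlM
  exact no_prime hF hl hlo hql hMK hnf hproper hQM hQp hQne hw0 hw hfix
    ((hl.dvd_mul.1 hlM).resolve_left hls)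

end Cfsg.Agent.SU3Max.Singer
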