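import Cfsg.Agent.Lib.SU3Max.SubTwo
import Cfsg.Agent.Lib.C5.UnitaryMax
import Cfsg.Agent.Lib.Aschbacher.SU3NotLe

/-!
# Subfield groups of odd prime index are maximal in `SU₃(q)`

Main results: `subfield_maximal`.
-/

set_option autoImplicit false
set_option linter.unusedSectionVars false

open Cfsg Matrix

namespace Cfsg.Agent.SU3Max.Sub

universe u

variable {F : Type u} [Field F] [Fintype F] {q : ℕ}

/-- The standard position: an overgroup is small or everything. -/
theorem overgroup_cases {F₀ : Subfield F} {r : ℕ} {M : Subgroup (GL (Fin 3) F)}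
    (hF : Fintype.card F = q ^ 2) (hq : 3 ≤ q) (hr : r.Prime) (hro : Odd r)
    (hcard : Fintype.card F = Nat.card F₀ ^ r)
    (hM : Cfsg.Geo.subfieldSubgroup F₀ 1 ⊓ Unitary.suGL 3 F q ≤ M) (hMK : M ≤ Unitary.suGL 3 F q) :
    M ≤ Cfsg.Geo.subfieldSubgroup F₀ 1 ⊓ Unitary.suGL 3 F q ∨ Unitary.suGL 3 F q ≤ M := by
  refine or_iff_not_imp_right.2 fun hpr g hg => ⟨?_, hMK hg⟩
  have S : SFC F₀ q r M := ⟨hF, hq, hr, hro, hcard, hM, hMK, hpr⟩
  refine S.mem_of_rat (hMK hg) fun x hx hxx => ?_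
  by_cases h4 : Nat.card F₀ = 4
  · exact S.two_ratLine h4 hg hx hxx
  · exact S.ratLine_of_norms ((SU3Max.herm_app hF (hMK hg).1 x x).trans hxx)
      fun e1 h1 h11 => S.norm_mem hg hx hxx h1 h11 h4

/-- Clause 5: the subfield groups of odd prime index are maximal. -/
theorem subfield_maximal (hF : Fintype.card F = q ^ 2) (hq : 3 ≤ q) (F₀ : Subfield F) (r : ℕ)
    (hr : r.Prime) (hro : Odd r) (hcard : Fintype.card F = Nat.card F₀ ^ r)
    (P : Matrix.GeneralLinearGroup (Fin 3) F)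
    (hP : Cfsg.Geo.IsFormRationalStructure (Cfsg.hermForm 3 F q) F₀ 1 P) :
    Cfsg.Geo.IsMaximalIn (Cfsg.GU 3 F q ⊓ Cfsg.Geo.specialLinear (Fin 3) F)
      (Cfsg.Geo.subfieldSubgroup F₀ P ⊓ (Cfsg.GU 3 F q ⊓ Cfsg.Geo.specialLinear (Fin 3) F)) := by
  classical
  have C : C5.Uni.Ctx F₀ q 6 r := ⟨hF, hr, hro, hcard, le_rfl⟩
  obtain ⟨q₀, hq₀, hσ⟩ := C.exists_q0
  let _ : Fintype F₀ := Fintype.ofFinite F₀
  rw [Nat.card_eq_fintype_card] at hq₀
  have H := Unitary.hermForm_isHerm hF 3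
  -- the form on rational vectors
  let up : (Fin 3 → F₀) → (Fin 3 → F) := fun x => Transvect.app P fun i => (x i : F)
  have up_add : ∀ x y, up (x + y) = up x + up y := fun x y => by
    show Transvect.app P ((fun i => (x i : F)) + fun i => (y i : F)) = _
    rw [map_add]
  have up_smul : ∀ (c : F₀) x, up (c • x) = (c : F) • up x := fun c x => by
    show Transvect.app P ((c : F) • fun i => (x i : F)) = _
    rw [map_smul]
  let g : (Fin 3 → F₀) → (Fin 3 → F₀) → F₀ := fun x y =>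
    ⟨Cfsg.hermForm 3 F q (up x) (up y), by
      have h1 := hP (fun i => (x i : F)) (fun i => (y i : F)) (fun i => (x i).2) (fun i => (y i).2)
      rw [one_mul] at h1
      exact h1⟩
  have Hg : Unitary.IsHerm q₀ g := by
    refine ⟨fun x y z => Subtype.ext ?_, fun c x z => Subtype.ext ?_, fun x y => Subtype.ext ?_⟩
    · simp only [g]; push_cast; rw [up_add, H.add_left]
    · simp only [g]; push_cast; rw [up_smul, H.smul_left]
    · simp only [g]; push_cast
      rw [H.conj_symm (up x) (up y), hσ _ (g x y).2]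
  have hnd : Unitary.Nondeg g := fun x hx => by
    have h0 : up x = 0 := Unitary.hermForm_nondeg hF 3 _ fun y => by
      rw [← Transvect.app_app_inv P y, pi_eq_sum_univ' (Transvect.app P⁻¹ y), map_sum, H.sum_right hF]
      refine Finset.sum_eq_zero fun i _ => ?_
      rw [map_smul, H.smul_right]
      have h1 : Cfsg.hermForm 3 F q (up x) (up (Pi.single i 1)) = 0 :=
        congrArg Subtype.val (hx (Pi.single i 1))
      rw [show Transvect.app P (Pi.single i 1) = up (Pi.single i 1) from congrArg (Transvect.app P)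
        (funext fun k => by by_cases h : k = i <;> simp [h]), h1, mul_zero]
    exact funext fun i => Subtype.ext (congrFun ((Transvect.app P).map_eq_zero_iff.1 h0) i)
  have hb := Unitary.exists_orthonormalBasis hq₀ Hg hnd
  rw [Module.finrank_fin_fun] at hb
  obtain ⟨b, hb⟩ := hb
  let B : Matrix (Fin 3) (Fin 3) F₀ := Matrix.of fun i m => b m i
  set N : Matrix (Fin 3) (Fin 3) F := (P : Matrix (Fin 3) (Fin 3) F) * B.map F₀.subtype
  have hN : Unitary.IsUnitary q N := (Unitary.isUnitary_iff_orthonormal hF N).2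
    ⟨fun m => congrArg Subtype.val (hb.1 m), fun m m' hm => congrArg Subtype.val (hb.2 hm)⟩
  let Q : Matrix.GeneralLinearGroup (Fin 3) F := (Unitary.guOfUnitary hF N hN : Cfsg.GU 3 F q)
  have hQ : Q ∈ Cfsg.GU 3 F q := (Unitary.guOfUnitary hF N hN).2
  set R := P⁻¹ * Q with hR
  have hRmem : R ∈ Cfsg.Geo.subfieldSubgroup F₀ 1 := C5.ratLine_mem_iff.2
    ⟨1, one_ne_zero, fun u hu i => by
      rw [inv_one, one_smul, hR, map_mul, LinearEquiv.mul_apply,
        show Transvect.app Q u = Transvect.app P (B.map F₀.subtype *ᵥ u) from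
          (Matrix.mulVec_mulVec u _ _).symm, Transvect.app_inv_app]
      exact F₀.sum_mem (t := Finset.univ) fun m _ => F₀.mul_mem (B i m).2 (hu m)⟩
  -- the standard position
  have hne : F₀ ≠ ⊤ := fun h => by
    subst h
    have h1 : Nat.card (⊤ : Subfield F) = Fintype.card F := by
      rw [← Nat.card_eq_fintype_card]; exact Nat.card_congr Subfield.topEquiv.toEquiv
    rw [h1] at hcard
    have := Nat.pow_lt_pow_right (Fintype.one_lt_card (α := F)) hr.one_lt
    rw [pow_one, ← hcard] at this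
    exact lt_irrefl _ this
  have key : Cfsg.Geo.IsMaximalIn (Unitary.suGL 3 F q)
      (Cfsg.Geo.subfieldSubgroup F₀ 1 ⊓ Unitary.suGL 3 F q) := by
    refine ⟨lt_of_le_of_ne inf_le_right fun h =>
      Aschbacher.SU3.not_su3_le_subfieldSubgroup hF hq hne 1 (inf_eq_right.1 h), fun M hM₁ hM₂ => ?_⟩
    rcases overgroup_cases hF hq hr hro hcard hM₁ hM₂ with h | h
    · exact Or.inl (le_antisymm h hM₁)
    · exact Or.inr (le_antisymm hM₂ h)
  have h1 := C5.isMaximalIn_map (MulAut.conj Q) key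
  have hK : (Unitary.suGL 3 F q).map (MulAut.conj Q).toMonoidHom = Unitary.suGL 3 F q := by
    rw [Subgroup.map_inf _ _ (MulAut.conj Q).toMonoidHom (MulEquiv.injective _),
      C5.specialLinear_map_conj]
    congr 1
    ext x
    rw [Subgroup.mem_map]
    exact ⟨fun ⟨y, hy, hyx⟩ => hyx ▸ mul_mem (mul_mem hQ hy) (inv_mem hQ), fun hx =>
      ⟨Q⁻¹ * x * Q, mul_mem (mul_mem (inv_mem hQ) hx) hQ, by simp [mul_assoc]⟩⟩
  have hS : (Cfsg.Geo.subfieldSubgroup F₀ 1).map (MulAut.conj Q).toMonoidHom =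
      Cfsg.Geo.subfieldSubgroup F₀ P := by
    rw [C5.subfieldSubgroup_eq_map F₀ P]
    ext x
    rw [Subgroup.mem_map, Subgroup.mem_map]
    constructor
    · rintro ⟨y, hy, rfl⟩
      exact ⟨R * y * R⁻¹, mul_mem (mul_mem hRmem hy) (inv_mem hRmem), by simp [hR, mul_assoc]⟩
    · rintro ⟨y, hy, rfl⟩
      exact ⟨R⁻¹ * y * R, mul_mem (mul_mem (inv_mem hRmem) hy) hRmem, by simp [hR, mul_assoc]⟩
  rw [Subgroup.map_inf (Cfsg.Geo.subfieldSubgroup F₀ 1) (Unitary.suGL 3 F q)
    (MulAut.conj Q).toMonoidHom (MulEquiv.injective _), hK, hS] at h1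
  exact h1


end Cfsg.Agent.SU3Max.Sub
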