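import Cfsg.Agent.Lib.SU3Max.SubRoot
import Cfsg.Agent.Lib.SU3Max.Tangent

/-!
# Overgroups of a subfield subgroup of `SU₃(q)`

Main results:
* `SFC` : the hypotheses
* `SFC.norm_mem` : a moved rational point has rational norms with the rational points, `q₀ ≠ 2`
* `SFC.ratLine_of_norms` : such a point is rational
* `SFC.mem_of_rat` : what maps rational isotropic points to such is in the subfield group
-/

set_option autoImplicit false
set_option linter.unusedSectionVars false

namespace Cfsg.Agent.SU3Max.Sub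

open Matrix Cfsg.Agent.Transvect Cfsg.Agent.Unitary Cfsg.Agent.C5.Uni Cfsg.Agent.SU3Max
open Cfsg.Agent.C5 (Rat RatLine rat_single mem_of_smul_rat)

variable {F : Type*} [Field F] [Fintype F] {q : ℕ}

local notation "V" => (Fin 3 → F)
local notation "hh" => Cfsg.hermForm 3 F q

/-- A proper overgroup of the rational subgroup of `SU₃(q)`. -/
structure SFC (F₀ : Subfield F) (q r : ℕ) (M : Subgroup (GL (Fin 3) F)) : Prop where
  hF : Fintype.card F = q ^ 2
  hq : 3 ≤ q
  hr : r.Prime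
  hro : Odd r
  hcard : Fintype.card F = Nat.card F₀ ^ r
  hM : Cfsg.Geo.subfieldSubgroup F₀ 1 ⊓ suGL 3 F q ≤ M
  hMK : M ≤ suGL 3 F q
  proper : ¬ suGL 3 F q ≤ M

namespace SFC

variable {F₀ : Subfield F} {r : ℕ} {M : Subgroup (GL (Fin 3) F)} (S : SFC F₀ q r M)
include S

lemma ctx : Ctx F₀ q 6 r := ⟨S.hF, S.hr, S.hro, S.hcard, le_rfl⟩

lemma r3 : 3 ≤ r := by
  have := S.hr.two_le
  obtain ⟨k, hk⟩ := S.hro
  omega

lemma rtu {v : V} (hv : Rat F₀ v) (hvv : hh v v = 0) {c : F} (hc : c ∈ F₀) (hcs : c + c ^ q = 0) :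
    tu q v c ∈ M :=
  S.hM ⟨tu_mem_subfield hvv hv hc, C5.Uni.tu_mem_suGL S.hF hvv hcs⟩

/-- The sizes of the fields. -/
lemma sizes : ∃ q₀ : ℕ, 2 ≤ q₀ ∧ Nat.card F₀ = q₀ ^ 2 ∧ q = q₀ ^ r ∧
    (∀ x ∈ F₀, x ^ q = x ^ q₀) ∧
    Nat.card (F₀.comap (Unitary.fixedField S.hF).subtype) = q₀ := by
  obtain ⟨q₀, hq₀, hσ⟩ := S.ctx.exists_q0
  have hqr : q = q₀ ^ r := by
    have h := S.hcard
    rw [S.hF, hq₀, ← pow_mul, mul_comm, pow_mul] at h
    exact Nat.pow_left_injective two_ne_zero h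
  refine ⟨q₀, ?_, hq₀, hqr, hσ, ?_⟩
  · by_contra h
    have h01 : q₀ = 0 ∨ q₀ = 1 := by omega
    have := S.hq
    rcases h01 with rfl | rfl <;> simp [hqr, S.hr.ne_zero] at this
  · let _ : Fintype F₀ := Fintype.ofFinite F₀
    rw [← Unitary.card_fixed (F := F₀) (q := q₀) (by rw [← Nat.card_eq_fintype_card]; exact hq₀)]
    refine Nat.card_congr
      { toFun := fun x => ⟨⟨((x.1 : Unitary.fixedField S.hF) : F), x.2⟩, Subtype.ext ?_⟩
        invFun := fun x => ⟨⟨((x.1 : F₀) : F), (Unitary.mem_fixedField S.hF).2 ?_⟩, x.1.2⟩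
        left_inv := fun x => rfl
        right_inv := fun x => rfl }
    · show (((x.1 : Unitary.fixedField S.hF) : F)) ^ q₀ = _
      exact (hσ _ x.2).symm.trans ((Unitary.mem_fixedField S.hF).1 x.1.2)
    · rw [hσ _ x.1.2]
      exact congrArg Subtype.val x.2

/-- A rational frame. -/
lemma exists_rat_frame : ∃ e f z : V, Frame q e f z ∧ Rat F₀ e ∧ Rat F₀ f ∧ Rat F₀ z ∧
    hh z z = 1 := by
  have hF := S.hF
  have H := hermForm_isHerm hF 3
  have hm : (-1 : F) ∈ F₀ := F₀.neg_mem F₀.one_mem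
  have hmq : (-1 : F) ^ q = -1 := by rw [neg_pow_q hF, one_pow]
  obtain ⟨ε, hεF, hε⟩ := S.ctx.exists_norm hm hmq
  obtain ⟨l, hlF, hl⟩ := S.ctx.exists_trace hm hmq
  have hεe : ε * ε ^ q = -1 := by rw [← pow_succ']; exact hε
  set e : V := Pi.single 0 1 + ε • Pi.single 1 1 with he
  have hre : Rat F₀ e := (rat_single 0).add ((rat_single 1).smul hεF)
  have B := (single_orthonormal hF 3).apply
  refine ⟨e, Pi.single 0 1 + l • e, Pi.single 2 1, ⟨?_, ?_, ?_, ?_, ?_, ?_⟩, hre,
    (rat_single 0).add (hre.smul hlF), rat_single 2, ?_⟩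
  all_goals simp [he, H.add_left, H.add_right hF, H.smul_left, H.smul_right, B]
  all_goals (first | linear_combination hεe | linear_combination hl | skip)
  all_goals (first | linear_combination hl + (l * l ^ q) * hεe | linear_combination (l ^ q) * hεe)

lemma noFix : NoFix M := by
  have hF := S.hF
  have H := hermForm_isHerm hF 3
  obtain ⟨e, f, z, hfr, hre, hrf, hrz, hzz⟩ := S.exists_rat_frame
  obtain ⟨δ, hδF, hδ0, hδ⟩ := S.ctx.exists_delta
  intro x hx
  by_contra hc
  push Not at hc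
  have key : ∀ v : V, Rat F₀ v → hh v v = 0 → hh x v = 0 ∨ x ∈ F ∙ v := by
    intro v hv hvv
    refine or_iff_not_imp_left.2 fun hxv => ?_
    have h1 := Submodule.sub_mem _ (hc _ (S.rtu hv hvv hδF hδ))
      (Submodule.mem_span_singleton_self x)
    rw [tu_apply hvv, add_sub_cancel_left] at h1
    obtain ⟨a, ha⟩ := Submodule.mem_span_singleton.1 h1
    have ha0 : a ≠ 0 := fun e0 => by
      rw [e0, zero_smul] at ha
      rcases smul_eq_zero.1 ha.symm with h | h
      · exact mul_ne_zero hδ0 hxv h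
      · rw [h, H.zero_right hF] at hxv; exact hxv rfl
    exact Submodule.mem_span_singleton.2 ⟨a⁻¹ * (δ * hh x v), by
      rw [mul_smul, ← ha, inv_smul_smul₀ ha0]⟩
  have hxe : hh x e = 0 := (key e hre hfr.ee).elim id fun h => by
    obtain ⟨a, rfl⟩ := Submodule.mem_span_singleton.1 h
    rw [H.smul_left, hfr.ee, mul_zero]
  have hxf : hh x f = 0 := (key f hrf hfr.ff).elim id fun h => by
    obtain ⟨a, rfl⟩ := Submodule.mem_span_singleton.1 h
    rw [H.smul_left, hfr.ff, mul_zero]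
  obtain ⟨a, rfl⟩ := Submodule.mem_span_singleton.1 (hfr.mem_pole hF hxe hxf)
  have ha0 : a ≠ 0 := fun e0 => hx (by rw [e0, zero_smul])
  obtain ⟨s, hsF, hs⟩ := S.ctx.exists_trace (c := -1) (F₀.neg_mem F₀.one_mem)
    (by rw [neg_pow_q hF, one_pow])
  set v := s • e + f + z
  have hvv : hh v v = 0 := by
    simp [v, H.add_left, H.add_right hF, H.smul_left, H.smul_right, hfr.ee, hfr.ff, hfr.ef,
      hfr.fe hF, hfr.ez, hfr.ze hF, hfr.fz, hfr.zf hF, hzz]
    linear_combination hs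
  have hzv : hh z v = 1 := by
    simp [v, H.add_right hF, H.smul_right, hfr.ze hF, hfr.zf hF, hzz]
  rcases key v (((hre.smul hsF).add hrf).add hrz) hvv with h | h
  · rw [H.smul_left, hzv, mul_one] at h; exact ha0 h
  · obtain ⟨b, hb⟩ := Submodule.mem_span_singleton.1 h
    have h2 := congrArg (fun y => hh y e) hb
    simp [v, H.add_left, H.smul_left, hfr.ee, hfr.fe hF, hfr.ze hF] at h2
    rw [h2, zero_smul] at hb
    exact hx hb.symm

/-- There are no centres. -/
lemma no_centre {v : V} (hv0 : v ≠ 0) : v ∉ centres q M := fun hv =>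
  S.proper (le_of_centre S.hF S.hq S.hMK S.noFix hv0 hv)

/-- A subfield of the real field above the rational one and a further element is everything. -/
lemma gen_top {R : Subfield (Unitary.fixedField S.hF)}
    (h0 : F₀.comap (Unitary.fixedField S.hF).subtype ≤ R) {x : Unitary.fixedField S.hF}
    (hx : x ∈ R) (hxn : (x : F) ∉ F₀) : R = ⊤ := by
  classical
  obtain ⟨q₀, -, -, hqr, -, hK0⟩ := S.sizes
  haveI : Finite (Unitary.fixedField S.hF) := Subtype.finite
  letI : Fintype (Unitary.fixedField S.hF) := Fintype.ofFinite _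
  have hc : Fintype.card (Unitary.fixedField S.hF) =
      Nat.card (F₀.comap (Unitary.fixedField S.hF).subtype) ^ r := by
    rw [← Nat.card_eq_fintype_card, Unitary.card_fixedField S.hF, hK0, hqr]
  rcases C5.subfield_eq_or_top S.hr hc h0 with h | h
  · rw [h] at hx
    exact absurd hx hxn
  · exact h

/-- A moved rational point has rational norms with the rational points. -/
theorem norm_mem {g : GL (Fin 3) F} (hg : g ∈ M) {e e1 : V} (he : Rat F₀ e) (hee : hh e e = 0)
    (h1 : Rat F₀ e1) (h11 : hh e1 e1 = 0) (h2 : Nat.card F₀ ≠ 4) :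
    hh e1 (app g e) * hh e1 (app g e) ^ q ∈ F₀ := by
  classical
  have hF := S.hF
  have H := hermForm_isHerm hF 3
  set w := app g e
  have hww : hh w w = 0 := (herm_app hF (S.hMK hg).1 e e).trans hee
  rcases eq_or_ne (hh e1 w) 0 with h0 | h0
  · rw [h0, zero_mul]; exact F₀.zero_mem
  have he10 : e1 ≠ 0 := fun h => h0 (by rw [h, H.zero_left])
  have hwe : w ∉ F ∙ e1 := fun h => by
    obtain ⟨a, ha⟩ := Submodule.mem_span_singleton.1 h
    rw [← ha, H.smul_right, h11, mul_zero] at h0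
    exact h0 rfl
  obtain ⟨c, z, hc0, hfr⟩ := exists_frame hF he10 h11 hww hwe
  have hch : c ^ q * hh e1 w = 1 := by rw [← H.smul_right]; exact hfr.ef
  set γ := hh e1 w * hh e1 w ^ q with hγdef
  have hγ0 : γ ≠ 0 := mul_ne_zero h0 (pow_ne_zero _ h0)
  have hcN : c ^ (q + 1) * γ = 1 := by
    have h' : c * hh e1 w ^ q = 1 := by
      have := congrArg (· ^ q) hch
      simp only [mul_pow, one_pow, pow_q_pow_q hF] at this
      exact this
    rw [hγdef, pow_succ]
    linear_combination (c * hh e1 w ^ q) * hch + h'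
  by_contra hγ
  obtain ⟨q₀, hq2, hq0c, hqr, hσ, hK0⟩ := S.sizes
  have hq03 : 3 ≤ q₀ := by
    by_contra hlt
    obtain rfl : q₀ = 2 := by omega
    exact h2 (by rw [hq0c]; norm_num)
  obtain ⟨δ, hδF, hδ0, hδ⟩ := S.ctx.exists_delta
  have hδi : δ⁻¹ + δ⁻¹ ^ q = 0 := by
    rw [inv_pow, eq_neg_of_add_eq_zero_right hδ, inv_neg, add_neg_cancel]
  have hfr' := hfr.symm hF
  set K := Unitary.fixedField hF
  have hγK : γ ^ q = γ := by rw [hγdef, mul_pow, pow_q_pow_q hF]; ring
  set γ' : K := ⟨γ, (Unitary.mem_fixedField hF).2 hγK⟩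
  have hmem : ∀ k ∈ F₀.comap K.subtype, γ' * k ∈ rootSet hF hfr'.ee M δ := by
    intro k hk
    show tu q (c • w) (((γ' * k : K) : F) * δ) ∈ M
    have e1' : ((γ' * k : K) : F) * δ * c ^ (q + 1) = (k : F) * δ := by
      push_cast
      linear_combination ((k : F) * δ) * hcN
    rw [tu_smul hF hww, e1', ← tu_conj hF (S.hMK hg).1 hee]
    refine mul_mem (mul_mem hg (S.rtu he hee (F₀.mul_mem hk hδF) ?_)) (inv_mem hg)
    exact mul_skew' hδ ((Unitary.mem_fixedField hF).1 k.2)
  have hcardA : q₀ ≤ Nat.card (rootSet hF hfr'.ee M δ) := by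
    rw [← hK0]
    exact Nat.card_le_card_of_injective
      (fun k => (⟨γ' * k.1, hmem k.1 k.2⟩ : rootSet hF hfr'.ee M δ)) fun a b h => by
        have h' := congrArg Subtype.val h
        exact Subtype.ext (mul_left_cancel₀ (fun e0 => hγ0 (congrArg Subtype.val e0)) h')
  obtain ⟨p, m, hp, hpc, hqp, hm⟩ := Cfsg.Agent.Unitary.exists_prime_pow hF
  haveI : Fact p.Prime := ⟨hp⟩
  refine S.no_centre (hfr'.e_ne hF) (centre_of_roots (p := p) hF hfr' hδ hδ0
    (S.rtu h1 h11 (F₀.inv_mem hδF) hδi) ?_ ?_ (fun _ => by omega) ?_)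
  · set R := Subfield.closure
      ((rootSet hF hfr'.ee M δ : AddSubgroup K) : Set K)
    have hγR : γ' ∈ R := Subfield.subset_closure (by
      simpa using hmem 1 (Subfield.one_mem _))
    refine S.gen_top (R := R) (fun k hk => ?_) hγR hγ
    have := R.mul_mem (R.inv_mem hγR) (Subfield.subset_closure (hmem k hk))
    rwa [inv_mul_cancel_left₀ (fun e0 => hγ0 (congrArg Subtype.val e0))] at this
  · intro hb
    rw [hb, AddSubgroup.card_bot] at hcardA
    omega
  · intro hp3 hA
    subst hp3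
    have hq0' : q₀ = 3 := by omega
    rw [hqr, hq0', ← pow_mul]
    intro h5
    have h5' : 5 ∣ 3 ^ (r * 2) - 1 :=
      ((Nat.Prime.dvd_mul (by norm_num)).1 h5).resolve_left fun h => by
        have := (Nat.Prime.dvd_of_dvd_pow (by norm_num) h : 5 ∣ 3)
        norm_num at this
    obtain ⟨k, hk⟩ := S.hro
    have h9 : 3 ^ (r * 2) % 5 = 4 := by
      rw [hk, show (2 * k + 1) * 2 = 4 * k + 2 by ring, pow_add, pow_mul, Nat.mul_mod, Nat.pow_mod]
      norm_num
    have h1' : 1 ≤ 3 ^ (r * 2) := Nat.one_le_pow _ _ (by norm_num)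
    obtain ⟨j, hj⟩ := h5'
    omega
where
  mul_skew' {δ k : F} (hδ : δ + δ ^ q = 0) (hk : k ^ q = k) : k * δ + (k * δ) ^ q = 0 := by
    rw [mul_pow, hk]; linear_combination k * hδ

/-- A point with rational norms is rational. -/
theorem ratLine_of_norms {w : V} (hw : hh w w = 0)
    (hall : ∀ e1 : V, Rat F₀ e1 → hh e1 e1 = 0 → hh e1 w * hh e1 w ^ q ∈ F₀) :
    RatLine F₀ w := by
  have hF := S.hF
  have H := hermForm_isHerm hF 3
  obtain ⟨e, f, z, hfr, hre, hrf, hrz, hzz⟩ := S.exists_rat_frame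
  have hexp := hfr.expand hF w
  rw [hzz, div_one] at hexp
  set A := hh w f
  set B := hh w e
  set C := hh w z
  have hconj : ∀ v : V, hh v w = hh w v ^ q := fun v => H.conj_symm w v
  by_cases hB : B = 0
  · have hC : C = 0 := by
      rw [hexp, hB] at hw
      simp [H.add_left, H.add_right hF, H.smul_left, H.smul_right, hfr.ee, hfr.ez, hfr.ze hF, hzz] at hw
      have := S.hq
      by_contra hC
      exact hC (hw.elim id And.left)
    refine ⟨A, e, hre, ?_⟩
    rw [hexp, hB, hC, zero_smul, zero_smul, add_zero, add_zero]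
  have hNB : B * B ^ q ∈ F₀ := by
    have := hall e hre hfr.ee
    rwa [hconj, pow_q_pow_q hF, mul_comm] at this
  set a := A / B
  set c := C / B
  have hw' : w = B • (a • e + f + c • z) := by
    rw [smul_add, smul_add, smul_smul, smul_smul, mul_div_cancel₀ _ hB, mul_div_cancel₀ _ hB]
    exact hexp
  have hisow : a + a ^ q + c * c ^ q = 0 := by
    rw [hw', H.smul_left, H.smul_right] at hw
    simp [H.add_left, H.add_right hF, H.smul_left, H.smul_right, hfr.ee, hfr.ff, hfr.ef,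
      hfr.fe hF, hfr.ez, hfr.ze hF, hfr.fz, hfr.zf hF, hzz, hB] at hw
    linear_combination hw
  have hN : ∀ x : V, Rat F₀ x → hh x x = 0 →
      hh (a • e + f + c • z) x * hh (a • e + f + c • z) x ^ q ∈ F₀ := by
    intro x hx hxx
    have := hall x hx hxx
    rw [hconj, pow_q_pow_q hF, hw', H.smul_left] at this
    have h' := F₀.mul_mem (F₀.inv_mem hNB) this
    have e' : (B * B ^ q)⁻¹ * ((B * hh (a • e + f + c • z) x) ^ q * (B * hh (a • e + f + c • z) x)) =
        hh (a • e + f + c • z) x * hh (a • e + f + c • z) x ^ q := by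
      rw [mul_pow]; field_simp
    rwa [e'] at h'
  have hva : ∀ s u : F, hh (a • e + f + c • z) (s • e + f + u • z) = a + s ^ q + c * u ^ q := by
    intro s u
    simp [H.add_left, H.add_right hF, H.smul_left, H.smul_right, hfr.ee, hfr.ff, hfr.ef,
      hfr.fe hF, hfr.ez, hfr.ze hF, hfr.fz, hfr.zf hF, hzz]
  have hrat : ∀ s ∈ F₀, ∀ u ∈ F₀, s + s ^ q + u * u ^ q = 0 →
      (a + s ^ q + c * u ^ q) * (a + s ^ q + c * u ^ q) ^ q ∈ F₀ := by
    intro s hs u hu hsu
    rw [← hva]
    refine hN _ (((hre.smul hs).add hrf).add (hrz.smul hu)) ?_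
    simp [H.add_left, H.add_right hF, H.smul_left, H.smul_right, hfr.ee, hfr.ff, hfr.ef,
      hfr.fe hF, hfr.ez, hfr.ze hF, hfr.fz, hfr.zf hF, hzz]
    linear_combination hsu
  obtain ⟨δ, hδF, hδ0, hδ⟩ := S.ctx.exists_delta
  have hδq : δ ^ q = -δ := eq_neg_of_add_eq_zero_right hδ
  have hna : a * a ^ q ∈ F₀ := by
    have := hrat 0 F₀.zero_mem 0 F₀.zero_mem (by simp [zero_pow_q hF])
    simpa [zero_pow_q hF] using this
  have hskew : a - a ^ q ∈ F₀ := by
    have h := hrat δ hδF 0 F₀.zero_mem (by simp [zero_pow_q hF, hδ])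
    rw [zero_pow_q hF, mul_zero, add_zero, add_pow_q hF, pow_q_pow_q hF, hδq] at h
    have h' := F₀.mul_mem (F₀.inv_mem hδF)
      (F₀.add_mem (F₀.sub_mem h hna) (F₀.mul_mem hδF hδF))
    have e' : δ⁻¹ * ((a + -δ) * (a ^ q + δ) - a * a ^ q + δ * δ) = a - a ^ q := by
      field_simp; ring
    rwa [e'] at h'
  -- the coefficient of `z`
  have hdiff : ∀ u ∈ F₀, c ^ q * u - c * u ^ q ∈ F₀ := by
    intro u hu
    obtain ⟨s, hsF, hs⟩ := S.ctx.exists_trace (c := -(u * u ^ q))
      (F₀.neg_mem (F₀.mul_mem hu (pow_mem hu q)))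
      (by rw [neg_pow_q hF, mul_pow, pow_q_pow_q hF]; ring)
    have h1 := hrat s hsF u hu (by linear_combination hs)
    have h2 := hrat (s + δ) (F₀.add_mem hsF hδF) u hu (by rw [add_pow_q hF]; linear_combination hs + hδ)
    simp only [add_pow_q hF, mul_pow, pow_q_pow_q hF, hδq, neg_pow_q hF] at h1 h2
    have h' := F₀.mul_mem (F₀.inv_mem hδF) (F₀.sub_mem h2 h1)
    have hrest : s ^ q - s - δ ∈ F₀ := F₀.sub_mem (F₀.sub_mem (pow_mem hsF q) hsF) hδF
    have h'' := F₀.sub_mem (F₀.sub_mem h' hskew) hrest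
    refine neg_mem_iff.1 ?_
    convert h'' using 1
    field_simp
    ring
  have hcF : c ∈ F₀ := by
    obtain ⟨x, hx, hxq⟩ := S.ctx.exists_nonfixed
    have h1 := hdiff 1 F₀.one_mem
    have h2 := hdiff x hx
    simp only [one_pow, mul_one] at h1
    have h := F₀.mul_mem (F₀.inv_mem (F₀.sub_mem (pow_mem hx q) hx))
      (F₀.sub_mem (F₀.mul_mem hx h1) h2)
    have e' : (x ^ q - x)⁻¹ * (x * (c ^ q - c) - (c ^ q * x - c * x ^ q)) = c := by
      rw [show x * (c ^ q - c) - (c ^ q * x - c * x ^ q) = (x ^ q - x) * c by ring,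
        inv_mul_cancel_left₀ (sub_ne_zero.2 hxq)]
    rwa [e'] at h
  have haF : a ∈ F₀ := by
    by_contra haF
    have htr : a + a ^ q ∈ F₀ := by
      rw [show a + a ^ q = -(c * c ^ q) by linear_combination hisow]
      exact F₀.neg_mem (F₀.mul_mem hcF (pow_mem hcF q))
    exact one_ne_zero (C5.quad_zero S.hr S.r3 S.hcard haF hna (F₀.neg_mem htr) F₀.one_mem
      (by ring)).2.2
  exact ⟨B, _, ((hre.smul haF).add hrf).add (hrz.smul hcF), hw'⟩

/-- An element mapping rational isotropic points to rational points is in the subfield group. -/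
theorem mem_of_rat {g : GL (Fin 3) F} (hg : g ∈ suGL 3 F q)
    (hrat : ∀ x : V, Rat F₀ x → hh x x = 0 → RatLine F₀ (app g x)) :
    g ∈ Cfsg.Geo.subfieldSubgroup F₀ 1 := by
  have hF := S.hF
  have H := hermForm_isHerm hF 3
  have hG := herm_app hF hg.1
  obtain ⟨e, f, z, hfr, hre, hrf, hrz, hzz⟩ := S.exists_rat_frame
  obtain ⟨δ, hδF, hδ0, hδ⟩ := S.ctx.exists_delta
  obtain ⟨lam, e', hre', hge⟩ := hrat e hre hfr.ee
  obtain ⟨μ, f', hrf', hgf⟩ := hrat f hrf hfr.ff
  have hδq : δ ^ q = -δ := eq_neg_of_add_eq_zero_right hδ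
  set x1 := δ • e + f
  have h11 : hh x1 x1 = 0 := by
    simp [x1, H.add_left, H.add_right hF, H.smul_left, H.smul_right, hfr.ee, hfr.ff, hfr.ef,
      hfr.fe hF]
    linear_combination hδ
  obtain ⟨ν1, x1', hrx1, hgx1⟩ := hrat x1 ((hre.smul hδF).add hrf) h11
  obtain ⟨s, hsF, hs⟩ := S.ctx.exists_trace (c := -1) (F₀.neg_mem F₀.one_mem)
    (by rw [neg_pow_q hF, one_pow])
  set x2 := s • e + f + z
  have h22 : hh x2 x2 = 0 := by
    simp [x2, H.add_left, H.add_right hF, H.smul_left, H.smul_right, hfr.ee, hfr.ff, hfr.ef,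
      hfr.fe hF, hfr.ez, hfr.ze hF, hfr.fz, hfr.zf hF, hzz]
    linear_combination hs
  obtain ⟨ν2, x2', hrx2, hgx2⟩ := hrat x2 (((hre.smul hsF).add hrf).add hrz) h22
  -- the scalars
  have ef1 : lam * μ ^ q * hh e' f' = 1 := by
    have := hG e f
    rw [hge, hgf, H.smul_left, H.smul_right, hfr.ef] at this
    linear_combination this
  have fe1 : μ * lam ^ q * hh f' e' = 1 := by
    have := hG f e
    rw [hge, hgf, H.smul_left, H.smul_right, hfr.fe hF] at this
    linear_combination this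
  have x1e : ν1 * lam ^ q * hh x1' e' = 1 := by
    have := hG x1 e
    rw [hge, hgx1, H.smul_left, H.smul_right] at this
    simp [x1, H.add_left, H.smul_left, hfr.ee, hfr.fe hF] at this
    linear_combination this
  have x1f : ν1 * μ ^ q * hh x1' f' = δ := by
    have := hG x1 f
    rw [hgf, hgx1, H.smul_left, H.smul_right] at this
    simp [x1, H.add_left, H.smul_left, hfr.ef, hfr.ff] at this
    linear_combination this
  have x2e : ν2 * lam ^ q * hh x2' e' = 1 := by
    have := hG x2 e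
    rw [hge, hgx2, H.smul_left, H.smul_right] at this
    simp [x2, H.add_left, H.smul_left, hfr.ee, hfr.fe hF, hfr.ze hF] at this
    linear_combination this
  have hlam : lam ≠ 0 := fun e0 => by simp [e0] at ef1
  have hμ : μ ≠ 0 := fun e0 => by simp [e0] at fe1
  have hν1 : ν1 ≠ 0 := fun e0 => by simp [e0] at x1e
  have hlamq : lam ^ q ≠ 0 := pow_ne_zero _ hlam
  have hμq : μ ^ q ≠ 0 := pow_ne_zero _ hμ
  have hxe0 : hh x1' e' ≠ 0 := fun e0 => by simp [e0] at x1e
  have hef0 : hh e' f' ≠ 0 := fun e0 => by simp [e0] at ef1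
  have hx1f0 : hh x1' f' ≠ 0 := fun e0 => by
    rw [e0, mul_zero] at x1f; exact hδ0 x1f.symm
  have hx2e0 : hh x2' e' ≠ 0 := fun e0 => by simp [e0] at x2e
  have hm1 : μ / lam = (hh x1' e' / hh f' e') * (δ * hh e' f' / hh x1' f') := by
    have a1 : μ * hh f' e' = ν1 * hh x1' e' := mul_left_cancel₀ hlamq (by linear_combination fe1 - x1e)
    have a2 : ν1 * hh x1' f' = δ * (lam * hh e' f') :=
      mul_left_cancel₀ hμq (by linear_combination x1f - δ * ef1)
    have hfe0 : hh f' e' ≠ 0 := fun e0 => by simp [e0] at fe1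
    field_simp
    linear_combination hh x1' f' * a1 + hh x1' e' * a2
  have hμF : μ / lam ∈ F₀ := by
    rw [hm1]
    exact F₀.mul_mem (F₀.div_mem (herm_rat hrx1 hre') (herm_rat hrf' hre'))
      (F₀.div_mem (F₀.mul_mem hδF (herm_rat hre' hrf')) (herm_rat hrx1 hrf'))
  have hν2F : ν2 / lam ∈ F₀ := by
    have a1 : μ * hh f' e' = ν2 * hh x2' e' := mul_left_cancel₀ hlamq (by linear_combination fe1 - x2e)
    have e' : ν2 / lam = (μ / lam) * (hh f' e' / hh x2' e') := by
      field_simp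
      linear_combination -a1
    rw [e']
    exact F₀.mul_mem hμF (F₀.div_mem (herm_rat hrf' hre') (herm_rat hrx2 hre'))
  have Re : Rat F₀ (lam⁻¹ • app g e) := by
    rwa [hge, smul_smul, inv_mul_cancel₀ hlam, one_smul]
  have Rf : Rat F₀ (lam⁻¹ • app g f) := by
    rw [hgf, smul_smul, inv_mul_eq_div]; exact hrf'.smul hμF
  have R2 : Rat F₀ (lam⁻¹ • app g x2) := by
    rw [hgx2, smul_smul, inv_mul_eq_div]; exact hrx2.smul hν2F
  have Rz : Rat F₀ (lam⁻¹ • app g z) := by
    have : lam⁻¹ • app g z =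
        lam⁻¹ • app g x2 - s • (lam⁻¹ • app g e) - lam⁻¹ • app g f := by
      simp only [x2, map_add, map_smul]
      module
    rw [this]
    exact (R2.sub (Re.smul hsF)).sub Rf
  refine C5.ratLine_mem_iff.2 ⟨lam, hlam, fun u hu => ?_⟩
  rw [hfr.expand hF u, hzz, div_one]
  simp only [map_add, map_smul, smul_add, smul_comm lam⁻¹]
  exact ((Re.smul (herm_rat hu hrf)).add (Rf.smul (herm_rat hu hre))).add
    (Rz.smul (herm_rat hu hrz))

end SFC

end Cfsg.Agent.SU3Max.Sub
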