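import Cfsg.Agent.Lib.SU3Max.Elts
import Cfsg.Agent.Lib.C5.Unitary
import Cfsg.Agent.Lib.PSL2.RootGen

/-!
# Root groups of a hyperbolic line

Main results:
* `rootSet` : the transvections of `M` at a vector, as a subgroup of the real field
* `centre_of_roots` : enough of them and an opposite one give a centre
-/

set_option autoImplicit false
set_option linter.unusedSectionVars false

namespace Cfsg.Agent.SU3Max.Sub

open Matrix Cfsg.Agent.Transvect Cfsg.Agent.Unitary Cfsg.Agent.C5.Uni Cfsg.Agent.SU3Max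
open Cfsg.Agent.PSL2 (upT loT SL2 PSL2)

variable {F : Type*} [Field F] [Fintype F] {q : ℕ}

local notation "hh" => Cfsg.hermForm 3 F q

variable (hF : Fintype.card F = q ^ 2)

/-- The coefficients of the transvections of `M` at `e`. -/
def rootSet {e : Fin 3 → F} (he : hh e e = 0) (M : Subgroup (GL (Fin 3) F)) (δ : F) :
    AddSubgroup (Unitary.fixedField hF) where
  carrier := {a | tu q e ((a : F) * δ) ∈ M}
  zero_mem' := by
    show tu q e (((0 : Unitary.fixedField hF) : F) * δ) ∈ M
    rw [ZeroMemClass.coe_zero, zero_mul, tu_zero he]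
    exact one_mem M
  add_mem' := fun {a b} ha hb => by
    show tu q e (((a + b : Unitary.fixedField hF) : F) * δ) ∈ M
    have h := M.mul_mem ha hb
    rw [tu_add hF he, ← add_mul] at h
    exact_mod_cast h
  neg_mem' := fun {a} ha => by
    show tu q e (((-a : Unitary.fixedField hF) : F) * δ) ∈ M
    have h := M.inv_mem ha
    rw [Cfsg.Agent.C5.Uni.tu_inv hF he, ← neg_mul] at h
    exact_mod_cast h

include hF

/-- Transvections generating the real field and an opposite one give a centre. -/
theorem centre_of_roots {p : ℕ} [Fact p.Prime] [CharP F p] {M : Subgroup (GL (Fin 3) F)}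
    {e f z : Fin 3 → F} (h : Frame q e f z) {δ : F} (hδ : δ + δ ^ q = 0) (hδ0 : δ ≠ 0)
    (hlo : tu q f δ⁻¹ ∈ M)
    (hgen : Subfield.closure ((rootSet hF h.ee M δ : AddSubgroup (Unitary.fixedField hF)) :
      Set (Unitary.fixedField hF)) = ⊤)
    (hne : rootSet hF h.ee M δ ≠ ⊥)
    (h2 : p = 2 → 2 < Nat.card (rootSet hF h.ee M δ))
    (h3 : p = 3 → Nat.card (rootSet hF h.ee M δ) = 3 → ¬ 5 ∣ q * (q ^ 2 - 1)) :
    e ∈ centres q M := by
  classical
  set K := Unitary.fixedField hF with hK
  haveI : CharP K p := (RingHom.charP_iff K.subtype Subtype.val_injective p).2 inferInstance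
  haveI : Finite K := Subtype.finite
  have hfix : ∀ x : K, (x : F) ^ q = x := fun x => (Unitary.mem_fixedField hF).1 x.2
  have hδq : δ ^ q = -δ := eq_neg_of_add_eq_zero_right hδ
  have H := hermForm_isHerm hF 3
  have key : ∀ S : SL2 K, ∃ g ∈ suGL 3 F q,
      app g e = (S.1 0 0 : F) • e + ((S.1 1 0 : F) * δ⁻¹) • f ∧
      app g f = ((S.1 0 1 : F) * δ) • e + (S.1 1 1 : F) • f ∧ app g z = z := by
    intro S
    have hdet : (S.1 0 0 : F) * S.1 1 1 - (S.1 0 1 : F) * S.1 1 0 = 1 := by
      exact_mod_cast congrArg Subtype.val (PSL2.det_eq S)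
    refine exists_elt hF h !![(S.1 0 0 : F), (S.1 0 1 : F) * δ, 0;
        (S.1 1 0 : F) * δ⁻¹, (S.1 1 1 : F), 0; 0, 0, 1] ?_ (by simp) (by simp) (by simp) ?_ rfl
    · rw [det_fin_three]
      simp
      field_simp
      linear_combination hdet
    · refine ⟨?_, ?_, ?_, ?_, ?_, h.zz⟩ <;>
        simp [H.add_left, H.add_right hF, H.smul_left, H.smul_right, h.ee, h.ff, h.ef, h.fe hF,
          h.ez, h.fz, mul_pow, hfix, hδq]
      · field_simp; ring
      · field_simp; ring
      · field_simp; linear_combination hdet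
  choose g hg he hf hz using key
  have hext : ∀ {S : SL2 K} {t : GL (Fin 3) F},
      app t e = (S.1 0 0 : F) • e + ((S.1 1 0 : F) * δ⁻¹) • f →
      app t f = ((S.1 0 1 : F) * δ) • e + (S.1 1 1 : F) • f → app t z = z → g S = t :=
    fun {S t} h1 h2 h3 => h.gext hF ((he S).trans h1.symm) ((hf S).trans h2.symm) ((hz S).trans h3.symm)
  let ψ : SL2 K →* GL (Fin 3) F := MonoidHom.mk' g fun S T => hext
    (by
      rw [map_mul, LinearEquiv.mul_apply, he, map_add, map_smul, map_smul, he, hf,
        Matrix.SpecialLinearGroup.coe_mul]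
      simp [Matrix.mul_apply, Fin.sum_univ_two]
      match_scalars <;> field_simp <;> ring)
    (by
      rw [map_mul, LinearEquiv.mul_apply, hf, map_add, map_smul, map_smul, he, hf,
        Matrix.SpecialLinearGroup.coe_mul]
      simp [Matrix.mul_apply, Fin.sum_univ_two]
      match_scalars <;> field_simp <;> ring)
    (by rw [map_mul, LinearEquiv.mul_apply, hz, hz])
  have hup : ∀ s : K, ψ (upT s) = tu q e ((s : F) * δ) := fun s => hext
    (by rw [tu_apply h.ee, h.ee]; simp [upT])
    (by rw [tu_apply h.ee, h.fe hF]; simp [upT, add_comm])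
    (by rw [tu_apply h.ee, h.ze hF]; simp)
  have hlo1 : ψ (loT 1) = tu q f δ⁻¹ := hext
    (by rw [tu_apply h.ff, h.ef]; simp [loT])
    (by rw [tu_apply h.ff, h.ff]; simp [loT])
    (by rw [tu_apply h.ff, h.zf hF]; simp)
  set L := M.comap ψ
  have htop : L.map (QuotientGroup.mk' (Subgroup.center (SL2 K))) = ⊤ := by
    refine PSL2.rootGen_eq_top p hgen hne h2 ?_ ⟨loT 1, show ψ (loT 1) ∈ M by rwa [hlo1], rfl⟩
      fun a ha => ⟨upT a, show ψ (upT a) ∈ M by rw [hup]; exact ha, rfl⟩
    rw [Unitary.card_fixedField hF]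
    exact h3
  have hall : ∀ s : K, upT s ∈ L := by
    intro s
    have hmem : ∀ t : K, upT t ∈ L ∨ -upT t ∈ L := by
      intro t
      obtain ⟨x, hx, hxe⟩ := (htop ▸ Subgroup.mem_top (QuotientGroup.mk (upT t) : PSL2 K) :
        (QuotientGroup.mk (upT t) : PSL2 K) ∈ L.map (QuotientGroup.mk' (Subgroup.center (SL2 K))))
      rcases PSL2.mk_eq_mk_iff.1 hxe with e' | e'
      · exact Or.inl (e' ▸ hx)
      · exact Or.inr (by
          first
            | exact e' ▸ hx
            | (rw [e', neg_neg]; exact hx))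
    by_cases hp : p = 2
    · subst hp
      rcases hmem s with h' | h'
      · exact h'
      · have : -upT s = upT s := Subtype.ext (by
          rw [Matrix.SpecialLinearGroup.coe_neg]; ext i j; simp [CharTwo.neg_eq])
        exact this ▸ h'
    · have h20 : (2 : K) ≠ 0 := PSL2.two_ne_zero_of_char p hp
      have hs : upT s = upT (s / 2) * upT (s / 2) := by
        rw [← PSL2.upT_add]; congr 1; field_simp; ring
      rw [hs]
      rcases hmem (s / 2) with h' | h'
      · exact mul_mem h' h'
      · have := mul_mem h' h'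
        rwa [neg_mul_neg] at this
  refine (mem_centres_iff hF).2 ⟨h.ee, fun c hc => ?_⟩
  have hcK : (c / δ) ^ q = c / δ := by
    rw [div_pow, eq_neg_of_add_eq_zero_right hc, hδq, neg_div_neg_eq]
  have h' : ψ (upT ⟨c / δ, (Unitary.mem_fixedField hF).2 hcK⟩) ∈ M := hall _
  rwa [hup, div_mul_cancel₀ _ hδ0] at h'

end Cfsg.Agent.SU3Max.Sub
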