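import Cfsg.Agent.Lib.SU3Max.SubRat
import Cfsg.Agent.Lib.SU3Max.Points
import Cfsg.Agent.Lib.ZStar.Statements
import Cfsg.Agent.Lib.ZStar.Unique
import Mathlib.GroupTheory.FixedPointFree

/-!
# Overgroups of `SU₃(2)`

Main results:
* `SFC.two_ratLine` : an overgroup moves rational isotropic points to rational ones, `q₀ = 2`
-/

set_option autoImplicit false
set_option linter.unusedSectionVars false

namespace Cfsg.Agent.SU3Max.Sub

open Matrix Cfsg.Agent.Transvect Cfsg.Agent.Unitary Cfsg.Agent.C5.Uni Cfsg.Agent.SU3Max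
open Cfsg.Agent.C5 (Rat RatLine rat_single mem_of_smul_rat)

universe u

variable {F : Type u} [Field F] [Fintype F] {q : ℕ}

local notation "V" => (Fin 3 → F)
local notation "hh" => Cfsg.hermForm 3 F q

/-- A scalar transformation. -/
def IsScal (g : GL (Fin 3) F) : Prop := ∃ a : F, ∀ x : Fin 3 → F, app g x = a • x

lemma IsScal.comm {g : GL (Fin 3) F} (h : IsScal g) (x : GL (Fin 3) F) : g * x = x * g := by
  obtain ⟨a, ha⟩ := h
  exact gl_ext fun v => by
    rw [map_mul, map_mul, LinearEquiv.mul_apply, LinearEquiv.mul_apply, ha, ha, map_smul]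

/-- The scalar transformations as a subgroup. -/
def scal (F : Type u) [Field F] [Fintype F] : Subgroup (GL (Fin 3) F) where
  carrier := {g | IsScal g}
  one_mem' := ⟨1, fun x => by simp⟩
  mul_mem' := fun {g h} ⟨a, ha⟩ ⟨b, hb⟩ => ⟨a * b, fun x => by
    rw [map_mul, LinearEquiv.mul_apply, hb, map_smul, ha, smul_smul, mul_comm b]⟩
  inv_mem' := fun {g} ⟨a, ha⟩ => ⟨a⁻¹, fun x => (app g).injective (by
    have ha0 : a ≠ 0 := fun e => by
      have h1 := ha (Pi.single 0 1)
      rw [e, zero_smul, LinearEquiv.map_eq_zero_iff] at h1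
      simpa using congrFun h1 0
    rw [app_app_inv, map_smul, ha, smul_smul, inv_mul_cancel₀ ha0, one_smul])⟩

lemma tu_line_eq {v w : Fin 3 → F} (hv : hh v v = 0) (hw : hh w w = 0) {x : Fin 3 → F}
    (hx : hh x v ≠ 0) (hw0 : v ≠ 0) (h : tu q v (1 : F) = tu q w 1) : (F ∙ v) = F ∙ w := by
  have h1 : x + (1 * hh x v) • v = x + (1 * hh x w) • w := by
    rw [← tu_apply hv, ← tu_apply hw, h]
  have h2 : hh x v • v = hh x w • w := by simpa using h1
  have hxw : hh x w ≠ 0 := fun e => by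
    rw [e, zero_smul] at h2
    exact (smul_ne_zero hx hw0) h2
  rw [← Submodule.span_singleton_smul_eq (IsUnit.mk0 _ hx) v, h2,
    Submodule.span_singleton_smul_eq (IsUnit.mk0 _ hxw) w]

section Frame

variable (hF : Fintype.card F = q ^ 2) [CharP F 2] {e f z : Fin 3 → F} (hfr : Frame q e f z)
include hF hfr

/-- The fourth power of an element stretching `e` and `z` alike is a scalar. -/
lemma quad_pow {y : GL (Fin 3) F} (hyU : y ∈ Cfsg.GU 3 F q) {a b : F} (ha : a * a ^ q = 1)
    (hye : app y e = a • e) (hyz : app y z = a • z + b • e) (v : V) :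
    app (y ^ 4) v = a ^ 4 • v := by
  have H := hermForm_isHerm hF 3
  revert v
  have hadd : ∀ y : F, y + y = 0 := fun y => CharTwo.add_self_eq_zero y
  have h20 : (2 : F) = 0 := by exact_mod_cast CharP.cast_eq_zero F 2
  set g := y * y
  have hge : app g e = (a * a) • e := by
    rw [map_mul, LinearEquiv.mul_apply, hye, map_smul, hye, smul_smul]
  have hgz : app g z = (a * a) • z := by
    rw [map_mul, LinearEquiv.mul_apply, hyz, map_add, map_smul, map_smul, hye, hyz, smul_add,
      smul_smul, smul_smul, smul_smul, add_assoc, ← add_smul, mul_comm b a, hadd, zero_smul,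
      add_zero]
  have hgU := mul_mem hyU hyU
  have ha2 : (a * a) * (a * a) ^ q = 1 := by
    rw [mul_pow]; linear_combination (a * a ^ q + 1) * ha
  have ha20 : a * a ≠ 0 := fun e0 => by simp [e0] at ha2
  have haq0 : (a * a) ^ q ≠ 0 := pow_ne_zero _ ha20
  have c1 : hh (app g f) e = a * a := by
    have h := herm_app hF hgU f e
    rw [hge, H.smul_right, hfr.fe hF] at h
    exact mul_left_cancel₀ haq0 (by rw [h]; linear_combination -ha2)
  have c2 : hh (app g f) z = 0 := by
    have h := herm_app hF hgU f z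
    rw [hgz, H.smul_right, hfr.fz] at h
    exact (mul_eq_zero.1 h).resolve_left haq0
  obtain ⟨c, hgf⟩ : ∃ c : F, app g f = c • e + (a * a) • f := by
    refine ⟨hh (app g f) f, ?_⟩
    conv_lhs => rw [hfr.expand hF (app g f), c1, c2, zero_div, zero_smul, add_zero]
  intro v
  have h4' : y ^ 4 = g * g := by simp [g, pow_succ, mul_assoc]
  rw [h4', map_mul, LinearEquiv.mul_apply]
  conv_lhs => rw [hfr.expand hF v]
  conv_rhs => rw [hfr.expand hF v]
  simp only [map_add, map_smul, hge, hgz]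
  rw [hgf, map_add, map_smul, map_smul, hge, hgf]
  match_scalars <;> first
    | ring1
    | linear_combination (hh v e * c * (a * a)) * h20

/-- Of odd order it is scalar itself. -/
lemma scal_of {y : GL (Fin 3) F} (hyU : y ∈ Cfsg.GU 3 F q) (hodd : Odd (orderOf y)) {a b : F}
    (ha : a * a ^ q = 1) (hye : app y e = a • e) (hyz : app y z = a • z + b • e) : y ∈ scal F := by
  have h := quad_pow hF hfr hyU ha hye hyz
  obtain ⟨j, hj⟩ := hodd
  have hy4 : y ^ 4 ∈ scal F := ⟨a ^ 4, h⟩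
  have hy0 : y ^ (2 * j + 1) = 1 := hj ▸ pow_orderOf_eq_one y
  rcases Nat.even_or_odd j with ⟨k, hk⟩ | ⟨k, hk⟩
  · -- `4 ∣ orderOf y - 1`
    have : y = (y ^ 4) ^ (3 * k + 1) := by
      rw [← pow_mul]
      calc y = (y ^ (2 * j + 1)) ^ 3 * y := by rw [hy0, one_pow, one_mul]
        _ = y ^ (4 * (3 * k + 1)) := by rw [← pow_mul, ← pow_succ]; congr 1; omega
    exact this ▸ pow_mem hy4 _
  · have : y = (y ^ 4) ^ (k + 1) := by
      rw [← pow_mul]
      calc y = y ^ (2 * j + 1) * y := by rw [hy0, one_mul]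
        _ = y ^ (4 * (k + 1)) := by rw [← pow_succ]; congr 1; omega
    exact this ▸ pow_mem hy4 _

/-- What commutes with the transvection and has odd order is scalar. -/
lemma scal_of_fix {y u : GL (Fin 3) F} (hyU : y ∈ Cfsg.GU 3 F q) (huU : u ∈ Cfsg.GU 3 F q)
    (hzz : hh z z = 1) (hue : app u e = e) (huz : app u z = z + e) (hodd : Odd (orderOf y))
    (hkodd : Odd (orderOf (y * (u * y⁻¹ * u⁻¹)))) {a : F} (ha : a * a ^ q = 1)
    (hye : app y e = a • e) : y ∈ scal F := by
  have H := hermForm_isHerm hF 3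
  have he0 := hfr.e_ne hF
  have hadd : ∀ y : F, y + y = 0 := fun y => CharTwo.add_self_eq_zero y
  have hneg : ∀ y : F, -y = y := fun y => CharTwo.neg_eq y
  have h20 : (2 : F) = 0 := by exact_mod_cast CharP.cast_eq_zero F 2
  have ha0 : a ≠ 0 := fun e0 => by simp [e0] at ha
  have c1 : hh (app y z) e = 0 := by
    have h := herm_app hF hyU z e
    rw [hye, H.smul_right, hfr.ze hF] at h
    exact (mul_eq_zero.1 h).resolve_left (pow_ne_zero _ ha0)
  obtain ⟨μ, b, hyz⟩ : ∃ μ b : F, app y z = μ • z + b • e := by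
    refine ⟨hh (app y z) z / hh z z, hh (app y z) f, ?_⟩
    conv_lhs => rw [hfr.expand hF (app y z), c1]
    rw [zero_smul, add_zero, add_comm]
  -- the commutator with `u`
  set k := y * (u * y⁻¹ * u⁻¹) with hk
  have hkU : k ∈ Cfsg.GU 3 F q := mul_mem hyU (mul_mem (mul_mem huU (inv_mem hyU)) (inv_mem huU))
  have hye' : app y⁻¹ e = a⁻¹ • e := (app y).injective (by
    rw [app_app_inv, map_smul, hye, smul_smul, inv_mul_cancel₀ ha0, one_smul])
  have hue' : app u⁻¹ e = e := (app u).injective (by rw [app_app_inv, hue])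
  have huz' : app u⁻¹ z = z + e := (app u).injective (by
    rw [app_app_inv, map_add, huz, hue, add_assoc, ← two_smul F, h20, zero_smul, add_zero])
  have hμ0 : μ ≠ 0 := fun e0 => by
    rw [e0, zero_smul, zero_add] at hyz
    have h := herm_app hF hyU z z
    rw [hyz, H.smul_left, H.smul_right, hfr.ee, hzz] at h
    simp at h
  have hyz' : app y⁻¹ z = μ⁻¹ • z + (μ⁻¹ * b * a⁻¹) • e := (app y).injective (by
    rw [app_app_inv, map_add, map_smul, map_smul, hye, hyz]
    match_scalars <;> field_simp <;> first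
      | linear_combination b * h20
      | linear_combination (-2 * b) * h20
      | linear_combination (2 * b) * h20
      | linear_combination (-b) * h20
      | ring1)
  have hke : app k e = (1 : F) • e := by
    rw [hk, map_mul, map_mul, map_mul]
    simp only [LinearEquiv.mul_apply, hue', hye', hue, map_smul, hye, smul_smul]
    rw [inv_mul_cancel₀ ha0]
  have hkz : app k z = (1 : F) • z + (a * μ⁻¹ + 1) • e := by
    rw [hk, map_mul, map_mul, map_mul]
    simp only [LinearEquiv.mul_apply, huz', map_add, map_smul, hye', hyz', hue, huz, hye, hyz]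
    match_scalars <;> field_simp <;> first
      | linear_combination b * h20
      | linear_combination (-2 * b) * h20
      | linear_combination (2 * b) * h20
      | linear_combination (-b) * h20
      | ring1
  have hk1 : k = 1 := by
    have hs := quad_pow hF hfr hkU (by simp) hke hkz
    have h4k : k ^ 4 = 1 := gl_ext fun v => by rw [hs, one_pow, one_smul, map_one]; rfl
    obtain ⟨j, hj⟩ := hkodd
    have h1 : orderOf k ∣ 2 ^ 2 := orderOf_dvd_of_pow_eq_one h4k
    have h3 : Nat.Coprime (orderOf k) (2 ^ 2) :=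
      (Nat.coprime_two_right.2 ⟨j, hj⟩).pow_right 2
    exact orderOf_eq_one_iff.1 (Nat.eq_one_of_dvd_coprimes h3 dvd_rfl h1)
  rw [hk1, map_one] at hkz
  have hμa : a * μ⁻¹ + 1 = 0 := by
    have h' := congrArg (fun v => hh v f) hkz
    simpa [H.add_left, H.smul_left, hfr.zf hF, hfr.ef] using h'.symm
  have : μ = a := by
    rw [add_eq_zero_iff_eq_neg, hneg, mul_inv_eq_one₀ hμ0] at hμa
    exact hμa.symm
  rw [this] at hyz
  exact scal_of hF hfr hyU hodd ha hye hyz

/-- What commutes with two elements of order three is scalar. -/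
lemma scal_of_comm {ω : F} (hω2 : ω * ω + ω + 1 = 0) (hzz : hh z z = 1) {r1 u y : GL (Fin 3) F}
    (hr1 : app r1 e = e + f ∧ app r1 f = e ∧ app r1 z = z) (huz : app u z = z + e)
    (h1 : y * r1 = r1 * y) (h2 : y * (u * r1 * u⁻¹) = (u * r1 * u⁻¹) * y) : y ∈ scal F := by
  have H := hermForm_isHerm hF 3
  have h20 : (2 : F) = 0 := by exact_mod_cast CharP.cast_eq_zero F 2
  have comm : ∀ v, app y (app r1 v) = app r1 (app y v) := fun v => by
    show (app y * app r1) v = (app r1 * app y) v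
    rw [← map_mul, ← map_mul, h1]
  have coord : ∀ v : V, app r1 v = hh v e • e + (hh v f • f + hh v f • e) + hh v z • z := by
    intro v
    conv_lhs => rw [hfr.expand hF v]
    simp only [map_add, map_smul, hr1.1, hr1.2.1, hr1.2.2, hzz, div_one]
    module
  have c3 : ∀ v : V, hh (app r1 v) e = hh v f ∧ hh (app r1 v) f = hh v e + hh v f ∧
      hh (app r1 v) z = hh v z := fun v => by
    rw [coord]
    simp [H.add_left, H.smul_left, hfr.ee, hfr.ff, hfr.ef, hfr.fe hF, hfr.ez, hfr.fz, hfr.ze hF,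
      hfr.zf hF, hzz]
  have eigz : ∀ v : V, app r1 v = v → v = hh v z • z := fun v hv => by
    obtain ⟨a1, a2, -⟩ := c3 v
    rw [hv] at a1 a2
    have hb : hh v e = 0 := by linear_combination -a2
    conv_lhs => rw [hfr.expand hF v, ← a1, hb, hzz, div_one]
    simp
  have eigw : ∀ l : F, l * l + l + 1 = 0 → ∀ v : V, app r1 v = (l + 1) • v →
      v = hh v f • (e + l • f) + (0 : F) • z ∧ hh v z = 0 := fun l hl v hv => by
    obtain ⟨a1, -, a3⟩ := c3 v
    rw [hv, H.smul_left] at a1 a3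
    have hz0 : hh v z = 0 := by
      have : l * hh v z = 0 := by linear_combination a3
      refine (mul_eq_zero.1 this).resolve_left fun e0 => one_ne_zero (α := F) ?_
      linear_combination hl - (l + 1) * e0
    have hb : hh v e = l * hh v f := by
      linear_combination l * a1 - hh v e * hl + hh v e * h20
    refine ⟨?_, hz0⟩
    conv_lhs => rw [hfr.expand hF v, hb, hz0, zero_div, zero_smul, add_zero]
    module
  obtain ⟨μ, hμ⟩ : ∃ μ : F, app y z = μ • z :=
    ⟨_, eigz _ (by rw [← comm, hr1.2.2])⟩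
  have hωp : (ω + 1) * (ω + 1) + (ω + 1) + 1 = 0 := by linear_combination hω2 + (ω + 1) * h20
  have heig : ∀ l : F, l * l + l + 1 = 0 → app r1 (e + l • f) = (l + 1) • (e + l • f) := fun l hl => by
    rw [map_add, map_smul, hr1.1, hr1.2.1]
    match_scalars
    all_goals first
      | ring1
      | linear_combination -hl + h20
  obtain ⟨lam, hlam⟩ : ∃ c : F, app y (e + ω • f) = c • (e + ω • f) := by
    refine ⟨hh (app y (e + ω • f)) f, ?_⟩
    have := (eigw ω hω2 _ (by rw [← comm, heig ω hω2, map_smul])).1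
    rwa [zero_smul, add_zero] at this
  obtain ⟨lam', hlam'⟩ : ∃ c : F, app y (e + (ω + 1) • f) = c • (e + (ω + 1) • f) := by
    refine ⟨hh (app y (e + (ω + 1) • f)) f, ?_⟩
    have := (eigw (ω + 1) hωp _ (by rw [← comm, heig _ hωp, map_smul])).1
    rwa [zero_smul, add_zero] at this
  -- the second element
  have hfix2 : app r1 (app u⁻¹ (app y (app u z))) = app u⁻¹ (app y (app u z)) := by
    have e0 : u⁻¹ * y * u * r1 = r1 * (u⁻¹ * y * u) := by
      calc u⁻¹ * y * u * r1 = u⁻¹ * (y * (u * r1 * u⁻¹)) * u := by simp [mul_assoc]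
        _ = u⁻¹ * ((u * r1 * u⁻¹) * y) * u := by rw [h2]
        _ = r1 * (u⁻¹ * y * u) := by simp [mul_assoc]
    have := LinearEquiv.congr_fun (congrArg app e0) z
    simp only [map_mul, LinearEquiv.mul_apply, hr1.2.2] at this
    exact this.symm
  obtain ⟨μ', hμ'⟩ : ∃ μ' : F, app y (app u z) = μ' • app u z := by
    refine ⟨hh (app u⁻¹ (app y (app u z))) z, ?_⟩
    conv_lhs => rw [← app_app_inv u (app y (app u z)), eigz _ hfix2, map_smul]
  rw [huz] at hμ'
  have hye : app y e = (ω + 1) • (lam • (e + ω • f)) + ω • (lam' • (e + (ω + 1) • f)) := by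
    rw [← hlam, ← hlam', ← map_smul, ← map_smul, ← map_add]
    congr 1
    match_scalars
    all_goals first
      | linear_combination -ω * h20
      | linear_combination -(ω * ω + ω) * h20
  rw [map_add, hμ, hye] at hμ'
  have k1 := congrArg (fun v => hh v z) hμ'
  have k2 := congrArg (fun v => hh v e) hμ'
  have k3 := congrArg (fun v => hh v f) hμ'
  simp [H.add_left, H.smul_left, hfr.ee, hfr.ff, hfr.ef, hfr.fe hF, hfr.ez, hfr.fz, hfr.ze hF,
    hfr.zf hF, hzz] at k1 k2 k3
  subst k1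
  have hll : lam = lam' := by linear_combination k2 - (lam + lam') * hω2 + lam * h20
  subst hll
  have hlm : lam = μ := by linear_combination k3 - lam * ω * h20
  subst hlm
  refine ⟨lam, fun v => ?_⟩
  have hyf : app y f = lam • f := by
    have hf2 : f = (e + ω • f) + (e + (ω + 1) • f) := by
      match_scalars
      all_goals first
        | linear_combination -h20
        | linear_combination -ω * h20
    rw [hf2, map_add, hlam, hlam', ← smul_add]
  have hye' : app y e = lam • e := by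
    have := hlam
    rw [map_add, map_smul, hyf, smul_add, smul_comm] at this
    exact add_right_cancel this
  conv_lhs => rw [hfr.expand hF v]
  conv_rhs => rw [hfr.expand hF v]
  simp only [map_add, map_smul, hye', hyf, hμ]
  module

end Frame

section Group

variable {G : Type*} [Group G] [Finite G]

/-- An involution without fixed points on `O / Z` makes it abelian. -/
lemma comm_mem {O Z : Subgroup G} {t : G} (hZ : ∀ ζ ∈ Z, ∀ x : G, ζ * x = x * ζ) (ht2 : t * t = 1)
    (hOt : ∀ y ∈ O, t * y * t⁻¹ ∈ O) (hodd : Odd (Nat.card O))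
    (hcent : ∀ y ∈ O, t * y = y * t → y ∈ Z) {y y' : G} (hy : y ∈ O) (hy' : y' ∈ O) :
    y * y' * y⁻¹ * y'⁻¹ ∈ Z := by
  let Zc : Subgroup O := Z.subgroupOf O
  haveI : Zc.Normal := ⟨fun n hn g => by
    show ((g * n * g⁻¹ : O) : G) ∈ Z
    rw [Subgroup.coe_mul, Subgroup.coe_mul, Subgroup.coe_inv,
      show (g : G) * n = n * g from (hZ (n : G) hn g).symm, mul_inv_cancel_right]
    exact hn⟩
  let σ : O →* O :=
    { toFun := fun y => ⟨t * (y : G) * t⁻¹, hOt y y.2⟩
      map_one' := Subtype.ext (by simp)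
      map_mul' := fun a b => Subtype.ext (by simp [mul_assoc]) }
  have hσσ : ∀ y : O, σ (σ y) = y := fun y => Subtype.ext (by
    show t * (t * (y : G) * t⁻¹) * t⁻¹ = y
    rw [inv_eq_of_mul_eq_one_right ht2]
    simp only [← mul_assoc, ht2, one_mul]
    rw [mul_assoc, ht2, mul_one])
  have hσZ : Zc ≤ Zc.comap σ := fun y hy => by
    show t * (y : G) * t⁻¹ ∈ Z
    rw [show t * (y : G) = y * t from (hZ (y : G) hy t).symm, mul_inv_cancel_right]
    exact hy
  let τ : O ⧸ Zc →* O ⧸ Zc := QuotientGroup.map Zc Zc σ hσZ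
  have hinv : Function.Involutive τ := fun c => by
    induction c using QuotientGroup.induction_on with
    | _ y => show ((σ (σ y) : O) : O ⧸ Zc) = y; rw [hσσ]
  have hfpf : MonoidHom.FixedPointFree τ := fun c hc => by
    induction c using QuotientGroup.induction_on with
    | _ y =>
      have hc' : ((σ y : O) : O ⧸ Zc) = y := hc
      rw [QuotientGroup.eq] at hc'
      obtain ⟨ζ, hζ⟩ : ∃ ζ : O, ζ = (σ y)⁻¹ * y := ⟨_, rfl⟩
      have hz1 : (ζ : G) ∈ Z := by rw [hζ]; exact hc'
      have hy1 : y = σ y * ζ := by rw [hζ, mul_inv_cancel_left]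
      have hy2 : σ y = y * σ ζ := by
        conv_lhs => rw [hy1]
        rw [map_mul, hσσ]
      have hσζ : σ ζ = ζ := Subtype.ext (by
        show t * (ζ : G) * t⁻¹ = ζ
        rw [← hZ _ hz1 t, mul_inv_cancel_right])
      rw [hσζ] at hy2
      have hζ2 : ζ ^ 2 = 1 := by
        rw [hy2, mul_assoc, eq_comm, mul_eq_left] at hy1
        rw [pow_two]; exact hy1
      have hζ1 : ζ = 1 := by
        have h1 := Nat.dvd_gcd (orderOf_dvd_natCard ζ) (orderOf_dvd_of_pow_eq_one hζ2)
        rw [Nat.coprime_two_right.2 hodd] at h1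
        exact orderOf_eq_one_iff.1 (Nat.dvd_one.1 h1)
      rw [hζ1, mul_one] at hy2
      refine (QuotientGroup.eq_one_iff y).2 (hcent y y.2 ?_)
      exact mul_inv_eq_iff_eq_mul.1 (congrArg Subtype.val hy2)
  set a : O := ⟨y, hy⟩
  set b : O := ⟨y', hy'⟩
  have hc := hfpf.commute_all_of_involutive hinv (a : O ⧸ Zc) (b : O ⧸ Zc)
  have h1 : ((a * b * a⁻¹ * b⁻¹ : O) : O ⧸ Zc) = 1 := by
    rw [QuotientGroup.mk_mul, QuotientGroup.mk_mul, QuotientGroup.mk_mul, QuotientGroup.mk_inv,
      QuotientGroup.mk_inv, hc.eq, mul_inv_cancel_right, mul_inv_cancel]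
  exact (QuotientGroup.eq_one_iff (a * b * a⁻¹ * b⁻¹)).1 h1

/-- Two involutions with product in a group of odd order are conjugate in it. -/
lemma conj_of_odd {O : Subgroup G} {t t' : G} (ht : t * t = 1) (ht' : t' * t' = 1)
    (hρ : t' * t ∈ O) (hodd : Odd (orderOf (t' * t))) : ∃ y ∈ O, y * t * y⁻¹ = t' := by
  obtain ⟨j, hj⟩ := hodd
  set ρ := t' * t with hρdef
  have ht_inv : t⁻¹ = t := inv_eq_of_mul_eq_one_right ht
  have hρinv : ρ⁻¹ = t * t' := by
    rw [hρdef, _root_.mul_inv_rev, ht_inv, inv_eq_of_mul_eq_one_right ht']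
  refine ⟨ρ ^ (j + 1), pow_mem hρ _, ?_⟩
  have h1 : t * ρ * t⁻¹ = ρ⁻¹ := by
    rw [hρinv, ht_inv, hρdef, mul_assoc, mul_assoc, ht, mul_one]
  have htρ : t * (ρ ^ (j + 1))⁻¹ = ρ ^ (j + 1) * t := by
    calc t * (ρ ^ (j + 1))⁻¹ = (t * (ρ ^ (j + 1))⁻¹ * t⁻¹) * t := by group
      _ = ρ ^ (j + 1) * t := by rw [← conj_inv, ← conj_pow, h1, inv_pow, inv_inv]
  rw [mul_assoc, htρ, ← mul_assoc, ← pow_add, show j + 1 + (j + 1) = 2 * j + 1 + 1 by omega,
    pow_succ, ← hj, pow_orderOf_eq_one, one_mul, hρdef, mul_assoc, ht, mul_one]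

end Group

namespace SFC

variable {F₀ : Subfield F} {r : ℕ} {M : Subgroup (GL (Fin 3) F)} (S : SFC F₀ q r M)
include S

lemma rat_mem {g : GL (Fin 3) F} (hg : g ∈ suGL 3 F q) {e f z : V} (hfr : Frame q e f z)
    (hre : Rat F₀ e) (hrf : Rat F₀ f) (hrz : Rat F₀ z) (hzz : hh z z = 1)
    (he : Rat F₀ (app g e)) (hf : Rat F₀ (app g f)) (hz : Rat F₀ (app g z)) : g ∈ M := by
  refine S.hM ⟨C5.ratLine_mem_iff.2 ⟨1, one_ne_zero, fun u hu => ?_⟩, hg⟩
  rw [inv_one, one_smul, hfr.expand S.hF u, hzz, div_one]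
  simp only [map_add, map_smul]
  exact ((he.smul (herm_rat hu hrf)).add (hf.smul (herm_rat hu hre))).add
    (hz.smul (herm_rat hu hrz))

variable (h4 : Nat.card F₀ = 4)
include h4

lemma two_data : CharP F 2 ∧ (∀ x ∈ F₀, x ^ q = x → x = 0 ∨ x = 1) := by
  obtain ⟨q₀, -, hq0c, hqr, hσ, -⟩ := S.sizes
  obtain rfl : q₀ = 2 := Nat.pow_left_injective two_ne_zero (show q₀ ^ 2 = 2 ^ 2 by rw [← hq0c, h4])
  obtain ⟨p, m, hp, hpc, hqp, hm⟩ := Cfsg.Agent.Unitary.exists_prime_pow S.hF
  have : p ∣ 2 ^ r := by rw [← hqr, hqp]; exact dvd_pow_self p (by omega)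
  obtain rfl := (Nat.prime_dvd_prime_iff_eq hp Nat.prime_two).1 (hp.dvd_of_dvd_pow this)
  refine ⟨hpc, fun x hx hxq => ?_⟩
  rw [hσ x hx] at hxq
  rcases eq_or_ne x 0 with h | h
  · exact Or.inl h
  · exact Or.inr (mul_left_cancel₀ h (by rw [← pow_two, hxq, mul_one]))

/-- The transvections at a rational point are the two rational ones. -/
lemma root_two {e f z : V} (hfr : Frame q e f z) (hre : Rat F₀ e) (hrf : Rat F₀ f) {s : F}
    (hs : s + s ^ q = 0) (h : tu q e s ∈ M) : s = 0 ∨ s = 1 := by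
  classical
  obtain ⟨hc2, h01⟩ := S.two_data h4
  have hF := S.hF
  haveI : Fact (Nat.Prime 2) := ⟨Nat.prime_two⟩
  have h11 : (1 : F) + 1 ^ q = 0 := by rw [one_pow]; exact CharTwo.add_self_eq_zero 1
  have hsq : s ^ q = s := by
    rw [eq_neg_of_add_eq_zero_right hs]; exact CharTwo.neg_eq s
  by_contra hne
  push Not at hne
  have hsF : s ∉ F₀ := fun hsF => by
    rcases h01 s hsF hsq with e' | e'
    exacts [hne.1 e', hne.2 e']
  set K := Unitary.fixedField hF
  set s' : K := ⟨s, (Unitary.mem_fixedField hF).2 hsq⟩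
  have hs' : s' ∈ rootSet hF hfr.ee M (1 : F) := show tu q e (s * 1) ∈ M by rwa [mul_one]
  have h1' : (1 : K) ∈ rootSet hF hfr.ee M (1 : F) := show tu q e (((1 : K) : F) * 1) ∈ M by
    rw [OneMemClass.coe_one, one_mul]
    exact S.rtu hre hfr.ee F₀.one_mem h11
  haveI : Finite K := Subtype.finite
  refine S.no_centre (hfr.e_ne hF) (centre_of_roots (p := 2) hF hfr h11 one_ne_zero ?_ ?_ ?_ ?_
    (fun h => absurd h (by norm_num)))
  · rw [inv_one]; exact S.rtu hrf hfr.ff F₀.one_mem h11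
  · refine S.gen_top (x := s') (fun k hk => ?_) (Subfield.subset_closure hs') hsF
    rcases h01 (k : F) hk ((Unitary.mem_fixedField hF).1 k.2) with e' | e'
    · rw [show k = 0 from Subtype.ext e']; exact zero_mem _
    · rw [show k = 1 from Subtype.ext e']; exact one_mem _
  · intro hb
    rw [hb, AddSubgroup.mem_bot] at h1'
    exact one_ne_zero h1'
  · intro _
    let φ : Fin 3 → rootSet hF hfr.ee M (1 : F) := ![0, ⟨1, h1'⟩, ⟨s', hs'⟩]
    have hφ : Function.Injective φ := by
      intro i j hij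
      have h' := congrArg (fun a : rootSet hF hfr.ee M (1 : F) => ((a : K) : F)) hij
      fin_cases i <;> fin_cases j <;> simp [φ, s'] at h' ⊢
      all_goals first
        | exact hne.1 h'
        | exact hne.1 h'.symm
        | exact hne.2 h'
        | exact hne.2 h'.symm
    exact (by rw [Nat.card_fin]; norm_num : 2 < Nat.card (Fin 3)).trans_le
      (Nat.card_le_card_of_injective φ hφ)

/-- A conjugate of the transvection commuting with it is the same one. -/
lemma conj_fix {e f z : V} (hfr : Frame q e f z) (hre : Rat F₀ e) (hrf : Rat F₀ f)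
    {g : GL (Fin 3) F} (hg : g ∈ M) (hc : Commute (tu q e (1 : F)) (g * tu q e 1 * g⁻¹)) :
    g * tu q e 1 * g⁻¹ = tu q e 1 ∧ ∃ a : F, a * a ^ q = 1 ∧ app g e = a • e := by
  obtain ⟨hc2, -⟩ := S.two_data h4
  have hF := S.hF
  have H := hermForm_isHerm hF 3
  have he0 := hfr.e_ne hF
  have hadd : ∀ y : F, y + y = 0 := fun y => CharTwo.add_self_eq_zero y
  have h11 : (1 : F) + 1 ^ q = 0 := by rw [one_pow]; exact hadd 1
  have htM : tu q e (1 : F) ∈ M := S.rtu hre hfr.ee F₀.one_mem h11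
  rw [tu_conj hF (S.hMK hg).1 hfr.ee] at hc ⊢
  set w := app g e with hw
  have hww : hh w w = 0 := (herm_app hF (S.hMK hg).1 e e).trans hfr.ee
  have hwe : w ∈ F ∙ e := by
    by_contra hwe
    have hne := herm_ne_zero hF he0 hfr.ee hww hwe
    have h1 := LinearEquiv.congr_fun (congrArg app hc.eq) e
    rw [map_mul, map_mul, LinearEquiv.mul_apply, LinearEquiv.mul_apply] at h1
    rw [show app (tu q e (1 : F)) e = e by rw [tu_apply hfr.ee, hfr.ee]; simp, tu_apply hfr.ee,
      tu_apply hww, one_mul, one_mul, add_eq_left, H.add_left, hfr.ee, zero_add, H.smul_left,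
      smul_eq_zero] at h1
    rcases h1 with h1 | h1
    · exact (mul_ne_zero hne (by rw [H.conj_symm e w]; exact pow_ne_zero _ hne)) h1
    · exact he0 h1
  obtain ⟨a, ha⟩ := Submodule.mem_span_singleton.1 hwe
  rw [← ha, tu_smul hF hfr.ee, one_mul]
  have hmem : tu q e (a ^ (q + 1)) ∈ M := by
    have h := mul_mem (mul_mem hg htM) (inv_mem hg)
    rwa [tu_conj hF (S.hMK hg).1 hfr.ee, ← hw, ← ha, tu_smul hF hfr.ee, one_mul] at h
  have ha0 : a ≠ 0 := fun e0 => by
    rw [e0, zero_smul] at ha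
    exact he0 ((app g).map_eq_zero_iff.1 (hw ▸ ha.symm))
  have hk : a ^ (q + 1) = 1 := (S.root_two h4 hfr hre hrf (by
    have e1 : (a ^ (q + 1)) ^ q = a ^ (q + 1) := by
      rw [pow_succ, mul_pow, pow_q_pow_q hF, mul_comm]
    rw [e1]; exact hadd _) hmem).resolve_left (pow_ne_zero _ ha0)
  exact ⟨by rw [hk], a, by rw [← pow_succ']; exact hk, rfl⟩

set_option maxHeartbeats 2000000 in
/-- With `q₀ = 2` rational isotropic points go to rational points. -/
theorem two_ratLine {g : GL (Fin 3) F} (hg : g ∈ M) {x : V} (hx : Rat F₀ x) (hxx : hh x x = 0) :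
    RatLine F₀ (app g x) := by
  classical
  obtain ⟨hc2, h01⟩ := S.two_data h4
  have hF := S.hF
  have H := hermForm_isHerm hF 3
  haveI : Finite (Matrix (Fin 3) (Fin 3) F) := inferInstanceAs (Finite (Fin 3 → Fin 3 → F))
  haveI : Finite (GL (Fin 3) F) := Finite.of_injective Units.val Units.val_injective
  haveI : Fact (Nat.Prime 2) := ⟨Nat.prime_two⟩
  rcases eq_or_ne x 0 with rfl | hx0
  · exact ⟨0, 0, fun _ => F₀.zero_mem, by rw [map_zero, zero_smul]⟩
  have h20 : (2 : F) = 0 := by exact_mod_cast CharP.cast_eq_zero F 2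
  have hadd : ∀ y : F, y + y = 0 := fun y => by linear_combination y * h20
  have hneg : ∀ y : F, -y = y := fun y => by linear_combination -(y * h20)
  have h11 : (1 : F) + 1 ^ q = 0 := by rw [one_pow]; exact hadd 1
  obtain ⟨e, f, z, hfr, hre, hrf, hrz, hzz⟩ := S.exists_rat_frame
  have he0 := hfr.e_ne hF
  set t := tu q e (1 : F) with ht
  have htM : t ∈ M := S.rtu hre hfr.ee F₀.one_mem h11
  have ht2 : t * t = 1 := by rw [ht, tu_add hF hfr.ee, hadd, tu_zero hfr.ee]
  have htf : app t f = f + e := by rw [ht, tu_apply hfr.ee, hfr.fe hF, mul_one, one_smul]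
  have ht1 : t ≠ 1 := fun h => by
    rw [h, map_one] at htf
    exact he0 (by simpa using htf.symm)
  have hGU : ∀ {g : GL (Fin 3) F}, g ∈ M → g ∈ Cfsg.GU 3 F q := fun h => (S.hMK h).1
  have hconj : ∀ {g : GL (Fin 3) F}, g ∈ M → g * t * g⁻¹ = tu q (app g e) 1 := fun h =>
    tu_conj hF (hGU h) hfr.ee 1
  -- commuting conjugates
  have hcomm : ∀ {g : GL (Fin 3) F}, g ∈ M → Commute t (g * t * g⁻¹) →
      g * t * g⁻¹ = t ∧ ∃ a : F, a * a ^ q = 1 ∧ app g e = a • e :=
    fun hg hc => S.conj_fix h4 hfr hre hrf hg hc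
  -- the odd core
  let tM : M := ⟨t, htM⟩
  have hord : orderOf tM = 2 := orderOf_eq_prime (Subtype.ext (by simpa [pow_two, tM] using ht2))
    (fun h => ht1 (congrArg Subtype.val h))
  have hiso : IsIsolatedInvolution tM := ⟨hord, fun g hc => Subtype.ext
    (hcomm g.2 (by simpa [Commute, SemiconjBy] using congrArg Subtype.val hc.eq)).1⟩
  set O := (pPrimeCore 2 M).map M.subtype with hO
  have hOM : O ≤ M := fun y hy => by obtain ⟨y', -, rfl⟩ := hy; exact y'.2
  haveI hOn : (pPrimeCore 2 M).Normal := Cores.pPrimeCore_normal 2 M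
  have hOconj : ∀ g ∈ M, ∀ y ∈ O, g * y * g⁻¹ ∈ O := by
    rintro g hg _ ⟨y, hy, rfl⟩
    exact ⟨⟨g, hg⟩ * y * ⟨g, hg⟩⁻¹, hOn.conj_mem y hy _, rfl⟩
  have hOodd : Odd (Nat.card O) := by
    rw [hO, Subgroup.card_map_of_injective Subtype.val_injective]
    exact Nat.coprime_two_right.1 (Cores.coprime_card_pPrimeCore 2)
  have hordodd : ∀ y ∈ O, Odd (orderOf y) := fun y hy => by
    have := orderOf_dvd_natCard (⟨y, hy⟩ : O)
    rw [← Subgroup.orderOf_coe] at this
    exact hOodd.of_dvd_nat this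
  have hzs : ∀ g ∈ M, t * g * t⁻¹ * g⁻¹ ∈ O := fun g hg =>
    ⟨_, ZStar.zStar_of_brauerSuzuki ZStar.uniqueInvolution hiso ⟨g, hg⟩, rfl⟩
  -- rational elements
  obtain ⟨γ, hγF, hγ⟩ := S.ctx.exists_trace (c := -1) (F₀.neg_mem F₀.one_mem)
    (by rw [neg_pow_q hF, one_pow])
  obtain ⟨fl, hfl, hfle, hflf, hflz⟩ := exists_flip hF hfr
  have hflM : fl ∈ M := S.rat_mem hfl hfr hre hrf hrz hzz (by rwa [hfle]) (by rwa [hflf])
    (by rw [hflz]; exact hrz.smul (F₀.neg_mem F₀.one_mem))
  have hsh : ∀ s ∈ F₀, ∀ v ∈ F₀, s + s ^ q + v * v ^ q = 0 →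
      ∃ g ∈ M, app g e = e ∧ app g f = f + s • e + v • z ∧ app g z = z + (v ^ q) • e := by
    intro s hs v hv hsv
    obtain ⟨g, hgs, h1, h2, h3⟩ := exists_sh3 hF hfr (β := v ^ q) (δ := v) (γ := s)
      (by rw [pow_q_pow_q hF, hzz, mul_one]; exact hadd v)
      (by rw [hzz, mul_one, pow_succ', ← hsv])
    exact ⟨g, S.rat_mem hgs hfr hre hrf hrz hzz (by rwa [h1])
      (by rw [h2]; exact (hrf.add (hre.smul hs)).add (hrz.smul hv))
      (by rw [h3]; exact hrz.add (hre.smul (pow_mem hv q))), h1, h2, h3⟩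
  obtain ⟨u, huM, hue, huf, huz⟩ := hsh γ hγF 1 F₀.one_mem (by
    rw [one_pow, one_mul]; linear_combination hγ)
  rw [one_pow, one_smul] at huz
  rw [one_smul] at huf
  have hut : u * t * u⁻¹ = t := by rw [hconj huM, hue]
  -- the centraliser in the core
  have hcent : ∀ y ∈ O, t * y = y * t → y ∈ scal F := by
    intro y hy hyt
    have hyt' : y * t * y⁻¹ = t := by rw [← hyt, mul_inv_cancel_right]
    obtain ⟨-, a, ha, hye⟩ := hcomm (hOM hy) (by rw [hyt'])
    exact scal_of_fix hF hfr (hGU (hOM hy)) (hGU huM) hzz hue huz (hordodd y hy)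
      (hordodd _ (mul_mem hy (hOconj u huM _ (inv_mem hy)))) ha hye
  have hOcomm : ∀ y ∈ O, ∀ y' ∈ O, y * y' * y⁻¹ * y'⁻¹ ∈ scal F := fun y hy y' hy' =>
    comm_mem (fun ζ hζ => IsScal.comm hζ) ht2 (hOconj t htM) hOodd hcent hy hy'
  -- two elements of order three
  obtain ⟨ω, hωF, hω⟩ := S.ctx.exists_trace (c := 1) F₀.one_mem (one_pow q)
  have hω2 : ω * ω + ω + 1 = 0 := by
    obtain ⟨q₀, -, hq0c, -, hσ, -⟩ := S.sizes
    obtain rfl : q₀ = 2 :=
      Nat.pow_left_injective two_ne_zero (show q₀ ^ 2 = 2 ^ 2 by rw [← hq0c, h4])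
    rw [hσ ω hωF] at hω
    linear_combination hω + h20
  set r1 := fl * t * fl⁻¹ * t
  set r2 := u * r1 * u⁻¹
  have hr1O : r1 ∈ O := by
    have h := inv_mem (hzs fl hflM)
    have ht' := inv_eq_of_mul_eq_one_right ht2
    rwa [show (t * fl * t⁻¹ * fl⁻¹)⁻¹ = fl * t * fl⁻¹ * t⁻¹ by group, ht'] at h
  have hr2O : r2 ∈ O := hOconj u huM r1 hr1O
  have hr1 : app r1 e = e + f ∧ app r1 f = e ∧ app r1 z = z := by
    have e1 : fl * t * fl⁻¹ = tu q f 1 := by rw [hconj hflM, hfle]
    have he' : app t e = e := by rw [ht, tu_apply hfr.ee, hfr.ee]; simp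
    have hz' : app t z = z := by rw [ht, tu_apply hfr.ee, hfr.ze hF]; simp
    refine ⟨?_, ?_, ?_⟩
    · show app (fl * t * fl⁻¹ * t) e = _
      rw [e1, map_mul, LinearEquiv.mul_apply, he', tu_apply hfr.ff, hfr.ef, one_mul, one_smul]
    · show app (fl * t * fl⁻¹ * t) f = _
      rw [e1, map_mul, LinearEquiv.mul_apply, htf, tu_apply hfr.ff, H.add_left, hfr.ff, hfr.ef,
        zero_add, one_mul, one_smul, add_comm f e, add_assoc, ← two_smul F, h20, zero_smul, add_zero]
    · show app (fl * t * fl⁻¹ * t) z = _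
      rw [e1, map_mul, LinearEquiv.mul_apply, hz', tu_apply hfr.ff, hfr.zf hF]
      simp
  -- what commutes with both is scalar
  have hkern : ∀ y : GL (Fin 3) F, y * r1 = r1 * y → y * r2 = r2 * y → y ∈ scal F :=
    fun y h1 h2 => scal_of_comm hF hfr hω2 hzz hr1 huz h1 h2
  -- the orbit has at most nine points
  set Ω : Set (Submodule F V) := {W | ∃ y ∈ O, W = F ∙ app y e} with hΩ
  have hZ3 : ∀ y ∈ scal F, y ∈ M → ∃ a : F, a ^ 3 = 1 ∧ ∀ v : V, app y v = a • v := by
    rintro y ⟨a, ha⟩ hyM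
    refine ⟨a, ?_, ha⟩
    have hmat : (y : Matrix (Fin 3) (Fin 3) F) = a • 1 :=
      Matrix.ext_of_mulVec_single fun i => by rw [← app_apply, ha, Matrix.smul_mulVec, Matrix.one_mulVec]
    have hd := Transvect.mem_sl_iff.1 (S.hMK hyM).2
    rw [hmat, Matrix.det_smul, Matrix.det_one, mul_one, Fintype.card_fin] at hd
    exact hd
  have hΩle : Ω.ncard ≤ 9 := by
    have hval : ∀ W : Ω, ∃ y ∈ O, ∃ a b : Polynomial.nthRootsFinset 3 (1 : F),
        (W : Submodule F V) = F ∙ app y e ∧
        (∀ v, app (y * r1 * y⁻¹ * r1⁻¹) v = (a : F) • v) ∧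
        (∀ v, app (y * r2 * y⁻¹ * r2⁻¹) v = (b : F) • v) := by
      rintro ⟨W, y, hy, rfl⟩
      have hm : ∀ ρ ∈ O, y * ρ * y⁻¹ * ρ⁻¹ ∈ M := fun ρ hρ =>
        mul_mem (mul_mem (mul_mem (hOM hy) (hOM hρ)) (inv_mem (hOM hy))) (inv_mem (hOM hρ))
      obtain ⟨a, ha, hav⟩ := hZ3 _ (hOcomm y hy r1 hr1O) (hm r1 hr1O)
      obtain ⟨b, hb, hbv⟩ := hZ3 _ (hOcomm y hy r2 hr2O) (hm r2 hr2O)
      exact ⟨y, hy, ⟨a, (Polynomial.mem_nthRootsFinset (by norm_num) 1).2 ha⟩,
        ⟨b, (Polynomial.mem_nthRootsFinset (by norm_num) 1).2 hb⟩, rfl, hav, hbv⟩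
    choose y hy a b hW ha hb using hval
    have hinj : Function.Injective fun W : Ω => (a W, b W) := by
      intro W W' h
      simp only [Prod.mk.injEq] at h
      have hc : ∀ ρ, (∀ v, app (y W * ρ * (y W)⁻¹ * ρ⁻¹) v =
          app (y W' * ρ * (y W')⁻¹ * ρ⁻¹) v) → ((y W')⁻¹ * y W) * ρ = ρ * ((y W')⁻¹ * y W) := by
        intro ρ hρ
        have e0 := mul_right_cancel (gl_ext hρ)
        calc ((y W')⁻¹ * y W) * ρ = (y W')⁻¹ * (y W * ρ * (y W)⁻¹) * y W := by group
          _ = (y W')⁻¹ * (y W' * ρ * (y W')⁻¹) * y W := by rw [e0]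
          _ = ρ * ((y W')⁻¹ * y W) := by group
      obtain ⟨c, hc'⟩ := hkern _ (hc r1 fun v => by rw [ha W, ha W', h.1])
        (hc r2 fun v => by rw [hb W, hb W', h.2])
      refine Subtype.ext ?_
      rw [hW W, hW W']
      have h1 : app (y W) e = c • app (y W') e := by
        have := hc' e
        rw [map_mul, LinearEquiv.mul_apply] at this
        have := congrArg (app (y W')) this
        rwa [app_app_inv, map_smul] at this
      rw [h1, Submodule.span_singleton_smul_eq (IsUnit.mk0 c ?_)]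
      rintro rfl
      rw [zero_smul] at h1
      exact he0 ((app (y W)).map_eq_zero_iff.1 h1)
    have h := Nat.card_le_card_of_injective _ hinj
    rw [Nat.card_coe_set_eq, Nat.card_prod] at h
    have h3 : Nat.card (Polynomial.nthRootsFinset 3 (1 : F)) ≤ 3 := by
      rw [Nat.card_eq_fintype_card, Fintype.card_coe, Polynomial.nthRootsFinset_def]
      exact (Multiset.toFinset_card_le _).trans (Polynomial.card_nthRoots _ _)
    exact h.trans (Nat.mul_le_mul h3 h3)
  have hMorb : ∀ g ∈ M, (F ∙ app g e) ∈ Ω := by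
    intro g hg
    set t' := g * t * g⁻¹ with ht'
    have hρ : t' * t ∈ O := by
      have h := inv_mem (hzs g hg)
      rwa [show (t * g * t⁻¹ * g⁻¹)⁻¹ = g * t * g⁻¹ * t⁻¹ by group,
        inv_eq_of_mul_eq_one_right ht2] at h
    obtain ⟨y, hyO, hyc⟩ := conj_of_odd ht2 (by
      rw [ht']
      calc g * t * g⁻¹ * (g * t * g⁻¹) = g * (t * t) * g⁻¹ := by group
        _ = 1 := by rw [ht2, mul_one, mul_inv_cancel]) hρ (hordodd _ hρ)
    refine ⟨y, hyO, ?_⟩
    have hyM := hOM hyO
    rw [ht', hconj hyM, hconj hg] at hyc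
    have hiso' : ∀ k ∈ M, hh (app k e) (app k e) = 0 := fun k hk =>
      (herm_app hF (hGU hk) e e).trans hfr.ee
    refine tu_line_eq (q := q) (hiso' g hg) (hiso' y hyM) (x := app g f) ?_
      (fun e' => he0 ((app g).map_eq_zero_iff.1 e')) hyc.symm
    rw [herm_app hF (hGU hg), hfr.fe hF]
    exact one_ne_zero
  -- the rational points
  have hpt : ∀ s ∈ F₀, ∀ v ∈ F₀, s + s ^ q + v * v ^ q = 0 →
      ∃ k ∈ M, app k e = f + s • e + v • z := by
    intro s hs v hv hsv
    obtain ⟨k, hk, -, hkf, -⟩ := hsh s hs v hv hsv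
    exact ⟨k * fl, mul_mem hk hflM, by rw [map_mul, LinearEquiv.mul_apply, hfle, hkf]⟩
  have hsol : ∀ v : F₀, ∃ s : F₀, (s : F) + (s : F) ^ q + (v : F) * (v : F) ^ q = 0 := by
    intro v
    obtain ⟨s, hs, hs'⟩ := S.ctx.exists_trace (c := -((v : F) * (v : F) ^ q))
      (F₀.neg_mem (F₀.mul_mem v.2 (pow_mem v.2 q)))
      (by rw [neg_pow_q hF, mul_pow, pow_q_pow_q hF]; ring)
    exact ⟨⟨s, hs⟩, by linear_combination hs'⟩
  choose sol hsol using hsol
  let P : Option (F₀ × Bool) → V := fun o => match o with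
    | none => e
    | some (v, b) => f + ((sol v : F) + if b then 1 else 0) • e + (v : F) • z
  have hPk : ∀ o, ∃ k ∈ M, app k e = P o := by
    rintro (_ | ⟨v, b⟩)
    · exact ⟨1, one_mem M, by simp [P]⟩
    · refine hpt _ (F₀.add_mem (sol v).2 (by split_ifs <;> [exact F₀.one_mem; exact F₀.zero_mem]))
        _ v.2 ?_
      rw [add_pow_q hF]
      split_ifs
      · linear_combination hsol v + h11
      · rw [zero_pow_q hF]; linear_combination hsol v
  have hPΩ : ∀ o, (F ∙ P o) ∈ Ω := fun o => by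
    obtain ⟨k, hk, hke⟩ := hPk o
    exact hke ▸ hMorb k hk
  have hPinj : Function.Injective fun o => (⟨F ∙ P o, hPΩ o⟩ : Ω) := by
    intro o o' h
    have h' : (F ∙ P o) = F ∙ P o' := congrArg Subtype.val h
    obtain ⟨c, hc⟩ := Submodule.mem_span_singleton.1
      (h' ▸ Submodule.mem_span_singleton_self (P o) : P o ∈ F ∙ P o')
    have k1 := congrArg (fun w => hh w e) hc
    have k2 := congrArg (fun w => hh w f) hc
    have k3 := congrArg (fun w => hh w z) hc
    rcases o with _ | ⟨v, b⟩ <;> rcases o' with _ | ⟨v', b'⟩ <;>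
      simp [P, H.add_left, H.smul_left, hfr.ee, hfr.ff, hfr.ef, hfr.fe hF, hfr.ez, hfr.fz,
        hfr.ze hF, hfr.zf hF, hzz] at k1 k2 k3 ⊢
    · simp [k1] at k2
    · subst k1
      simp at k2 k3
      subst k3
      refine ⟨rfl, ?_⟩
      cases b <;> cases b' <;> simp_all
  haveI : Finite Ω := Subtype.finite
  have hsurj : Function.Surjective fun o => (⟨F ∙ P o, hPΩ o⟩ : Ω) := by
    have hc : Nat.card (Option (F₀ × Bool)) = 9 := by
      rw [Finite.card_option, Nat.card_prod, h4, Nat.card_eq_fintype_card, Fintype.card_bool]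
    exact (hPinj.bijective_of_nat_card_le (by rw [hc, Nat.card_coe_set_eq]; exact hΩle)).2
  have hrat : ∀ k ∈ M, RatLine F₀ (app k e) := by
    intro k hk
    obtain ⟨o, ho⟩ := hsurj ⟨_, hMorb k hk⟩
    have ho' : (F ∙ P o) = F ∙ app k e := congrArg Subtype.val ho
    obtain ⟨c, hc⟩ := Submodule.mem_span_singleton.1
      (ho'.symm ▸ Submodule.mem_span_singleton_self (app k e) : app k e ∈ F ∙ P o)
    refine ⟨c, P o, ?_, hc.symm⟩
    rcases o with _ | ⟨v, b⟩
    · exact hre
    · exact (hrf.add (hre.smul (F₀.add_mem (sol v).2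
        (by split_ifs <;> [exact F₀.one_mem; exact F₀.zero_mem])))).add (hrz.smul v.2)
  -- every rational point is in the orbit
  by_cases hB : hh x e = 0
  · have hC : hh x z = 0 := by
      have h := hxx
      rw [hfr.expand hF x, hB, hzz, div_one] at h
      simp [H.add_left, H.add_right hF, H.smul_left, H.smul_right, hfr.ee, hfr.ez, hfr.ze hF, hzz] at h
      exact h.elim id And.left
    rw [hfr.expand hF x, hB, hC, zero_smul, zero_div, zero_smul, add_zero, add_zero, map_smul]
    exact (hrat g hg).smul _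
  · have hBF := herm_rat (q := q) hx hre
    obtain ⟨k, hk, hke⟩ := hpt (hh x f / hh x e) (F₀.div_mem (herm_rat hx hrf) hBF)
      (hh x z / hh x e) (F₀.div_mem (herm_rat hx hrz) hBF) (by
        have h := hxx
        rw [hfr.expand hF x, hzz, div_one] at h
        simp [H.add_left, H.add_right hF, H.smul_left, H.smul_right, hfr.ee, hfr.ff, hfr.ef,
          hfr.fe hF, hfr.ez, hfr.ze hF, hfr.fz, hfr.zf hF, hzz] at h
        rw [div_pow, div_pow]
        have hBq := pow_ne_zero q hB
        field_simp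
        linear_combination h)
    have hxk : x = hh x e • app k e := by
      rw [hke]
      conv_lhs => rw [hfr.expand hF x, hzz, div_one]
      rw [smul_add, smul_add, smul_smul, smul_smul, mul_div_cancel₀ _ hB, mul_div_cancel₀ _ hB]
      abel
    rw [hxk, map_smul, ← LinearEquiv.mul_apply, ← map_mul]
    exact (hrat (g * k) (mul_mem hg hk)).smul _

end SFC

end Cfsg.Agent.SU3Max.Sub
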