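import Cfsg.Agent.Lib.SU3Max.MonoBlock
import Cfsg.Agent.Lib.SL3Max.C6.Main

/-!
# The normaliser of an extraspecial group of order 27 in `SU₃(p)`

Main results:
* `symp_maximal` : clause 7
-/

set_option autoImplicit false
set_option linter.unusedSectionVars false
set_option maxHeartbeats 1000000

namespace Cfsg.Agent.SU3Max

open Matrix Cfsg.Agent.Transvect Cfsg.Agent.Unitary Cfsg.Agent.C5.Uni
open scoped MatrixGroups

variable {F : Type*} [Field F] [Fintype F] {q : ℕ}

local notation "V" => (Fin 3 → F)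
local notation "hh" => Cfsg.hermForm 3 F q

section

variable (hF : Fintype.card F = q ^ 2)
include hF

/-- A matrix with orthonormal columns is unitary. -/
lemma mem_GU_of_cols (g : GL (Fin 3) F)
    (h : ∀ i j : Fin 3, g 0 i * (g 0 j) ^ q + g 1 i * (g 1 j) ^ q + g 2 i * (g 2 j) ^ q =
      if i = j then 1 else 0) : g ∈ Cfsg.GU 3 F q := by
  refine (mem_GU_iff g).2 ((isUnitary_iff_orthonormal hF _).2 ⟨fun i => ?_, fun i j hij => ?_⟩)
  · show ∑ k, g k i * (g k i) ^ q = 1
    rw [Fin.sum_univ_three, h i i, if_pos rfl]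
  · show ∑ k, g k i * (g k j) ^ q = 0
    rw [Fin.sum_univ_three, h i j, if_neg hij]

lemma omega_pow (hq : q % 3 = 2) (κ : SL3Max.C6.Ctx F) : κ.ω ^ q = κ.ω ^ 2 := by
  rw [pow_eq_pow_mod q κ.cube, hq]

lemma inv_r3_pow (hq : q % 3 = 2) (κ : SL3Max.C6.Ctx F) : (κ.r3⁻¹) ^ q = -κ.r3⁻¹ := by
  rw [inv_pow, SL3Max.C6.Ctx.r3, sub_pow_q hF, omega_pow hF hq κ, ← pow_mul, mul_comm 2 q, pow_mul,
    omega_pow hF hq κ, ← inv_neg]
  congr 1
  linear_combination (-κ.ω) * κ.cube

lemma gens_mem (hq : q % 3 = 2) (κ : SL3Max.C6.Ctx F) :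
    κ.R0 ≤ Cfsg.GU 3 F q ∧ κ.Fm ∈ Cfsg.GU 3 F q ∧ κ.Fm' ∈ Cfsg.GU 3 F q := by
  have hw := omega_pow hF hq κ
  have hr := inv_r3_pow hF hq κ
  have hw2 : (κ.ω ^ 2) ^ q = κ.ω := by
    rw [← pow_mul, mul_comm, pow_mul, hw]; linear_combination κ.ω * κ.cube
  have hq0 : q ≠ 0 := fun e => by simp [e] at hq
  have hk : -(κ.r3⁻¹ * κ.r3⁻¹) * 3 = 1 := by
    have := κ.r3_sq; have := κ.r3_ne; field_simp; linear_combination -κ.r3_sq
  have hrel := κ.rel
  refine ⟨?_, mem_GU_of_cols hF _ fun i j => ?_, mem_GU_of_cols hF _ fun i j => ?_⟩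
  · have hD : κ.D ∈ Cfsg.GU 3 F q := mem_GU_of_cols hF _ fun i j => by
      fin_cases i <;> fin_cases j <;> simp [SL3Max.C6.Ctx.D, zero_pow hq0, hw, hw2] <;> grind
    have hC : κ.C ∈ Cfsg.GU 3 F q := mem_GU_of_cols hF _ fun i j => by
      fin_cases i <;> fin_cases j <;> simp [SL3Max.C6.Ctx.C, zero_pow hq0]
    have hZ : κ.Z ∈ Cfsg.GU 3 F q := mem_GU_of_cols hF _ fun i j => by
      fin_cases i <;> fin_cases j <;> simp [SL3Max.C6.Ctx.Z, zero_pow hq0, hw] <;> grind
    rintro _ ⟨a, b, c, rfl⟩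
    exact mul_mem (mul_mem (pow_mem hZ a) (pow_mem hD b)) (pow_mem hC c)
  · fin_cases i <;> fin_cases j <;> simp [SL3Max.C6.Ctx.Fm, mul_pow, hr, hw, hw2] <;> grind
  · fin_cases i <;> fin_cases j <;> simp [SL3Max.C6.Ctx.Fm', mul_pow, hr, hw, hw2] <;> grind

lemma z3_mem (hq : q % 3 = 2) (κ : SL3Max.C6.Ctx F) (ν : F) (hν : ν ^ 3 = κ.ω) :
    κ.z3 ν hν ∈ Cfsg.GU 3 F q := by
  have hw := omega_pow hF hq κ
  have hq0 : q ≠ 0 := fun e => by simp [e] at hq
  have hcube := κ.cube
  set x := ν ^ (q + 1) with hx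
  have hx3 : x ^ 3 = 1 := by
    rw [hx, ← pow_mul, mul_comm, pow_mul, hν, pow_succ, hw]
    linear_combination κ.cube
  have hxq : x ^ q = x := by rw [hx]; exact pow_q_succ_fixed hF ν
  have hx1 : x = 1 := by
    rw [pow_eq_pow_mod q hx3, hq] at hxq
    have h0 : x ≠ 0 := fun e => by simp [e] at hx3
    exact mul_left_cancel₀ h0 (by rw [mul_one, ← pow_two]; exact hxq)
  have h1 : ν * ν ^ q = 1 := by rw [← pow_succ']; exact hx1
  refine mem_GU_of_cols hF _ fun i j => ?_
  fin_cases i <;> fin_cases j <;>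
    simp [SL3Max.C6.Ctx.z3, zero_pow hq0, mul_pow, hw] <;> grind

/-- A transvection of a prime-field unitary group gives a centre. -/
lemma centre_of_cen {p : ℕ} [Fact p.Prime] [CharP F p] (hp : q = p) {M : Subgroup (GL (Fin 3) F)}
    (hMK : M ≤ suGL 3 F q) {v : V} (hv : SL3Max.Cen M v) : v ≠ 0 ∧ v ∈ centres q M := by
  obtain ⟨hv0, φ, hφ, hφv, hT⟩ := hv
  have H := hermForm_isHerm hF 3
  have hU := (hMK hT).1
  obtain ⟨y, hy⟩ : ∃ y, φ y ≠ 0 := by
    by_contra! h
    exact hφ (LinearMap.ext fun x => by simp [h x])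
  have hT' : ∀ x, app (tv v φ) x = x + φ x • v := tv_apply hφv
  have hker : ∀ x, φ x = 0 → hh x v = 0 := by
    intro x hx
    have h1 := herm_app hF hU y x
    rw [hT', hT', hx, zero_smul, add_zero, H.add_left, H.smul_left, add_eq_left, mul_eq_zero] at h1
    exact (H.eq_zero_symm hF).1 (h1.resolve_left hy)
  have hvv : hh v v = 0 := hker v hφv
  have hsplit : ∀ x, hh x v = φ x / φ y * hh y v := fun x => by
    have h1 := hker (x - (φ x / φ y) • y) (by
      rw [map_sub, map_smul, smul_eq_mul, div_mul_cancel₀ _ hy, sub_self])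
    rwa [H.sub_left, H.smul_left, sub_eq_zero] at h1
  have hyv : hh y v ≠ 0 := by
    intro e
    obtain ⟨b, -, hvb⟩ := exists_iso_partner hF hv0 hvv
    have h1 := hsplit b
    rw [e, mul_zero, H.conj_symm v b, hvb, one_pow] at h1
    exact one_ne_zero h1
  set δ := φ y / hh y v with hδ
  have hφe : ∀ x, φ x = δ * hh x v := fun x => by
    rw [hsplit x, hδ]; field_simp
  have htu : tv v φ = tu q v δ := gl_ext fun x => by rw [hT', tu_apply hvv, hφe]
  have hδ0 : δ ≠ 0 := div_ne_zero hy hyv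
  have hskew : δ + δ ^ q = 0 := by
    have h1 := herm_app hF hU y y
    rw [hT', hφe] at h1
    simp [H.add_left, H.add_right hF, H.smul_left, H.smul_right, hvv, mul_pow] at h1
    rw [H.conj_symm y v] at h1
    have e : hh y v * (hh y v) ^ q * (δ + δ ^ q) = 0 := by linear_combination h1
    exact (mul_eq_zero.1 e).resolve_left (mul_ne_zero hyv (pow_ne_zero _ hyv))
  refine ⟨hv0, centre_of_scale hF hMK hvv hskew hδ0 (htu ▸ hT) (g := 1) (one_mem M) (a := 1)
    (by simp) fun x hx => ?_⟩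
  have hbot : x ∈ (⊥ : Subfield F) := (Subfield.mem_bot_iff_pow_eq_self F p).2 (hp ▸ hx)
  obtain ⟨a, rfl⟩ := (bot_le : (⊥ : Subfield F) ≤ (ZMod.castHom (dvd_refl p) F).fieldRange) hbot
  obtain ⟨k, rfl⟩ := ZMod.natCast_zmod_surjective (n := p) a
  rw [map_natCast, ← nsmul_one]
  exact nsmul_mem (AddSubgroup.subset_closure (Set.mem_range.2 ⟨0, pow_zero _⟩)) k

open Cfsg.Agent.SL3Max.C6 in
/-- The normaliser of the model is maximal. -/
theorem model_maximal_unitary {p : ℕ} [Fact p.Prime] [CharP F p] (hp : q = p) (hq3 : 3 ≤ q)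
    (hq : q % 3 = 2) (h5 : (5 : F) ≠ 0) (κ : SL3Max.C6.Ctx F) :
    Cfsg.Geo.IsMaximalIn (suGL 3 F q) (Cfsg.Geo.subgroupNormalizer κ.R0 ⊓ suGL 3 F q) := by
  classical
  obtain ⟨hRU, hFmU, hFm'U⟩ := gens_mem hF hq κ
  have hsl : ∀ g : GL (Fin 3) F, (g : Matrix (Fin 3) (Fin 3) F).det = 1 →
      g ∈ Cfsg.Geo.specialLinear (Fin 3) F := fun g h => Transvect.mem_sl_iff.2 h
  refine Unitary.isMaximalIn_of_forall inf_le_right ?_ fun M hHM hMK g hg hgH => ?_
  · obtain ⟨ε, hε⟩ := exists_eps hF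
    obtain ⟨δ, hδ0, hδ⟩ := exists_skew hF
    have hε0 : ε ≠ 0 := fun e => by simp [e] at hε
    have hq0 : q ≠ 0 := by omega
    set v : V := ![1, ε, 0] with hv
    have hvv : hh v v = 0 := by
      simp [Cfsg.hermForm, Fin.sum_univ_three, hv, zero_pow hq0, ← pow_succ', hε]
    refine ⟨tu q v δ, tu_mem_suGL hF hvv (by rw [hδ, add_neg_cancel]), fun hmem => ?_⟩
    obtain ⟨a, b, c, hc⟩ := (Subgroup.mem_normalizer_iff.1 hmem.1 κ.D).1 κ.D_mem
    set T := tu q v δ
    have h0 : T * κ.D = κ.el a b c * T := by rw [← hc, inv_mul_cancel_right]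
    have hDx : ∀ x : V, app κ.D x = ![x 0, κ.ω * x 1, κ.ω ^ 2 * x 2] := fun x => by
      rw [app_apply]; ext i; fin_cases i <;> simp [Ctx.D, Matrix.mulVec, dotProduct, Fin.sum_univ_three]
    have hc3 : c % 3 = 0 := by
      have h2 := congrArg (fun m : GL (Fin 3) F => app m (Pi.single (2 : Fin 3) 1) 2) h0
      simp only [map_mul, LinearEquiv.mul_apply] at h2
      rw [hDx, tu_apply hvv, tu_apply hvv, app_apply, Matrix.mulVec_add] at h2
      simp [Cfsg.hermForm, Fin.sum_univ_three, hv, zero_pow hq0, κ.el_apply] at h2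
      by_contra hne
      rw [if_neg (by omega)] at h2
      exact pow_ne_zero 2 κ.ω_ne h2
    have helx : ∀ x : V, app (κ.el a b c) x =
        ![κ.ω ^ a * x 0, κ.ω ^ (a + b) * x 1, κ.ω ^ (a + 2 * b) * x 2] := fun x => by
      rw [app_apply]
      ext i
      fin_cases i <;>
        simp [Matrix.mulVec, dotProduct, Fin.sum_univ_three, κ.el_apply, Nat.add_mod, hc3, mul_comm 2 b]
    have h1 := congrArg (fun m : GL (Fin 3) F => app m (Pi.single (0 : Fin 3) 1)) h0
    simp only [map_mul, LinearEquiv.mul_apply] at h1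
    rw [hDx, tu_apply hvv, tu_apply hvv, helx] at h1
    have e0 := congrFun h1 0
    have e1 := congrFun h1 1
    simp [Cfsg.hermForm, Fin.sum_univ_three, hv, zero_pow hq0] at e0 e1
    have hd2 : 1 + δ ≠ 0 := fun e => by
      have : δ = -1 := by linear_combination e
      rw [this, neg_pow_q hF, one_pow, neg_neg] at hδ
      exact κ.two (by linear_combination -hδ)
    have ha : κ.ω ^ a = 1 := mul_right_cancel₀ hd2 (by linear_combination -e0)
    have hb : κ.ω ^ (a + b) = 1 :=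
      mul_right_cancel₀ (mul_ne_zero hδ0 hε0) (by linear_combination -e1)
    have h3 := congrArg (fun m : GL (Fin 3) F => app m (Pi.single (1 : Fin 3) 1)) h0
    simp only [map_mul, LinearEquiv.mul_apply] at h3
    rw [hDx, tu_apply hvv, tu_apply hvv, helx] at h3
    have e3 := congrFun h3 0
    simp [Cfsg.hermForm, Fin.sum_univ_three, hv, zero_pow hq0, ha] at e3
    rcases e3 with e | e
    · exact κ.ne (mul_right_cancel₀ (pow_ne_zero q hε0) (e.trans (one_mul _).symm))
    · exact hδ0 e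
  have S : Over κ M :=
    { le := fun x hx => (hMK hx).2
      R0_le := fun r hr => hHM ⟨Subgroup.le_normalizer hr, hRU hr, κ.R0_le_sl hr⟩
      Fm_mem := hHM ⟨normalizer_of_conj fun r hr => κ.Fm_norm hr, hFmU, hsl _ κ.det_Fm⟩
      Fm'_mem := hHM ⟨normalizer_of_conj fun r hr => κ.Fm'_norm hr, hFm'U, hsl _ κ.det_Fm'⟩ }
  rcases S.cases with h | ⟨P, hP, hR, ht⟩
  · exact absurd ⟨h hg, hMK hg⟩ hgH
  by_contra hns
  have hnf : NoFix M := by
    intro x hx
    by_contra! h
    rcases κ.R0_irr (F ∙ x) (by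
      rintro _ ⟨r, hr, rfl⟩ _ ⟨y, hy, rfl⟩
      obtain ⟨k, rfl⟩ := Submodule.mem_span_singleton.1 hy
      rw [map_smul, Matrix.toLin'_apply, ← app_apply]
      exact Submodule.smul_mem _ k (h r (S.R0_le hr))) with e | e
    · exact hx (Submodule.span_singleton_eq_bot.1 e)
    · have := congrArg (fun W : Submodule F V => Module.finrank F W) e
      simp [finrank_span_singleton hx] at this
  have hnc : ∀ c, ¬ SL3Max.Cen M c := fun c hc =>
    hns (le_of_centre hF hq3 hMK hnf (centre_of_cen hF hp hMK hc).1 (centre_of_cen hF hp hMK hc).2)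
  have C : Core κ M P := { S with cen := hnc, core := hP, R0_le_P := hR, t_mem := ht }
  by_cases hν : ∃ ν : F, ν ^ 3 = κ.ω
  · obtain ⟨ν, hν⟩ := hν
    refine C.not_cube ν hν (hHM ⟨normalizer_of_conj ?_, z3_mem hF hq κ ν hν, hsl _ ?_⟩)
    · set z := κ.z3 ν hν
      have hDz : z * κ.D = κ.D * z := by
        refine Units.ext ?_
        ext i j
        fin_cases i <;> fin_cases j <;>
          simp [z, Ctx.z3, Ctx.D, Matrix.mul_apply, Fin.sum_univ_three, mul_comm]
      have hCz : z * κ.C = κ.el 2 1 1 * z := by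
        refine Units.ext ?_
        have := κ.cube
        ext i j
        rw [Units.val_mul, Units.val_mul, Matrix.mul_apply, Matrix.mul_apply, Fin.sum_univ_three,
          Fin.sum_univ_three]
        simp only [κ.el_apply]
        fin_cases i <;> fin_cases j <;> simp [z, Ctx.z3, Ctx.C] <;> grind
      rintro _ ⟨a, b, c, rfl⟩
      rw [← MulAut.conj_apply, Ctx.el, map_mul, map_mul, map_pow, map_pow, map_pow]
      refine mul_mem (mul_mem (pow_mem ?_ a) (pow_mem ?_ b)) (pow_mem ?_ c)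
      · rw [MulAut.conj_apply, ← κ.Z_comm, mul_inv_cancel_right]; exact κ.Z_mem_R0
      · rw [MulAut.conj_apply, hDz, mul_inv_cancel_right]; exact κ.D_mem
      · rw [MulAut.conj_apply, hCz, mul_inv_cancel_right]; exact κ.el_mem _ _ _
    · rw [det_fin_three]
      simp [Ctx.z3]
      linear_combination κ.ω ^ 2 * hν + κ.cube
  · push Not at hν
    exact C.not_noncube hν h5

/-- A group of order 27 in the similarity group consists of isometries. -/
lemma sim_le_GU (hq : q % 3 = 2) {R : Subgroup (GL (Fin 3) F)} (hexp : ∀ r ∈ R, r ^ 3 = 1)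
    (hsim : R ≤ Cfsg.Geo.similarityGroup hh) : R ≤ Cfsg.GU 3 F q := by
  intro r hr
  have H := hermForm_isHerm hF 3
  obtain ⟨c, hc⟩ := hsim hr
  set e : V := Pi.single 0 1
  have hee : hh e e = 1 := (single_orthonormal hF 3).1 0
  have hcq : (c : F) ^ q = c := by
    have h1 := hc e e
    rw [hee, mul_one] at h1
    rw [← h1]; exact H.self_fixed _
  have hc3 : (c : F) ^ 3 = 1 := by
    have hn : ∀ n : ℕ, ∀ u v, hh (app (r ^ n) u) (app (r ^ n) v) = (c : F) ^ n * hh u v := by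
      intro n
      induction n with
      | zero => simp
      | succ n ih =>
        intro u v
        rw [pow_succ' r, map_mul, LinearEquiv.mul_apply, LinearEquiv.mul_apply, app_apply,
          app_apply (r : GL (Fin 3) F), hc, ih, pow_succ]
        ring
    have h1 := hn 3 e e
    rw [hexp r hr, map_one, hee, mul_one] at h1
    exact h1.symm.trans hee
  have hc1 : (c : F) = 1 := by
    rw [pow_eq_pow_mod q hc3, hq] at hcq
    exact mul_left_cancel₀ c.ne_zero (by rw [mul_one, ← pow_two]; exact hcq)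
  exact (mem_GU_iff r).2 fun u v => by rw [hc, hc1, one_mul]

/-- The conjugating matrix may be taken unitary. -/
lemma exists_unitary_conj {R : Subgroup (GL (Fin 3) F)} (hq : q % 3 = 2) (κ : SL3Max.C6.Ctx F)
    {B : GL (Fin 3) F} (hRB : R = κ.R0.map (MulAut.conj B).toMonoidHom) (hR : R ≤ Cfsg.GU 3 F q) :
    ∃ U ∈ Cfsg.GU 3 F q, R = κ.R0.map (MulAut.conj U).toMonoidHom := by
  classical
  have H := hermForm_isHerm hF 3
  let G : Fin 3 → Fin 3 → F := fun i j => hh (app B (Pi.single i 1)) (app B (Pi.single j 1))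
  have hinv : ∀ x ∈ κ.R0, ∀ u v, hh (app B (app x u)) (app B (app x v)) = hh (app B u) (app B v) := by
    intro x hx u v
    have hm : B * x * B⁻¹ ∈ Cfsg.GU 3 F q := hR (hRB ▸ ⟨x, hx, rfl⟩)
    have e : ∀ w, app B (app x w) = app (B * x * B⁻¹) (app B w) := fun w => by
      rw [map_mul, map_mul, LinearEquiv.mul_apply, LinearEquiv.mul_apply, app_inv_app]
    rw [e, e, herm_app hF hm]
  have hw := omega_pow hF hq κ
  have hDs : ∀ i : Fin 3, app κ.D (Pi.single i 1) = κ.ω ^ (i : ℕ) • (Pi.single i 1 : V) := fun i => by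
    rw [app_apply]; ext k
    fin_cases i <;> fin_cases k <;>
      simp [SL3Max.C6.Ctx.D, Matrix.mulVec, dotProduct, Fin.sum_univ_three]
  have hCs : ∀ i : Fin 3, app κ.C (Pi.single i 1) = (Pi.single (i + 2) 1 : V) := fun i => by
    rw [app_apply]; ext k
    fin_cases i <;> fin_cases k <;>
      simp [SL3Max.C6.Ctx.C, Matrix.mulVec, dotProduct, Fin.sum_univ_three]
  have hoff : ∀ i j : Fin 3, i ≠ j → G i j = 0 := by
    intro i j hij
    have h1 := hinv _ κ.D_mem (Pi.single i 1) (Pi.single j 1)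
    rw [hDs, hDs, map_smul, map_smul, H.smul_left, H.smul_right, ← pow_mul, mul_comm (j : ℕ) q,
      pow_mul, hw, ← pow_mul, ← mul_assoc, ← pow_add] at h1
    by_contra h0
    have h2 : κ.ω ^ ((i : ℕ) + 2 * (j : ℕ)) = κ.ω ^ 0 := by
      rw [pow_zero]
      exact mul_right_cancel₀ (show G i j ≠ 0 from h0) (by rw [one_mul]; exact h1)
    rw [κ.pow_eq_pow_iff] at h2
    omega
  have hdiag : ∀ i : Fin 3, G i i = G 0 0 := by
    have h2 : ∀ i : Fin 3, G (i + 2) (i + 2) = G i i := fun i => by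
      have h1 := hinv _ κ.C_mem (Pi.single i 1) (Pi.single i 1)
      rwa [hCs] at h1
    intro i
    fin_cases i
    · rfl
    · exact (h2 2).trans (h2 0)
    · exact h2 0
  have hl0 : G 0 0 ≠ 0 := by
    intro e
    set w : V := app B (Pi.single 0 1)
    have hz : ∀ x : V, hh w (app B x) = 0 := fun x => by
      rw [expand_eb hF x, map_add, map_add, map_smul, map_smul, map_smul, H.add_right hF,
        H.add_right hF, H.smul_right, H.smul_right, H.smul_right]
      rw [show hh w (app B (Pi.single 0 1)) = 0 from e,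
        show hh w (app B (Pi.single 1 1)) = 0 from hoff 0 1 (by decide),
        show hh w (app B (Pi.single 2 1)) = 0 from hoff 0 2 (by decide)]
      simp
    have hw0 : w ≠ 0 := fun e' => by
      have := congrFun ((app B).map_eq_zero_iff.1 e') 0
      simp at this
    refine hw0 (funext fun i => ?_)
    have h1 := hz (app B⁻¹ (Pi.single i 1))
    rwa [app_app_inv, hermForm_single_right hF] at h1
  obtain ⟨μ, hμ⟩ := exists_norm_eq hF (c := G 0 0) (H.self_fixed _)
  have hμ0 : μ ≠ 0 := fun e => hl0 (by rw [← hμ, e]; simp)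
  let z : GL (Fin 3) F :=
    { val := μ⁻¹ • 1
      inv := μ • 1
      val_inv := by simp [smul_smul, hμ0]
      inv_val := by simp [smul_smul, hμ0] }
  have hzc : ∀ g : GL (Fin 3) F, z * g = g * z := fun g => Units.ext (by simp [z])
  refine ⟨z * B, (mem_GU_iff _).2 ((isUnitary_iff_orthonormal hF _).2 ?_), ?_⟩
  · have hcol : ∀ i, (((z * B : GL (Fin 3) F) : Matrix (Fin 3) (Fin 3) F)ᵀ i) =
        μ⁻¹ • app B (Pi.single i 1) := fun i => by
      ext k; simp [z, app_apply, Matrix.mulVec_single_one]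
    refine ⟨fun i => ?_, fun i j hij => ?_⟩
    · simp only [hcol, H.smul_left, H.smul_right]
      rw [show hh (app B (Pi.single i 1)) (app B (Pi.single i 1)) = G i i from rfl, hdiag, ← hμ,
        pow_succ', inv_pow]
      field_simp
    · simp only [hcol, H.smul_left, H.smul_right]
      rw [show hh (app B (Pi.single i 1)) (app B (Pi.single j 1)) = G i j from rfl, hoff i j hij]
      simp
  · rw [hRB]
    ext x
    simp only [Subgroup.mem_map, MulEquiv.coe_toMonoidHom, MulAut.conj_apply]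
    have e : ∀ y, z * B * y * (z * B)⁻¹ = B * y * B⁻¹ := fun y => by
      rw [_root_.mul_inv_rev, show z * B * y * (B⁻¹ * z⁻¹) = z * (B * y * B⁻¹) * z⁻¹ by group, hzc,
        mul_inv_cancel_right]
    simp only [e]

/-- Clause 7. -/
theorem symp_maximal (p : ℕ) (R : Subgroup (GL (Fin 3) F)) (hp : p.Prime) (hqp : q = p)
    (hp3 : p % 3 = 2) (hp11 : 11 ≤ p) (hR : Cfsg.Geo.IsSymplecticTypeGroup 3 R)
    (hirr : Cfsg.Geo.ActsAbsolutelyIrreducibly (Cfsg.Geo.matrixSet R))
    (hsim : R ≤ Cfsg.Geo.similarityGroup hh) :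
    Cfsg.Geo.IsMaximalIn (suGL 3 F q) (Cfsg.Geo.subgroupNormalizer R ⊓ suGL 3 F q) := by
  classical
  subst hqp
  haveI : Fact q.Prime := ⟨hp⟩
  haveI : CharP F q := by
    obtain ⟨r, hC⟩ := CharP.exists F
    obtain ⟨n, hr, hn⟩ := FiniteField.card F r
    rw [hF] at hn
    have : r ∣ q ^ 2 := hn ▸ dvd_pow_self r n.pos.ne'
    rwa [(Nat.prime_dvd_prime_iff_eq hr hp).1 (hr.dvd_of_dvd_pow this)] at hC
  have hne : ∀ k : ℕ, k.Prime → k < 11 → (k : F) ≠ 0 := fun k hk hk11 h0 => by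
    rw [CharP.cast_eq_zero_iff F q k, Nat.prime_dvd_prime_iff_eq hp hk] at h0
    omega
  have h3 : 3 ∣ Nat.card Fˣ := by
    rw [Nat.card_units, Nat.card_eq_fintype_card, hF]
    have h : q ^ 2 % 3 = 1 := by rw [Nat.pow_mod, hp3]
    omega
  haveI : Fact (Nat.Prime 3) := ⟨Nat.prime_three⟩
  obtain ⟨w, hw⟩ := exists_prime_orderOf_dvd_card' (G := Fˣ) 3 h3
  let κ : SL3Max.C6.Ctx F :=
    { ω := w
      cube := by rw [← Units.val_pow_eq_pow_val, ← hw, pow_orderOf_eq_one, Units.val_one]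
      ne := fun h1 => by rw [Units.val_eq_one.1 h1, orderOf_one] at hw; norm_num at hw
      two := by exact_mod_cast hne 2 Nat.prime_two (by norm_num) }
  have hexp : ∀ r ∈ R, r ^ 3 = 1 := fun r hr => by
    have h1 := Monoid.pow_exponent_eq_one (⟨r, hr⟩ : R)
    rw [hR.exponent_eq] at h1
    norm_num at h1
    exact h1
  obtain ⟨B, hB⟩ := SL3Max.C6.exists_conj_model κ hR.pGroup hexp hirr
  obtain ⟨U, hU, rfl⟩ := exists_unitary_conj hF hp3 κ hB (sim_le_GU hF hp3 hexp hsim)
  have h5 : (5 : F) ≠ 0 := by exact_mod_cast hne 5 Nat.prime_five (by norm_num)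
  have hmax := model_maximal_unitary hF (p := q) rfl (by omega) hp3 h5 κ
  set f := (MulAut.conj U).toMonoidHom
  have hf : Function.Injective f := (MulAut.conj U).injective
  have hs : Function.Surjective f := (MulAut.conj U).surjective
  have hstep : ∀ W ∈ Cfsg.GU 3 F q, ∀ x ∈ suGL 3 F q, W * x * W⁻¹ ∈ suGL 3 F q := fun W hW x hx =>
    ⟨mul_mem (mul_mem hW hx.1) ((Cfsg.GU 3 F q).inv_mem hW), (MonoidHom.normal_ker _).conj_mem x hx.2 W⟩
  have hKf : (suGL 3 F q).map f = suGL 3 F q := by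
    ext k
    constructor
    · rintro ⟨x, hx, rfl⟩; exact hstep U hU x hx
    · intro hk
      exact ⟨U⁻¹ * k * U, by have := hstep U⁻¹ ((Cfsg.GU 3 F q).inv_mem hU) k hk; rwa [inv_inv] at this, by
        show U * (U⁻¹ * k * U) * U⁻¹ = k; group⟩
  have hN : Cfsg.Geo.subgroupNormalizer (κ.R0.map f) ⊓ suGL 3 F q =
      (Cfsg.Geo.subgroupNormalizer κ.R0 ⊓ suGL 3 F q).map f := by
    rw [Subgroup.map_inf _ _ f hf, hKf]
    congr 1
    exact (Subgroup.map_equiv_normalizer_eq κ.R0 (MulAut.conj U)).symm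
  rw [hN, ← hKf]
  refine ⟨?_, fun M h1 h2 => ?_⟩
  · conv_lhs => rw [hKf]
    exact (Subgroup.map_lt_map_iff_of_injective hf).2 hmax.1
  · obtain ⟨M0, rfl⟩ : ∃ M0, M0.map f = M := ⟨M.comap f, Subgroup.map_comap_eq_self_of_surjective hs M⟩
    rw [Subgroup.map_le_map_iff_of_injective hf] at h2
    rw [hKf, Subgroup.map_le_map_iff_of_injective hf] at h1
    rcases hmax.2 M0 h1 h2 with e | e
    · exact Or.inl (by rw [e, hKf])
    · exact Or.inr (by rw [e])

end

end Cfsg.Agent.SU3Max
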